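import Cfsg.Agent.Lib.Leech.Transitive
import Cfsg.Agent.Lib.Leech.DotSixteenData
import Cfsg.Agent.Lib.Leech.DotEightData
import Cfsg.Agent.Lib.Leech.DotZeroData

/-!
Pairs of shortest lattice vectors with given inner product.
-/

set_option autoImplicit false

namespace Cfsg.Agent.Lib.Leech

open Cfsg
open Cfsg.Agent.Lib.Compute

theorem baseFour_mem : vecOf baseFour ∈ leechLattice :=
  lattice_of_form (p := 0) (m := 0) (by norm_num) (mem_codeList_of_inCode (by decide +kernel))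
    (by decide +kernel) (by decide +kernel)

/-- The three classes of coordinates against `baseFour`. -/
def clFour : Fin 24 → ℕ := fun i => if (i : ℕ) = 0 then 0 else if (i : ℕ) = 1 then 1 else 2

/-- Squared length above the inner product with `baseFour`. -/
def wFour : ℕ → ℤ → ℕ
  | 0, x => (x ^ 2).toNat * 33 + (x + 8).toNat
  | 1, x => (x ^ 2).toNat * 33 + (8 - x).toNat
  | _, x => (x ^ 2).toNat * 33

/-- The histogram of code words against `baseFour`. -/
def histFour : List (ℕ × ℕ) := [(0x0, 1), (0x200f68, 330), (0xf80d3c, 616), (0x6f8f7c, 77), (0xc0063a, 176), (0xf00ee6, 672), (0xdb07fe, 176), (0x800c75, 176), (0x6806fd, 672), (0xb60ffd, 176), (0x400a4f, 77), (0x500dfb, 616), (0x7d0fb7, 330), (0xffffff, 1)]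

theorem histFour_ok : histOk clFour 3 histFour = true := by decide +kernel

theorem toNat_split (a b : ℕ) (n : ℤ) (d : ℤ) (hn : 0 ≤ n) (hd : 0 ≤ d) (hd' : d < 33) (ha : b < 33) :
    a * 33 + b = (n * 33 + d).toNat ↔ (a : ℤ) = n ∧ (b : ℤ) = d := by
  omega

theorem ncard_dot_four (n : ℕ) (hn : n ≤ 64) (d : ℤ) (hd : -64 ≤ d) (hd' : d ≤ 64) (h4 : d % 4 = 0) :
    {x : GolayPt → ℤ | x ∈ leechLattice ∧ sqNorm x = n ∧ dotInt (vecOf baseFour) x = d}.ncard
      = total wFour clFour (n * 33 + (d / 4 + 16).toNat) histFour := by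
  rw [← ncard_eq_total wFour clFour 3 _ histFour histFour_ok]
  refine congrArg Set.ncard (Set.ext fun x => ?_)
  simp only [Set.mem_ofPred_eq]
  have key : (∀ q, x q ^ 2 ≤ 64) → ((∑ q, wFour (clFour (enc q)) (x q) : ℕ) : ℤ)
      = sqNorm x * 33 + (x (enc.symm 0) + 8) + (8 - x (enc.symm 1)) := by
    intro hb
    have hq : ∀ q, ((wFour (clFour (enc q)) (x q) : ℕ) : ℤ) = x q ^ 2 * 33 +
        ((if q = enc.symm 0 then x q + 8 else 0) + (if q = enc.symm 1 then 8 - x q else 0)) := by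
      intro q
      have h1 : -8 ≤ x q ∧ x q ≤ 8 := by constructor <;> nlinarith [hb q]
      have h2 : ((x q ^ 2).toNat : ℤ) = x q ^ 2 := Int.toNat_of_nonneg (sq_nonneg _)
      by_cases e0 : q = enc.symm 0
      · subst e0
        rw [if_pos rfl, if_neg (by decide)]
        simp only [clFour, Equiv.apply_symm_apply, Fin.val_zero, if_true, wFour]
        push_cast
        rw [h2]
        omega
      by_cases e1 : q = enc.symm 1
      · subst e1
        rw [if_neg (by decide), if_pos rfl]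
        simp only [clFour, Equiv.apply_symm_apply, Fin.val_one, one_ne_zero, if_false, if_true, wFour]
        push_cast
        rw [h2]
        omega
      rw [if_neg e0, if_neg e1]
      have f0 : (enc q : ℕ) ≠ 0 := fun e => e0 (by
        rw [← Equiv.symm_apply_apply enc q]; exact congrArg _ (Fin.ext e))
      have f1 : (enc q : ℕ) ≠ 1 := fun e => e1 (by
        rw [← Equiv.symm_apply_apply enc q]; exact congrArg _ (Fin.ext e))
      simp only [clFour, if_neg f0, if_neg f1, wFour]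
      push_cast
      rw [h2]
      ring
    push_cast
    simp only [hq, Finset.sum_add_distrib, Finset.sum_ite_eq', Finset.mem_univ, if_true, ← Finset.sum_mul]
    simp only [sqNorm]
    ring
  have hdot : dotInt (vecOf baseFour) x = 4 * x (enc.symm 0) - 4 * x (enc.symm 1) := by
    have hq : ∀ q, vecOf baseFour q * x q =
        (if q = enc.symm 0 then 4 * x q else 0) - (if q = enc.symm 1 then 4 * x q else 0) := by
      intro q
      have hv : vecOf baseFour q = if q = enc.symm 0 then 4 else if q = enc.symm 1 then -4 else 0 := by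
        revert q; decide +kernel
      rw [hv]
      by_cases e0 : q = enc.symm 0
      · subst e0; rw [if_pos rfl, if_pos rfl, if_neg (by decide)]; ring
      · by_cases e1 : q = enc.symm 1
        · subst e1; rw [if_neg e0, if_pos rfl, if_neg e0, if_pos rfl]; ring
        · rw [if_neg e0, if_neg e1, if_neg e0, if_neg e1]; ring
    simp only [dotInt, hq, Finset.sum_sub_distrib, Finset.sum_ite_eq', Finset.mem_univ, if_true]
  have hb0 : ∀ q, x q ^ 2 ≤ 64 → -8 ≤ x q ∧ x q ≤ 8 := fun q h => by constructor <;> nlinarith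
  constructor
  · rintro ⟨hx, hs, hdd⟩
    have hb := coord_sq_le hs (by exact_mod_cast hn)
    refine ⟨hx, hb, ?_⟩
    have hk := key hb
    have := hb0 _ (hb (enc.symm 0))
    have := hb0 _ (hb (enc.symm 1))
    omega
  · rintro ⟨hx, hb, hs⟩
    have hk := key hb
    have := hb0 _ (hb (enc.symm 0))
    have := hb0 _ (hb (enc.symm 1))
    refine ⟨hx, ?_, ?_⟩ <;> omega

theorem total_four_16 : total wFour clFour (32 * 33 + 12) histFour = 4600 := by decide +kernel

theorem total_four_8 : total wFour clFour (32 * 33 + 14) histFour = 47104 := by decide +kernel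

theorem total_four_0 : total wFour clFour (32 * 33 + 16) histFour = 93150 := by decide +kernel

theorem ncard_base_16 :
    {x : GolayPt → ℤ | x ∈ leechLattice ∧ sqNorm x = 32 ∧ dotInt (vecOf baseFour) x = -16}.ncard = 4600 := by
  have h := ncard_dot_four 32 (by norm_num) (-16) (by norm_num) (by norm_num) (by norm_num)
  rw [show ((-16 : ℤ) / 4 + 16).toNat = 12 from rfl, total_four_16] at h
  exact_mod_cast h

theorem ncard_base_8 :
    {x : GolayPt → ℤ | x ∈ leechLattice ∧ sqNorm x = 32 ∧ dotInt (vecOf baseFour) x = -8}.ncard = 47104 := by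
  have h := ncard_dot_four 32 (by norm_num) (-8) (by norm_num) (by norm_num) (by norm_num)
  rw [show ((-8 : ℤ) / 4 + 16).toNat = 14 from rfl, total_four_8] at h
  exact_mod_cast h

theorem ncard_base_0 :
    {x : GolayPt → ℤ | x ∈ leechLattice ∧ sqNorm x = 32 ∧ dotInt (vecOf baseFour) x = 0}.ncard = 93150 := by
  have h := ncard_dot_four 32 (by norm_num) (0) (by norm_num) (by norm_num) (by norm_num)
  rw [show ((0 : ℤ) / 4 + 16).toNat = 16 from rfl, total_four_0] at h
  exact_mod_cast h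

/-- A bijection induced by an automorphism on the vectors of given length and inner product. -/
theorem ncard_transfer (g : ↥Co0) (v v' : ↥leechLattice) (hg : g • v = v') (n d : ℤ) :
    {x : GolayPt → ℤ | x ∈ leechLattice ∧ sqNorm x = n ∧ dotInt (v : GolayPt → ℤ) x = d}.ncard
      = {x : GolayPt → ℤ | x ∈ leechLattice ∧ sqNorm x = n ∧ dotInt (v' : GolayPt → ℤ) x = d}.ncard := by
  refine Set.ncard_congr (fun x hx => ((g • (⟨x, hx.1⟩ : ↥leechLattice) : ↥leechLattice) : GolayPt → ℤ))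
    (fun x hx => ⟨(g • (⟨x, hx.1⟩ : ↥leechLattice)).2, by rw [co0_sqNorm]; exact hx.2.1,
      by rw [← hg, co0_dot]; exact hx.2.2⟩)
    (fun x y hx hy h => congrArg Subtype.val (smul_left_cancel g (Subtype.ext h)))
    fun y hy => ⟨((g⁻¹ • (⟨y, hy.1⟩ : ↥leechLattice) : ↥leechLattice) : GolayPt → ℤ),
      ⟨(g⁻¹ • (⟨y, hy.1⟩ : ↥leechLattice)).2, by rw [co0_sqNorm]; exact hy.2.1, ?_⟩, ?_⟩
  · rw [show v = g⁻¹ • v' by rw [← hg, inv_smul_smul], co0_dot]; exact hy.2.2
  · show ((g • (g⁻¹ • (⟨y, hy.1⟩ : ↥leechLattice)) : ↥leechLattice) : GolayPt → ℤ) = y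
    rw [smul_inv_smul]

theorem ncard_dot (v : GolayPt → ℤ) (hv : v ∈ leechLattice) (hvn : sqNorm v = 32) :
    {w : GolayPt → ℤ | w ∈ leechLattice ∧ sqNorm w = 32 ∧ dotInt v w = -16}.ncard = 4600 ∧
    {w : GolayPt → ℤ | w ∈ leechLattice ∧ sqNorm w = 32 ∧ dotInt v w = -8}.ncard = 47104 ∧
    {w : GolayPt → ℤ | w ∈ leechLattice ∧ sqNorm w = 32 ∧ dotInt v w = 0}.ncard = 93150 := by
  obtain ⟨g, hg⟩ := exists_co0_min ⟨v, hv⟩ ⟨vecOf baseFour, baseFour_mem⟩ hvn
    (by decide +kernel)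
  have h : ∀ d, {w : GolayPt → ℤ | w ∈ leechLattice ∧ sqNorm w = 32 ∧ dotInt v w = d}.ncard
      = {w : GolayPt → ℤ | w ∈ leechLattice ∧ sqNorm w = 32 ∧ dotInt (vecOf baseFour) w = d}.ncard :=
    fun d => ncard_transfer g _ _ hg 32 d
  refine ⟨?_, ?_, ?_⟩
  · rw [h]
    exact ncard_base_16
  · rw [h]
    exact ncard_base_8
  · rw [h]
    exact ncard_base_0

/-- Transitivity on the partners of a fixed shortest vector, from a certificate. -/
theorem transitive_pair (C : OCert) (hok : C.ok = true) (hN : C.N = 32) (hfix : C.fixed = [baseFour]) (d : ℤ)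
    (hd : C.dots = [d])
    (hcount : {x : GolayPt → ℤ | x ∈ leechLattice ∧ sqNorm x = 32 ∧ dotInt (vecOf baseFour) x = d}.ncard = C.total)
    (t : List ℤ) (ht : C.classes.all (fun c => c.tgt == t) = true)
    (v w w' : ↥leechLattice) (hv : sqNorm (v : GolayPt → ℤ) = 32) (hw : sqNorm (w : GolayPt → ℤ) = 32)
    (hw' : sqNorm (w' : GolayPt → ℤ) = 32) (hdw : dotInt (v : GolayPt → ℤ) (w : GolayPt → ℤ) = d)
    (hdw' : dotInt (v : GolayPt → ℤ) (w' : GolayPt → ℤ) = d) :
    ∃ g : ↥Co0, g • v = v ∧ g • w = w' := by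
  have hset : C.target = {x : GolayPt → ℤ | x ∈ leechLattice ∧ sqNorm x = 32 ∧ dotInt (vecOf baseFour) x = d} := by
    ext x
    simp [OCert.target, hfix, hd, hN]
  obtain ⟨k, hk⟩ := exists_co0_min v ⟨vecOf baseFour, baseFour_mem⟩ hv (by decide +kernel)
  have hcov := C.cover hok (by simp [hfix, baseFour_mem]) (by rw [hset, hcount])
  simp only [List.all_eq_true, beq_iff_eq] at ht
  have hmem : ∀ u : ↥leechLattice, sqNorm (u : GolayPt → ℤ) = 32 →
      dotInt (v : GolayPt → ℤ) (u : GolayPt → ℤ) = d → ((k • u : ↥leechLattice) : GolayPt → ℤ) ∈ C.target := by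
    intro u hu hdu
    rw [hset]
    refine ⟨(k • u).2, by rw [co0_sqNorm]; exact hu, ?_⟩
    have := co0_dot k v u
    rw [hk, hdu] at this
    exact this
  obtain ⟨g, hgf, c, hc, hg⟩ := hcov _ (hmem w hw hdw)
  obtain ⟨h, hhf, c', hc', hh⟩ := hcov _ (hmem w' hw' hdw')
  rw [ht c hc] at hg
  rw [ht c' hc'] at hh
  have hbF : baseFour ∈ C.fixed := by simp [hfix]
  refine ⟨k⁻¹ * (h⁻¹ * g) * k, ?_, ?_⟩
  · rw [mul_smul, hk, mul_smul, mul_smul, hgf _ hbF _ rfl, (hhf.inv C) _ hbF _ rfl]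
    exact inv_smul_eq_iff.mpr hk.symm
  · rw [mul_smul, mul_smul, mul_smul, show g • k • w = h • k • w' from Subtype.ext (hg.trans hh.symm),
      inv_smul_smul, inv_smul_smul]

theorem exists_co0_sixteen (v w w' : ↥leechLattice) (hv : sqNorm (v : GolayPt → ℤ) = 32)
    (hw : sqNorm (w : GolayPt → ℤ) = 32) (hw' : sqNorm (w' : GolayPt → ℤ) = 32)
    (hd : dotInt (v : GolayPt → ℤ) (w : GolayPt → ℤ) = -16)
    (hd' : dotInt (v : GolayPt → ℤ) (w' : GolayPt → ℤ) = -16) : ∃ g : ↥Co0, g • v = v ∧ g • w = w' :=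
  transitive_pair dotACert dotACert_ok rfl rfl (-16) rfl
    (ncard_base_16.trans
      dotACert_total.symm) [0, 4, 4, 0, 0, 0, 0, 0, 0, 0, 0, 0, 0, 0, 0, 0, 0, 0, 0, 0, 0, 0, 0, 0] (by decide +kernel) v w w' hv hw hw' hd hd'

theorem exists_co0_eight (v w w' : ↥leechLattice) (hv : sqNorm (v : GolayPt → ℤ) = 32)
    (hw : sqNorm (w : GolayPt → ℤ) = 32) (hw' : sqNorm (w' : GolayPt → ℤ) = 32)
    (hd : dotInt (v : GolayPt → ℤ) (w : GolayPt → ℤ) = -8)
    (hd' : dotInt (v : GolayPt → ℤ) (w' : GolayPt → ℤ) = -8) : ∃ g : ↥Co0, g • v = v ∧ g • w = w' :=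
  transitive_pair dotBCert dotBCert_ok rfl rfl (-8) rfl
    (ncard_base_8.trans
      dotBCert_total.symm) [0, 2, 2, 2, 2, 2, 0, 0, 2, 0, 0, 2, 0, 2, 0, 0, 0, 0, 0, 0, 0, 0, 0, 0] (by decide +kernel) v w w' hv hw hw' hd hd'

theorem exists_co0_zero (v w w' : ↥leechLattice) (hv : sqNorm (v : GolayPt → ℤ) = 32)
    (hw : sqNorm (w : GolayPt → ℤ) = 32) (hw' : sqNorm (w' : GolayPt → ℤ) = 32)
    (hd : dotInt (v : GolayPt → ℤ) (w : GolayPt → ℤ) = 0)
    (hd' : dotInt (v : GolayPt → ℤ) (w' : GolayPt → ℤ) = 0) : ∃ g : ↥Co0, g • v = v ∧ g • w = w' :=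
  transitive_pair dotCCert dotCCert_ok rfl rfl 0 rfl
    (ncard_base_0.trans
      dotCCert_total.symm) [0, 0, 4, 4, 0, 0, 0, 0, 0, 0, 0, 0, 0, 0, 0, 0, 0, 0, 0, 0, 0, 0, 0, 0] (by decide +kernel) v w w' hv hw hw' hd hd'

end Cfsg.Agent.Lib.Leech
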