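import Cfsg.Agent.Lib.Leech.Totals
import Cfsg.Agent.Lib.Leech.MinData
import Cfsg.Agent.Lib.Leech.ThreeData

/-!
The automorphism group is transitive on the vectors of the two smallest lengths.
-/

set_option autoImplicit false

namespace Cfsg.Agent.Lib.Leech

open Cfsg

/-- Covering by a certificate without fixed vectors and with a single target gives transitivity. -/
theorem transitive_of_cert (C : OCert) (hok : C.ok = true) (hfix : C.fixed = []) (hd : C.dots = [])
    {n : ℕ} (hcount : {x : GolayPt → ℤ | x ∈ leechLattice ∧ sqNorm x = C.N}.ncard = n)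
    (htot : C.total = n) (t : List ℤ) (ht : C.classes.all (fun c => c.tgt == t) = true)
    (v w : ↥leechLattice) (hv : sqNorm (v : GolayPt → ℤ) = C.N)
    (hw : sqNorm (w : GolayPt → ℤ) = C.N) : ∃ g : ↥Co0, g • v = w := by
  have hset : C.target = {x : GolayPt → ℤ | x ∈ leechLattice ∧ sqNorm x = C.N} := by
    ext x
    simp [OCert.target, hfix, hd]
  have hcov := C.cover hok (by simp [hfix]) (by rw [hset, hcount, htot])
  simp only [List.all_eq_true, beq_iff_eq] at ht
  obtain ⟨g, -, c, hc, hg⟩ := hcov v (by rw [hset]; exact ⟨v.2, hv⟩)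
  obtain ⟨h, -, c', hc', hh⟩ := hcov w (by rw [hset]; exact ⟨w.2, hw⟩)
  rw [ht c hc] at hg
  rw [ht c' hc'] at hh
  refine ⟨h⁻¹ * g, ?_⟩
  rw [mul_smul, inv_smul_eq_iff]
  exact Subtype.ext (hg.trans hh.symm)

/-- The vector `(4, -4, 0²²)` in the coordinate order of the certificates. -/
def baseFour : List ℤ := [4, -4, 0, 0, 0, 0, 0, 0, 0, 0, 0, 0, 0, 0, 0, 0, 0, 0, 0, 0, 0, 0, 0, 0]

theorem exists_co0_min (v w : ↥leechLattice) (hv : sqNorm (v : GolayPt → ℤ) = 32)
    (hw : sqNorm (w : GolayPt → ℤ) = 32) : ∃ g : ↥Co0, g • v = w :=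
  transitive_of_cert minCert minCert_ok rfl rfl (n := 196560) ncard_min minCert_total baseFour
    (by decide +kernel) v w hv hw

/-- The vector `(-1²³, -5)` in the coordinate order of the certificates. -/
def baseFive : List ℤ :=
  [-1, -1, -1, -1, -1, -1, -1, -1, -1, -1, -1, -1, -1, -1, -1, -1, -1, -1, -1, -1, -1, -1, -1, -5]

theorem exists_co0_three (v w : ↥leechLattice) (hv : sqNorm (v : GolayPt → ℤ) = 48)
    (hw : sqNorm (w : GolayPt → ℤ) = 48) : ∃ g : ↥Co0, g • v = w :=
  transitive_of_cert threeCert threeCert_ok rfl rfl (n := 16773120) ncard_three threeCert_total baseFive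
    (by decide +kernel) v w hv hw

end Cfsg.Agent.Lib.Leech
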