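import Cfsg.Agent.Lib.Leech.PermPart
import Cfsg.Agent.Lib.Leech.Transitive
import Cfsg.Agent.Lib.Leech.Pairs
import Cfsg.Agent.Lib.Compute.M24Action

/-!
# Elements of order 23 and 11 fixing frame vectors, and vectors fixed by them
-/

set_option autoImplicit false

namespace Cfsg.Agent.Lib.Leech

open Cfsg Equiv Cfsg.Agent.Lib.Compute Cfsg.Agent.Lib.M24Geom

/-- The translation modulo 23. -/
def shiftP : ℕ := 0x1700000016001500140013001200110010000f000e000d000c000b000a000900080007000600050004000300020001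

/-- An element of order 11 fixing the points 9 and 23. -/
def elevenP : ℕ := 0x170011000600130012000a00070000000d00160005000b0010000c00090015000f00040008000e0014000300020001

theorem shift_ok : elemOk 23 shiftP = true ∧ app shiftP 0 = 1 ∧ app shiftP 23 = 23 ∧
    scanCount 24 (app shiftP) (app shiftP) m24Cert [] id = 23 ∧
    (List.range 23).all (fun i => (app shiftP)^[i] 0 == i) = true := by
  decide +kernel

theorem eleven_ok : elemOk 11 elevenP = true ∧ app elevenP 0 = 1 ∧ app elevenP 23 = 23 ∧ app elevenP 9 = 9 ∧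
    scanCount 24 (app elevenP) (app elevenP) m24Cert [] id = 11 ∧
    (List.range 11).all (fun k =>
      (app elevenP)^[k] 0 == [0, 1, 2, 3, 20, 19, 18, 10, 12, 11, 16].getD k 0 &&
        (app elevenP)^[k] 4 == [4, 14, 22, 17, 7, 15, 13, 5, 8, 21, 6].getD k 0) = true := by
  decide +kernel

/-- The translation as an element of the code's group. -/
noncomputable def shiftE : ↥M24 :=
  ⟨gperm shiftP, (elemOk_spec (by norm_num) shift_ok.1).2.1⟩

/-- The element of order 11 in the code's group. -/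
noncomputable def elevenE : ↥M24 :=
  ⟨gperm elevenP, (elemOk_spec (by norm_num) eleven_ok.1).2.1⟩

theorem orderOf_elem {p P : ℕ} [Fact p.Prime] (h : elemOk p P = true) (i : Fin 24) (hi : app P i ≠ i) :
    orderOf (⟨gperm P, (elemOk_spec (Fact.out : p.Prime).pos h).2.1⟩ : ↥M24) = p := by
  obtain ⟨hv, -, hp⟩ := elemOk_spec (Fact.out : p.Prime).pos h
  refine orderOf_eq_prime (Subtype.ext hp) fun e => hi ?_
  have h1 : gperm P (enc.symm i) = enc.symm i := by
    rw [show gperm P = 1 from congrArg Subtype.val e]; rfl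
  have h2 := gperm_apply hv (enc.symm i)
  rw [h1, Equiv.apply_symm_apply] at h2
  exact h2.symm

theorem orderOf_shiftE : orderOf shiftE = 23 :=
  haveI : Fact (Nat.Prime 23) := ⟨by norm_num⟩
  orderOf_elem shift_ok.1 0 (by rw [Fin.val_zero, shift_ok.2.1]; decide)

theorem orderOf_elevenE : orderOf elevenE = 11 :=
  haveI : Fact (Nat.Prime 11) := ⟨by norm_num⟩
  orderOf_elem eleven_ok.1 0 (by rw [Fin.val_zero, eleven_ok.2.1]; decide)

theorem shiftE_comm (π : ↥M24) (h : π * shiftE = shiftE * π) : π ∈ Subgroup.zpowers shiftE :=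
  mem_zpowers_of_comm (elemOk_spec (by norm_num) shift_ok.1).1 _ orderOf_shiftE shift_ok.2.2.2.1 π h

theorem elevenE_comm (π : ↥M24) (h : π * elevenE = elevenE * π) : π ∈ Subgroup.zpowers elevenE :=
  mem_zpowers_of_comm (elemOk_spec (by norm_num) eleven_ok.1).1 _ orderOf_elevenE eleven_ok.2.2.2.2.1 π h

theorem fixes_of_app {P : ℕ} (hv : Valid 24 P) (i : Fin 24) (h : app P i = i) :
    gperm P (enc.symm i) = enc.symm i :=
  enc.injective (Fin.ext (by rw [gperm_apply hv, Equiv.apply_symm_apply]; exact h))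

theorem shiftE_fix : (shiftE : Perm GolayPt) (enc.symm 23) = enc.symm 23 :=
  fixes_of_app (elemOk_spec (by norm_num) shift_ok.1).1 23 shift_ok.2.2.1

theorem elevenE_fix : (elevenE : Perm GolayPt) (enc.symm 23) = enc.symm 23 ∧
    (elevenE : Perm GolayPt) (enc.symm 9) = enc.symm 9 :=
  ⟨fixes_of_app (elemOk_spec (by norm_num) eleven_ok.1).1 23 eleven_ok.2.2.1,
    fixes_of_app (elemOk_spec (by norm_num) eleven_ok.1).1 9 eleven_ok.2.2.2.1⟩

/-- Coordinates of a vector fixed by a permutation. -/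
theorem apply_eq_of_fixed {π : ↥M24} {u : ↥leechLattice} (h : permHom π • u = u) (q : GolayPt) :
    (u : GolayPt → ℤ) ((π : Perm GolayPt) q) = (u : GolayPt → ℤ) q := by
  conv_lhs => rw [← h]
  rw [permHom_apply, Equiv.symm_apply_apply]

theorem sum_enc_symm (f : GolayPt → ℤ) : ∑ q, f q = ∑ i : Fin 24, f (enc.symm i) :=
  (Equiv.sum_comp enc.symm f).symm

theorem sum_shift_classes {u : ↥leechLattice} (h : permHom shiftE • u = u) (F : ℤ → Fin 24 → ℤ) :
    ∑ i : Fin 24, F ((u : GolayPt → ℤ) (enc.symm i)) i = ∑ i : Fin 24,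
      F (if (i : ℕ) = 23 then (u : GolayPt → ℤ) (enc.symm 23) else (u : GolayPt → ℤ) (enc.symm 0)) i := by
  refine Finset.sum_congr rfl fun i _ => ?_
  split_ifs with hi
  · rw [show i = 23 from Fin.ext hi]
  · obtain ⟨-, -, -, -, hch⟩ := shift_ok
    simp only [List.all_eq_true, List.mem_range, beq_iff_eq] at hch
    rw [const_chain (elemOk_spec (by norm_num) shift_ok.1).1 _ (apply_eq_of_fixed h) i 0 i
      (hch i (by omega))]

/-- A fixed vector of squared length 64 of the translation is a frame vector. -/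
theorem shift_fixed {u : ↥leechLattice} (h : permHom shiftE • u = u)
    (hn : sqNorm (u : GolayPt → ℤ) = 64) :
    u = eightAt (enc.symm 23) ∨ u = -eightAt (enc.symm 23) := by
  have hs : sqNorm (u : GolayPt → ℤ) = ∑ i : Fin 24, (fun (t : ℤ) (_ : Fin 24) => t ^ 2) ((u : GolayPt → ℤ) (enc.symm i)) i := by
    rw [sqNorm, sum_enc_symm]
  rw [hs, sum_shift_classes h (fun (t : ℤ) (_ : Fin 24) => t ^ 2)] at hn
  set A := (u : GolayPt → ℤ) (enc.symm 0) with hA
  set B := (u : GolayPt → ℤ) (enc.symm 23) with hB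
  simp only [Fin.sum_univ_succ, Fin.sum_univ_zero] at hn
  norm_num at hn
  have hA1 : -1 ≤ A ∧ A ≤ 1 := ⟨by nlinarith, by nlinarith⟩
  have hB1 : -8 ≤ B ∧ B ≤ 8 := ⟨by nlinarith, by nlinarith⟩
  obtain ⟨hA0, hB8⟩ : A = 0 ∧ (B = 8 ∨ B = -8) := by
    obtain ⟨h1, h2⟩ := hA1; obtain ⟨h3, h4⟩ := hB1
    interval_cases A <;> interval_cases B <;> first | omega | exact ⟨rfl, Or.inl rfl⟩ | exact ⟨rfl, Or.inr rfl⟩
  have hu : ∀ q, (u : GolayPt → ℤ) q = if q = enc.symm 23 then B else 0 := by
    intro q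
    obtain ⟨i, rfl⟩ := enc.symm.surjective q
    obtain ⟨-, -, -, -, hch⟩ := shift_ok
    simp only [List.all_eq_true, List.mem_range, beq_iff_eq] at hch
    split_ifs with hi
    · rw [hi]
    · have hne : (i : ℕ) ≠ 23 := fun e => hi (by rw [show i = 23 from Fin.ext e])
      rw [const_chain (elemOk_spec (by norm_num) shift_ok.1).1 _ (apply_eq_of_fixed h) i 0 i
        (hch i (by omega)), ← hA, hA0]
  rcases hB8 with e | e
  · left
    exact Subtype.ext (funext fun q => by rw [hu, e]; simp [eightAt, Pi.single_apply])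
  · right
    exact Subtype.ext (funext fun q => by
      rw [hu, e, AddSubgroup.coe_neg, Pi.neg_apply]
      simp only [eightAt, Pi.single_apply]
      split_ifs <;> norm_num)

theorem dot_eightAt (v : GolayPt → ℤ) (i : GolayPt) : dotInt v (eightAt i : GolayPt → ℤ) = 8 * v i := by
  simp [dotInt, eightAt, Pi.single_apply, mul_comm]

/-- In a stabiliser of a vector with nonzero last coordinate the fixed frame vector is determined. -/
theorem shift_uniq {g : ↥Co0} {v : ↥leechLattice} (hv : g • v = v)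
    (hne : (v : GolayPt → ℤ) (enc.symm 23) ≠ 0)
    (h : permHom shiftE • (g • eightAt (enc.symm 23)) = g • eightAt (enc.symm 23)) :
    g • eightAt (enc.symm 23) = eightAt (enc.symm 23) := by
  rcases shift_fixed h (by rw [co0_sqNorm]; exact sqNorm_eightAt _) with e | e
  · exact e
  · exfalso
    have h1 := co0_dot g v (eightAt (enc.symm 23))
    rw [hv, e, AddSubgroup.coe_neg] at h1
    have h2 : dotInt (v : GolayPt → ℤ) (-(eightAt (enc.symm 23) : GolayPt → ℤ))
        = -dotInt (v : GolayPt → ℤ) (eightAt (enc.symm 23) : GolayPt → ℤ) := by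
      simp [dotInt, Finset.sum_neg_distrib]
    rw [h2, dot_eightAt] at h1
    exact hne (by omega)

/-- The stabiliser of a vector is the conjugate of another one in the same orbit. -/
theorem stabilizer_equiv_of_smul {v w : ↥leechLattice} (g : ↥Co0) (h : g • v = w) :
    Nonempty (↥(MulAction.stabilizer ↥Co0 v) ≃* ↥(MulAction.stabilizer ↥Co0 w)) :=
  ⟨MulAction.stabilizerEquivStabilizer (g := g) h.symm⟩

theorem card_stabilizer_layer {n N : ℕ} (v : ↥leechLattice) (hv : sqNorm (v : GolayPt → ℤ) = n)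
    (hcount : {x : GolayPt → ℤ | x ∈ leechLattice ∧ sqNorm x = n}.ncard = N)
    (htrans : ∀ v w : ↥leechLattice, sqNorm (v : GolayPt → ℤ) = n → sqNorm (w : GolayPt → ℤ) = n →
      ∃ g : ↥Co0, g • v = w) :
    Nat.card (MulAction.stabilizer ↥Co0 v) * N = 8315553613086720000 := by
  rw [← card_co0, ← Subgroup.card_mul_index (MulAction.stabilizer ↥Co0 v), MulAction.index_stabilizer]
  congr 1
  rw [← hcount, ← Set.ncard_image_of_injective (MulAction.orbit ↥Co0 v) Subtype.val_injective]
  congr 1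
  ext x
  constructor
  · rintro ⟨hx, hxn⟩
    obtain ⟨g, hg⟩ := htrans v ⟨x, hx⟩ hv hxn
    exact ⟨⟨x, hx⟩, ⟨g, hg⟩, rfl⟩
  · rintro ⟨y, ⟨g, rfl⟩, rfl⟩
    exact ⟨(g • v).2, (co0_sqNorm g v).trans hv⟩

theorem isSimpleGroup_stab_point (a : GolayPt) : IsSimpleGroup ↥(MulAction.stabilizer ↥M24 a) := by
  obtain ⟨e⟩ := stabilizer_point_equiv a
  have := isSimpleGroup_cert1
  exact e.symm.isSimpleGroup

theorem permHom_fix {π : ↥M24} {a : GolayPt} (v : ↥leechLattice) {s : ℤ}
    (hv : ∀ q, q ≠ a → (v : GolayPt → ℤ) q = s) (ha : π • a = a) : permHom π • v = v := by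
  refine Subtype.ext (funext fun q => ?_)
  rw [permHom_apply]
  have ha' : (π : Perm GolayPt) a = a := ha
  by_cases hq : q = a
  · rw [hq, (Equiv.symm_apply_eq (π : Perm GolayPt)).2 ha'.symm]
  · rw [hv q hq, hv _ fun e => hq (by rw [← ha', ← e, Equiv.apply_symm_apply])]

/-- The subgroup of permutations inside a stabiliser. -/
theorem mem_map_of_fix (g : ↥Co0) (a : GolayPt) (v : ↥leechLattice) {s : ℤ} (hs : s ≠ 0)
    (hv : ∀ q, q ≠ a → (v : GolayPt → ℤ) q = s) (ha : g • eightAt a = eightAt a) (hgv : g • v = v) :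
    g ∈ (MulAction.stabilizer ↥M24 a).map permHom := by
  obtain ⟨π, hπ, rfl⟩ := perm_of_fix g a v hs hv ha hgv
  exact Subgroup.mem_map_of_mem _ (show π ∈ MulAction.stabilizer ↥M24 a from hπ)

end Cfsg.Agent.Lib.Leech
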