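import Cfsg.Agent.Lib.Leech.ConfigBase
import Cfsg.Agent.Lib.Leech.DotNegData
import Cfsg.Agent.Lib.Leech.Orb352Data
import Cfsg.Agent.Lib.Leech.Orb1100Data
import Cfsg.Agent.Lib.Leech.Orb4125Data
import Cfsg.Agent.Lib.Leech.Orb5600Data

/-!
The configurations of the Conway, McLaughlin and Higman–Sims groups inside the lattice.
-/

set_option autoImplicit false

namespace Cfsg.Agent.Lib.Leech

open Cfsg
open Cfsg.Agent.Lib.Compute

/-- The target of a transitive configuration. -/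
def tgtDotNeg : List ℤ := [0, 0, 0, 0, 0, 0, 0, 0, 0, 0, 0, 0, 0, 0, -4, 0, -4, 0, 0, 0, 0, 0, 0, 0]

theorem transDotNeg : Trans [bU] [-16] tgtDotNeg 11178 :=
  trans_of_vcert dotNegCert dotNegCert_ok rfl rfl rfl (by simp [bU_mem]) ncard_N dotNegCert_size (by decide +kernel)

theorem countOrb352 : (dotSet [bU, bZ] [-16, -8]).ncard = 352 := by
  refine Eq.trans (congrArg Set.ncard (Set.ext fun x => ?_)) (dotSet_sub (F := [bU]) (ds := [-16]) dotNegCert dotNegCert_ok rfl rfl rfl (by simp [bU_mem]) (ncard_N.trans dotNegCert_size.symm) (G := [bZ]) (es := [-8]) (by decide +kernel) 352 (by decide +kernel))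
  simp [dotSet]
  tauto

/-- The target of a transitive configuration. -/
def tgtOrb352 : List ℤ := [0, 0, 0, 0, 0, 0, -2, 0, -2, 0, -2, -2, -2, 0, 0, 0, 2, -2, 0, 0, 0, 0, 0, 2]

theorem transOrb352 : Trans [bU, bZ] [-16, -8] tgtOrb352 352 :=
  trans_of_ocert orb352Cert orb352Cert_ok rfl rfl rfl (by simp [bU_mem, bZ_mem]) countOrb352 orb352Cert_total (by decide +kernel)

theorem countOrb1100 : (dotSet [bU, bZ] [-16, 16]).ncard = 1100 := by
  refine Eq.trans (congrArg Set.ncard (Set.ext fun x => ?_)) (dotSet_sub (F := [bU]) (ds := [-16]) dotNegCert dotNegCert_ok rfl rfl rfl (by simp [bU_mem]) (ncard_N.trans dotNegCert_size.symm) (G := [bZ]) (es := [16]) (by decide +kernel) 1100 (by decide +kernel))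
  simp [dotSet]
  tauto

/-- The target of a transitive configuration. -/
def tgtOrb1100 : List ℤ := [0, 0, 0, 0, 0, 0, 0, 0, 0, 0, 0, 0, -4, 0, 0, 0, -4, 0, 0, 0, 0, 0, 0, 0]

theorem transOrb1100 : Trans [bU, bZ] [-16, 16] tgtOrb1100 1100 :=
  trans_of_vcert orb1100Cert orb1100Cert_ok rfl rfl rfl (by simp [bU_mem, bZ_mem]) countOrb1100 orb1100Cert_size (by decide +kernel)

theorem countOrb4125 : (dotSet [bU, bZ] [-16, 0]).ncard = 4125 := by
  refine Eq.trans (congrArg Set.ncard (Set.ext fun x => ?_)) (dotSet_sub (F := [bU]) (ds := [-16]) dotNegCert dotNegCert_ok rfl rfl rfl (by simp [bU_mem]) (ncard_N.trans dotNegCert_size.symm) (G := [bZ]) (es := [0]) (by decide +kernel) 4125 (by decide +kernel))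
  simp [dotSet]
  tauto

/-- The target of a transitive configuration. -/
def tgtOrb4125 : List ℤ := [0, 0, 0, 0, 0, 0, 0, 0, 0, 0, 0, -4, -4, 0, 0, 0, 0, 0, 0, 0, 0, 0, 0, 0]

theorem transOrb4125 : Trans [bU, bZ] [-16, 0] tgtOrb4125 4125 :=
  trans_of_vcert orb4125Cert orb4125Cert_ok rfl rfl rfl (by simp [bU_mem, bZ_mem]) countOrb4125 orb4125Cert_size (by decide +kernel)

theorem countOrb5600 : (dotSet [bU, bZ] [-16, 8]).ncard = 5600 := by
  refine Eq.trans (congrArg Set.ncard (Set.ext fun x => ?_)) (dotSet_sub (F := [bU]) (ds := [-16]) dotNegCert dotNegCert_ok rfl rfl rfl (by simp [bU_mem]) (ncard_N.trans dotNegCert_size.symm) (G := [bZ]) (es := [8]) (by decide +kernel) 5600 (by decide +kernel))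
  simp [dotSet]
  tauto

/-- The target of a transitive configuration. -/
def tgtOrb5600 : List ℤ := [0, 0, 0, 0, 0, 0, 0, 0, 0, 0, -2, -2, -2, 2, -2, 0, 0, 2, 0, 0, 2, 0, 2, 0]

theorem transOrb5600 : Trans [bU, bZ] [-16, 8] tgtOrb5600 5600 :=
  trans_of_vcert orb5600Cert orb5600Cert_ok rfl rfl rfl (by simp [bU_mem, bZ_mem]) countOrb5600 orb5600Cert_size (by decide +kernel)

theorem countSelf11178 : (dotSet [bU, bZ] [-16, 32]).ncard = 1 := by
  refine Eq.trans (congrArg Set.ncard (Set.ext fun x => ?_)) (dotSet_sub (F := [bU]) (ds := [-16]) dotNegCert dotNegCert_ok rfl rfl rfl (by simp [bU_mem]) (ncard_N.trans dotNegCert_size.symm) (G := [bZ]) (es := [32]) (by decide +kernel) 1 (by decide +kernel))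
  simp [dotSet]
  tauto

end Cfsg.Agent.Lib.Leech
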