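import Cfsg.Agent.Lib.Leech.ConfigBase

/-!
Moving configurations of lattice vectors to base position.
-/

set_option autoImplicit false

namespace Cfsg.Agent.Lib.Leech

open Cfsg
open Cfsg.Agent.Lib.Compute

theorem sqNorm_sub_pair (a b : GolayPt → ℤ) : sqNorm (a - b) = sqNorm a - 2 * dotInt a b + sqNorm b := by
  simp only [sqNorm, dotInt, Pi.sub_apply, Finset.mul_sum, ← Finset.sum_sub_distrib, ← Finset.sum_add_distrib]
  exact Finset.sum_congr rfl fun q _ => by ring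

theorem sqNorm_sub_iff {u x : GolayPt → ℤ} (hu : sqNorm u = 48) (hx : sqNorm x = 32) :
    sqNorm (u - x) = 32 ↔ dotInt u x = 24 := by
  rw [sqNorm_sub_pair, hu, hx]
  omega

theorem summand_set (u : ↥leechLattice) (hu : sqNorm (u : GolayPt → ℤ) = 48) :
    {v : ↥leechLattice | sqNorm (v : GolayPt → ℤ) = 32 ∧
      sqNorm ((u : GolayPt → ℤ) - (v : GolayPt → ℤ)) = 32} = subSet [u] [24] := by
  ext v
  rw [subSet_one, Set.mem_ofPred_eq]
  constructor
  · rintro ⟨h1, h2⟩; exact ⟨h1, (sqNorm_sub_iff hu h1).mp h2⟩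
  · rintro ⟨h1, h2⟩; exact ⟨h1, (sqNorm_sub_iff hu h1).mpr h2⟩

theorem mcl_set (u v : ↥leechLattice) (hu : sqNorm (u : GolayPt → ℤ) = 48) :
    {x : ↥leechLattice | sqNorm (x : GolayPt → ℤ) = 32 ∧
      sqNorm ((u : GolayPt → ℤ) - (x : GolayPt → ℤ)) = 32 ∧
      dotInt (v : GolayPt → ℤ) (x : GolayPt → ℤ) = 16} = subSet [u, v] [24, 16] := by
  ext x
  rw [subSet_two, Set.mem_ofPred_eq]
  constructor
  · rintro ⟨h1, h2, h3⟩; exact ⟨h1, (sqNorm_sub_iff hu h1).mp h2, h3⟩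
  · rintro ⟨h1, h2, h3⟩; exact ⟨h1, (sqNorm_sub_iff hu h1).mpr h2, h3⟩

theorem subSet_fibre (vs : List ↥leechLattice) (ds : List ℤ) (w : ↥leechLattice) (d : ℤ) :
    {x ∈ subSet vs ds | dotInt (w : GolayPt → ℤ) (x : GolayPt → ℤ) = d} = subSet (vs ++ [w]) (ds ++ [d]) := by
  ext x
  simp only [subSet, Set.mem_ofPred_eq, List.map_append, List.map_cons, List.map_nil]
  constructor
  · rintro ⟨⟨h1, h2⟩, h3⟩
    exact ⟨h1, by rw [h2, h3]⟩
  · rintro ⟨h1, h2⟩
    obtain ⟨e1, e2⟩ := List.append_inj' h2 rfl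
    exact ⟨⟨h1, e1⟩, by simpa using e2⟩

theorem ncard_subSet {k : ↥Co0} {vs : List ↥leechLattice} {F : List (List ℤ)} {ds : List ℤ} (hk : Moves k vs F) :
    (subSet vs ds).ncard = (dotSet F ds).ncard := by
  refine Set.ncard_congr (fun x _ => ((k • x : ↥leechLattice) : GolayPt → ℤ))
    (fun x hx => (Trans.mem_iff hk x).mpr hx)
    (fun x y _ _ e => smul_left_cancel k (Subtype.ext e)) fun y hy => ?_
  refine ⟨k⁻¹ • (⟨y, hy.1⟩ : ↥leechLattice), (Trans.mem_iff hk _).mp ?_, ?_⟩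
  · rw [smul_inv_smul]; exact hy
  · rw [smul_inv_smul]

theorem dotInt_self_norm (x : ↥leechLattice) : dotInt (x : GolayPt → ℤ) (x : GolayPt → ℤ) = sqNorm (x : GolayPt → ℤ) :=
  Finset.sum_congr rfl fun _ _ => (pow_two _).symm

/-- Two vectors of the second shell with inner product `-32` go to the base pair. -/
theorem moves_hs {t : List ℤ} (hT : Trans [bU] [-16] t 11178) (ht : t = bZ) (v w : ↥leechLattice)
    (hv : sqNorm (v : GolayPt → ℤ) = 48) (hw : sqNorm (w : GolayPt → ℤ) = 48)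
    (hvw : dotInt (v : GolayPt → ℤ) (w : GolayPt → ℤ) = -32) : ∃ k : ↥Co0, Moves k [v, w] [bU, bW] := by
  obtain ⟨k, hk⟩ := moves_three v hv
  have hz : -(v + w) ∈ subSet [v] [-16] := by
    rw [subSet_one]
    have hs : ((-(v + w) : ↥leechLattice) : GolayPt → ℤ) = -((v : GolayPt → ℤ) + (w : GolayPt → ℤ)) := rfl
    rw [hs]
    refine ⟨?_, ?_⟩
    · have : sqNorm (-((v : GolayPt → ℤ) + (w : GolayPt → ℤ)))
          = sqNorm (v : GolayPt → ℤ) + 2 * dotInt (v : GolayPt → ℤ) w + sqNorm (w : GolayPt → ℤ) := by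
        simp only [sqNorm, dotInt, Pi.neg_apply, Pi.add_apply, Finset.mul_sum, ← Finset.sum_add_distrib]
        exact Finset.sum_congr rfl fun q _ => by ring
      rw [this, hv, hw, hvw]; norm_num
    · have : dotInt (v : GolayPt → ℤ) (-((v : GolayPt → ℤ) + (w : GolayPt → ℤ)))
          = -sqNorm (v : GolayPt → ℤ) - dotInt (v : GolayPt → ℤ) w := by
        simp only [sqNorm, dotInt, Pi.neg_apply, Pi.add_apply, ← Finset.sum_neg_distrib, ← Finset.sum_sub_distrib]
        exact Finset.sum_congr rfl fun q _ => by ring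
      rw [this, hv, hvw]; norm_num
  obtain ⟨k', hk'⟩ := hT.extend hk hz
  subst ht
  refine ⟨k', ?_⟩
  simp only [Moves, List.cons_append, List.nil_append, List.map_cons, List.map_nil, List.cons.injEq,
    and_true] at hk' ⊢
  refine ⟨hk'.1, ?_⟩
  have hadd : k' • (v + w) = k' • v + k' • w := k'.2.1 v w
  have h2 : ((k' • v : ↥leechLattice) : GolayPt → ℤ) + ((k' • w : ↥leechLattice) : GolayPt → ℤ) = -vecOf bZ := by
    rw [← hk'.2, co0_neg, hadd]
    simp
  have h3 : vecOf bW = -vecOf bZ - vecOf bU := by decide +kernel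
  rw [h3, ← h2, hk'.1]
  abel

end Cfsg.Agent.Lib.Leech
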