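import Mathlib

/-!
# A simplicity criterion from a self-centralising element of prime order

Let `x` have prime order `p`, be self-centralising, and have its normaliser inside a simple
subgroup `M`.  A normal subgroup of order divisible by `p` is then everything (Frattini), and a
normal subgroup of order prime to `p` has all its Sylow subgroups of order `1` modulo `p`.
-/

set_option autoImplicit false

namespace Cfsg.Agent.Lib.SelfCentral

variable {G : Type*} [Group G] [Finite G] {x : G} {p : ℕ}

/-- A subgroup normalised by a self-centralising element of order `p` and of order prime to `p`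
has order `1` modulo `p`. -/
theorem card_modEq_one [hp : Fact p.Prime] (hord : orderOf x = p)
    (hcent : ∀ g : G, g * x = x * g → g ∈ Subgroup.zpowers x) (Q : Subgroup G)
    (hinv : x ∈ Subgroup.normalizer (Q : Set G)) (hQ : ¬ p ∣ Nat.card Q) :
    Nat.card Q ≡ 1 [MOD p] := by
  have hle : Subgroup.zpowers x ≤ Subgroup.normalizer (Q : Set G) := Subgroup.zpowers_le.2 hinv
  letI : MulAction ↥(Subgroup.zpowers x) ↥Q :=
    MulAction.compHom _ (Q.normalizerMonoidHom.comp (Subgroup.inclusion hle))
  have hP : IsPGroup p ↥(Subgroup.zpowers x) := IsPGroup.of_card (n := 1) (by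
    rw [Nat.card_zpowers, hord, pow_one])
  have hfix : MulAction.fixedPoints ↥(Subgroup.zpowers x) ↥Q = {1} := by
    ext q
    simp only [MulAction.mem_fixedPoints, Set.mem_singleton_iff]
    constructor
    · intro h
      have h1 : x * (q : G) * x⁻¹ = q := congrArg Subtype.val (h ⟨x, Subgroup.mem_zpowers x⟩)
      have hq : (q : G) ∈ Subgroup.zpowers x := hcent _ (by
        calc (q : G) * x = x * q * x⁻¹ * x := by rw [h1]
          _ = x * q := by group)
      by_contra hne
      have hne' : (q : G) ≠ 1 := fun e => hne (Subtype.ext e)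
      have h2 : orderOf (q : G) = p := by
        rcases (Nat.dvd_prime hp.out).1 (hord ▸ orderOf_dvd_of_mem_zpowers hq) with h | h
        · exact absurd (orderOf_eq_one_iff.1 h) hne'
        · exact h
      exact hQ (h2 ▸ Subgroup.orderOf_dvd_natCard _ q.2)
    · rintro rfl g
      refine Subtype.ext ?_
      show (g : G) * 1 * (g : G)⁻¹ = 1
      group
  have h := hP.card_modEq_card_fixedPoints ↥Q
  rwa [hfix, Nat.card_coe_set_eq, Set.ncard_singleton] at h

/-- The Sylow orders of a normal subgroup of order prime to `p` are `1` modulo `p`. -/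
theorem factor_modEq_one [hp : Fact p.Prime] (hord : orderOf x = p)
    (hcent : ∀ g : G, g * x = x * g → g ∈ Subgroup.zpowers x) (K : Subgroup G) [hK : K.Normal]
    (hKp : ¬ p ∣ Nat.card K) (q : ℕ) [hq : Fact q.Prime] :
    q ^ (Nat.card K).factorization q ≡ 1 [MOD p] := by
  letI : MulAction ↥(Subgroup.zpowers x) (Sylow q ↥K) :=
    MulAction.compHom _ ((MulAut.conjNormal (H := K)).comp (Subgroup.zpowers x).subtype)
  have hP : IsPGroup p ↥(Subgroup.zpowers x) := IsPGroup.of_card (n := 1) (by
    rw [Nat.card_zpowers, hord, pow_one])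
  have hn : ¬ p ∣ Nat.card (Sylow q ↥K) := fun h =>
    hKp (h.trans ((Sylow.card_dvd_index (default : Sylow q ↥K)).trans (Subgroup.index_dvd_card _)))
  obtain ⟨S, hS⟩ := hP.nonempty_fixed_point_of_prime_not_dvd_card (Sylow q ↥K) hn
  have hx := hS ⟨x, Subgroup.mem_zpowers x⟩
  have hinv : x ∈ Subgroup.normalizer (((S : Subgroup ↥K).map K.subtype : Subgroup G) : Set G) := by
    rw [Subgroup.mem_normalizer_iff_map_conj_eq, Subgroup.map_map]
    have h2 : (S : Subgroup ↥K).map (MulAut.conjNormal (H := K) x).toMonoidHom = (S : Subgroup ↥K) :=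
      congrArg (fun T : Sylow q ↥K => (T : Subgroup ↥K)) hx
    conv_rhs => rw [← h2, Subgroup.map_map]
    rfl
  have hcard : Nat.card ((S : Subgroup ↥K).map K.subtype) = q ^ (Nat.card K).factorization q := by
    rw [Subgroup.card_map_of_injective K.subtype_injective, S.card_eq_multiplicity]
  rw [← hcard]
  exact card_modEq_one hord hcent _ hinv fun h => hKp (h.trans (by
    rw [Subgroup.card_map_of_injective K.subtype_injective]
    exact Subgroup.card_subgroup_dvd_card _))

/-- A simple subgroup meeting a normal subgroup lies in it. -/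
theorem le_of_mem {M K : Subgroup G} [IsSimpleGroup ↥M] [K.Normal] {y : G} (hyM : y ∈ M) (hyK : y ∈ K)
    (hy : y ≠ 1) : M ≤ K := by
  have h : K.subgroupOf M = ⊤ := by
    refine (Subgroup.Normal.eq_bot_or_eq_top inferInstance).resolve_left fun e => hy ?_
    have hb : (⟨y, hyM⟩ : ↥M) ∈ K.subgroupOf M := hyK
    rw [e, Subgroup.mem_bot] at hb
    exact congrArg Subtype.val hb
  exact Subgroup.subgroupOf_eq_top.1 h

/-- **The criterion.** -/
theorem isSimpleGroup [hp : Fact p.Prime] (hord : orderOf x = p) (hp2 : ¬ p ^ 2 ∣ Nat.card G)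
    (M : Subgroup G) [IsSimpleGroup ↥M]
    (hnorm : ∀ g : G, g⁻¹ * x * g ∈ Subgroup.zpowers x → g ∈ M)
    (hcent : ∀ g : G, g * x = x * g → g ∈ Subgroup.zpowers x)
    (hsmall : ∀ K : Subgroup G, K.Normal → ¬ p ∣ Nat.card K → K ≠ ⊥ →
      (∀ q : ℕ, q.Prime → q ^ (Nat.card K).factorization q ≡ 1 [MOD p]) → False) :
    IsSimpleGroup G := by
  haveI : Nontrivial G := ⟨⟨x, 1, fun e => hp.out.ne_one (by rw [← hord, e, orderOf_one])⟩⟩
  refine ⟨fun K hK => ?_⟩
  by_cases hKp : p ∣ Nat.card K
  · right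
    obtain ⟨⟨y, hyK⟩, hy⟩ := exists_prime_orderOf_dvd_card' p hKp
    rw [Subgroup.orderOf_mk] at hy
    have hPy : Nat.card (Subgroup.zpowers x) = p := by rw [Nat.card_zpowers, hord]
    have hfac : (Nat.card G).factorization p = 1 := by
      have h0 : 1 ≤ (Nat.card G).factorization p :=
        (hp.out.dvd_iff_one_le_factorization Nat.card_pos.ne').1 (hord ▸ orderOf_dvd_natCard x)
      have h1 : ¬ 2 ≤ (Nat.card G).factorization p := fun h =>
        hp2 ((hp.out.pow_dvd_iff_le_factorization Nat.card_pos.ne').2 h)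
      omega
    let Sx : Sylow p G := Sylow.ofCard (Subgroup.zpowers x) (by rw [hPy, hfac, pow_one])
    let Sy : Sylow p G := Sylow.ofCard (Subgroup.zpowers y) (by rw [Nat.card_zpowers, hy, hfac, pow_one])
    obtain ⟨g, hg⟩ := MulAction.exists_smul_eq G Sy Sx
    have hsub : Subgroup.zpowers x ≤ K := by
      have : ((g • Sy : Sylow p G) : Subgroup G) = Subgroup.zpowers x := by rw [hg]; rfl
      rw [← this]
      intro z hz
      obtain ⟨w, hw, rfl⟩ := Subgroup.mem_map.1 hz
      exact hK.conj_mem w (Subgroup.zpowers_le.2 hyK hw) g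
    have hxM : x ∈ M := hnorm x (by simpa using Subgroup.mem_zpowers x)
    have hx1 : x ≠ 1 := fun e => hp.out.ne_one (by rw [← hord, e, orderOf_one])
    have hMK : M ≤ K := le_of_mem hxM (hsub (Subgroup.mem_zpowers x)) hx1
    have hfacK : (Nat.card K).factorization p = 1 := by
      have h0 : 1 ≤ (Nat.card K).factorization p :=
        (hp.out.dvd_iff_one_le_factorization Nat.card_pos.ne').1 hKp
      have h1 : (Nat.card K).factorization p ≤ (Nat.card G).factorization p :=
        (Nat.factorization_le_iff_dvd Nat.card_pos.ne' Nat.card_pos.ne').2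
          (Subgroup.card_subgroup_dvd_card K) p
      omega
    let SK : Sylow p ↥K := Sylow.ofCard ((Subgroup.zpowers x).subgroupOf K) (by
      rw [Nat.card_congr (Subgroup.subgroupOfEquivOfLe hsub).toEquiv, hPy, hfacK, pow_one])
    have hfr := Sylow.normalizer_sup_eq_top SK
    have hmap : (SK : Subgroup ↥K).map K.subtype = Subgroup.zpowers x := by
      show ((Subgroup.zpowers x).subgroupOf K).map K.subtype = _
      rw [Subgroup.subgroupOf_map_subtype, inf_eq_left.2 hsub]
    rw [hmap, eq_top_iff] at hfr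
    refine eq_top_iff.2 (hfr.trans (sup_le (fun g hg => hMK (hnorm g ?_)) le_rfl))
    have h := (Subgroup.mem_normalizer_iff.1 ((Subgroup.normalizer _).inv_mem hg) x).1 (Subgroup.mem_zpowers x)
    simpa using h
  · left
    by_contra hne
    exact hsmall K hK hKp hne fun q hq => by
      haveI := Fact.mk hq
      exact factor_modEq_one hord hcent K hKp q

/-- A number whose prime divisors are all `r` is a power of `r`. -/
theorem eq_pow_factorization {d r : ℕ} (hd : d ≠ 0) (h : ∀ q : ℕ, q.Prime → q ∣ d → q = r) :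
    d = r ^ d.factorization r := by
  have e := Nat.eq_prime_pow_of_unique_prime_dvd hd (fun {q} hq hqd => h q hq hqd)
  exact e.trans (by
    rcases Nat.eq_zero_or_pos d.primeFactorsList.length with h0 | h0
    · have h1 : d = 1 := by rw [e, h0, pow_zero]
      rw [h0, pow_zero, h1]; simp
    · have hr : r.Prime := by
        have : d ≠ 1 := fun h1 => by rw [h1] at h0; simp at h0
        obtain ⟨q, hq, hqd⟩ := Nat.exists_prime_and_dvd this
        exact h q hq hqd ▸ hq
      congr 1
      conv_rhs => rw [e, hr.factorization_pow, Finsupp.single_eq_same])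

/-- The possible orders prime to `p` of normal subgroups, from a list of prime powers. -/
def sylowOrdersOk (p : ℕ) (L : List (ℕ × ℕ)) : Bool :=
  L.all fun e => (List.range e.2).all fun i => !(e.1 ^ (i + 1) % p == 1)

/-- With one exception `r ^ k`, the order is determined. -/
theorem card_eq_of_sylowOrders {d r k n : ℕ} {L : List (ℕ × ℕ)} (hp : p.Prime) (hd : d ≠ 1) (hdn : d ∣ n)
    (hn : n = p * ((L.map fun (e : ℕ × ℕ) => e.1 ^ e.2).prod * r ^ k)) (hdp : ¬ p ∣ d)
    (hprimes : ∀ e ∈ L, e.1.Prime) (hne : ∀ e ∈ L, e.1 ≠ r) (hr : r.Prime) (hrp : r ≠ p)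
    (hnodup : (L.map Prod.fst).Nodup) (hpL : ∀ e ∈ L, e.1 ≠ p)
    (hok : sylowOrdersOk p L = true)
    (hsyl : ∀ q : ℕ, q.Prime → q ^ d.factorization q ≡ 1 [MOD p]) :
    ∃ i, 1 ≤ i ∧ i ≤ k ∧ r ^ i % p = 1 ∧ d = r ^ i := by
  have hn0 : n ≠ 0 := by
    rw [hn]
    refine mul_ne_zero hp.ne_zero (mul_ne_zero (List.prod_ne_zero ?_) (pow_ne_zero _ hr.ne_zero))
    intro h
    obtain ⟨e, he, h0⟩ := List.mem_map.1 h
    exact pow_ne_zero _ (hprimes e he).ne_zero h0
  have hd0 : d ≠ 0 := fun h => hn0 (Nat.eq_zero_of_zero_dvd (h ▸ hdn))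
  have hmem : ∀ q : ℕ, q.Prime → q ∣ d → q = r ∨ ∃ e ∈ L, e.1 = q := by
    intro q hq hqd
    have h := hqd.trans hdn
    rw [hn] at h
    rcases hq.dvd_mul.1 h with h1 | h1
    · exact absurd ((Nat.prime_dvd_prime_iff_eq hq hp).1 h1 ▸ hqd) hdp
    rcases hq.dvd_mul.1 h1 with h2 | h2
    · obtain ⟨a, ha, hqa⟩ := (Prime.dvd_prod_iff (Nat.prime_iff.1 hq)).1 h2
      obtain ⟨e, he, rfl⟩ := List.mem_map.1 ha
      exact Or.inr ⟨e, he, ((Nat.prime_dvd_prime_iff_eq hq (hprimes e he)).1 (hq.dvd_of_dvd_pow hqa)).symm⟩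
    · exact Or.inl ((Nat.prime_dvd_prime_iff_eq hq hr).1 (hq.dvd_of_dvd_pow h2))
  have hle : ∀ q : ℕ, d.factorization q ≤ n.factorization q := fun q =>
    (Nat.factorization_le_iff_dvd hd0 hn0).2 hdn q
  have hfac : ∀ (L' : List (ℕ × ℕ)), (∀ e ∈ L', e.1.Prime) → (L'.map Prod.fst).Nodup →
      ∀ e ∈ L', (L'.map fun (e : ℕ × ℕ) => e.1 ^ e.2).prod.factorization e.1 = e.2 := by
    intro L'
    induction L' with
    | nil => intros; simp at *
    | cons a L' ih =>
      intro hP hN e he
      simp only [List.map_cons, List.nodup_cons] at hN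
      have hL0 : (L'.map fun (e : ℕ × ℕ) => e.1 ^ e.2).prod ≠ 0 := List.prod_ne_zero fun h => by
        obtain ⟨c, hc, h0⟩ := List.mem_map.1 h
        exact pow_ne_zero _ (hP c (List.mem_cons_of_mem _ hc)).ne_zero h0
      rw [List.map_cons, List.prod_cons,
        Nat.factorization_mul (pow_ne_zero _ (hP a List.mem_cons_self).ne_zero) hL0, Finsupp.add_apply,
        (hP a List.mem_cons_self).factorization_pow]
      rcases List.mem_cons.1 he with rfl | he'
      · rw [Finsupp.single_eq_same, Nat.factorization_eq_zero_of_not_dvd, add_zero]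
        intro h
        obtain ⟨c, hc, hcd⟩ := (Prime.dvd_prod_iff (Nat.prime_iff.1 (hP _ List.mem_cons_self))).1 h
        obtain ⟨c', hc', rfl⟩ := List.mem_map.1 hc
        have := (Nat.prime_dvd_prime_iff_eq (hP _ List.mem_cons_self)
          (hP c' (List.mem_cons_of_mem _ hc'))).1 ((hP _ List.mem_cons_self).dvd_of_dvd_pow hcd)
        exact hN.1 (this ▸ List.mem_map_of_mem hc')
      · rw [Finsupp.single_eq_of_ne (fun h => hN.1 (by rw [← h]; exact List.mem_map_of_mem he')),
          zero_add, ih (fun c hc => hP c (List.mem_cons_of_mem _ hc)) hN.2 e he']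
  have hL0 : (L.map fun (e : ℕ × ℕ) => e.1 ^ e.2).prod ≠ 0 := List.prod_ne_zero fun h => by
    obtain ⟨c, hc, h0⟩ := List.mem_map.1 h
    exact pow_ne_zero _ (hprimes c hc).ne_zero h0
  have hne' : ∀ q : ℕ, q.Prime → q ∣ d → q = r := by
    intro q hq hqd
    rcases hmem q hq hqd with h | ⟨e, he, rfl⟩
    · exact h
    exfalso
    have h1 : 1 ≤ d.factorization e.1 := (hq.dvd_iff_one_le_factorization hd0).1 hqd
    have h2 := hle e.1
    rw [hn, Nat.factorization_mul hp.ne_zero (mul_ne_zero hL0 (pow_ne_zero _ hr.ne_zero)),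
      Nat.factorization_mul hL0 (pow_ne_zero _ hr.ne_zero), hp.factorization, hr.factorization_pow,
      Finsupp.add_apply, Finsupp.add_apply, Finsupp.single_eq_of_ne (hpL e he),
      Finsupp.single_eq_of_ne (hne e he), hfac L hprimes hnodup e he] at h2
    simp only [sylowOrdersOk, List.all_eq_true, List.mem_range, Bool.not_eq_true', beq_eq_false_iff_ne] at hok
    have := hok e he (d.factorization e.1 - 1) (by omega)
    rw [Nat.sub_add_cancel h1] at this
    exact this (Eq.trans (hsyl e.1 hq) (Nat.mod_eq_of_lt hp.one_lt))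
  have he := eq_pow_factorization hd0 hne'
  refine ⟨d.factorization r, ?_, ?_, Eq.trans (hsyl r hr) (Nat.mod_eq_of_lt hp.one_lt), he⟩
  · by_contra h
    exact hd (by rw [he, show d.factorization r = 0 by omega, pow_zero])
  · have h2 := hle r
    rw [hn, Nat.factorization_mul hp.ne_zero (mul_ne_zero hL0 (pow_ne_zero _ hr.ne_zero)),
      Nat.factorization_mul hL0 (pow_ne_zero _ hr.ne_zero), hp.factorization, hr.factorization_pow,
      Finsupp.add_apply, Finsupp.add_apply, Finsupp.single_eq_of_ne hrp, Finsupp.single_eq_same] at h2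
    have : (L.map fun (e : ℕ × ℕ) => e.1 ^ e.2).prod.factorization r = 0 := by
      refine Nat.factorization_eq_zero_of_not_dvd fun h => ?_
      obtain ⟨a, ha, hra⟩ := (Prime.dvd_prod_iff (Nat.prime_iff.1 hr)).1 h
      obtain ⟨e, he', rfl⟩ := List.mem_map.1 ha
      exact hne e he' ((Nat.prime_dvd_prime_iff_eq hr (hprimes e he')).1 (hr.dvd_of_dvd_pow hra)).symm
    omega

/-- If `r ^ i` is `1` modulo `p` only for `i = k` among `1..k`, a nontrivial invariant `r`-group of order
at most `r ^ k` has order exactly `r ^ k`. -/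
theorem le_centralizer_of_card [hp : Fact p.Prime] {r k : ℕ} [hr : Fact r.Prime] (hord : orderOf x = p)
    (hcent : ∀ g : G, g * x = x * g → g ∈ Subgroup.zpowers x) (K : Subgroup G) [K.Normal]
    (hK : Nat.card K = r ^ k) (hk : 0 < k) (hrp : r ≠ p)
    (honly : ∀ i < k, 0 < i → r ^ i % p ≠ 1) : ∀ a ∈ K, ∀ b ∈ K, a * b = b * a := by
  haveI : Nontrivial ↥K := Finite.one_lt_card_iff_nontrivial.1 (by
    rw [hK]; exact Nat.one_lt_pow hk.ne' hr.out.one_lt)
  have hpg : IsPGroup r ↥K := IsPGroup.of_card hK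
  haveI := hpg.center_nontrivial
  let Z : Subgroup G := (Subgroup.center ↥K).map K.subtype
  have hZn : Z.Normal := inferInstance
  have hZd : Nat.card Z ∣ r ^ k := by
    rw [Subgroup.card_map_of_injective K.subtype_injective, ← hK]
    exact Subgroup.card_subgroup_dvd_card _
  obtain ⟨i, hi, hZi⟩ := (Nat.dvd_prime_pow hr.out).1 hZd
  have hmod : r ^ i ≡ 1 [MOD p] := hZi ▸ card_modEq_one hord hcent Z
    (by rw [Subgroup.normalizer_eq_top]; trivial)
    (by rw [hZi]; intro h; exact hrp ((Nat.prime_dvd_prime_iff_eq hp.out hr.out).1 (hp.out.dvd_of_dvd_pow h)).symm)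
  have hi0 : i ≠ 0 := fun h => by
    have h1 : 1 < Nat.card (Subgroup.center ↥K) := Finite.one_lt_card_iff_nontrivial.2 inferInstance
    rw [← Subgroup.card_map_of_injective K.subtype_injective, hZi, h, pow_zero] at h1
    omega
  have hik : i = k := by
    by_contra h
    exact honly i (lt_of_le_of_ne hi h) (Nat.pos_of_ne_zero hi0) (Eq.trans hmod (Nat.mod_eq_of_lt hp.out.one_lt))
  have htop : Subgroup.center ↥K = ⊤ := by
    rw [← Subgroup.card_eq_iff_eq_top, ← Subgroup.card_map_of_injective K.subtype_injective, hZi, hik, hK]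
  intro a ha b hb
  have h := Subgroup.mem_center_iff.1 (htop ▸ Subgroup.mem_top (⟨b, hb⟩ : ↥K)) ⟨a, ha⟩
  exact congrArg Subtype.val h

end Cfsg.Agent.Lib.SelfCentral
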