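import Cfsg.Agent.Lib.Leech.Order
import Cfsg.Agent.Lib.Leech.SelfCentral
import Cfsg.Agent.Lib.M24Geom.Conj

/-!
# Coordinate permutations inside the automorphism group of the lattice; simplicity of stabilisers
-/

set_option autoImplicit false

namespace Cfsg.Agent.Lib.Leech

open Cfsg Equiv Cfsg.Agent.Lib.Compute Cfsg.Agent.Lib.M24Geom

theorem empty_mem_supports : (∅ : Finset GolayPt) ∈ supports (golayCode : Set (GolayPt → ZMod 2)) :=
  ⟨0, golayCode.zero_mem, by ext q; simp [support₂]⟩

theorem finite_co0 : Finite ↥Co0 := Nat.finite_of_card_ne_zero (by rw [card_co0]; norm_num)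

theorem co0_ext {g h : ↥Co0}
    (e : ∀ v : ↥leechLattice, ((g • v : ↥leechLattice) : GolayPt → ℤ) = ((h • v : ↥leechLattice) : GolayPt → ℤ)) :
    g = h :=
  Subtype.ext (Equiv.ext fun v => Subtype.ext (e v))

theorem exists_permElem (π : ↥M24) : ∃ g : ↥Co0, ∀ v : ↥leechLattice,
    ((g • v : ↥leechLattice) : GolayPt → ℤ) = signedPerm (π : Perm GolayPt) ∅ (v : GolayPt → ℤ) :=
  exists_mono _ π.2 _ empty_mem_supports

/-- A code preserving permutation as an automorphism. -/
noncomputable def permFun (π : ↥M24) : ↥Co0 := (exists_permElem π).choose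

theorem permFun_apply (π : ↥M24) (v : ↥leechLattice) (q : GolayPt) :
    ((permFun π • v : ↥leechLattice) : GolayPt → ℤ) q = (v : GolayPt → ℤ) ((π : Perm GolayPt).symm q) := by
  rw [permFun, (exists_permElem π).choose_spec v]
  simp [signedPerm]

/-- Permutations acting on coordinates. -/
noncomputable def permHom : ↥M24 →* ↥Co0 :=
  MonoidHom.mk' permFun fun π τ => co0_ext fun v => funext fun q => by
    rw [mul_smul, permFun_apply, permFun_apply, permFun_apply]
    rfl

theorem permHom_apply (π : ↥M24) (v : ↥leechLattice) (q : GolayPt) :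
    ((permHom π • v : ↥leechLattice) : GolayPt → ℤ) q = (v : GolayPt → ℤ) ((π : Perm GolayPt).symm q) :=
  permFun_apply π v q

theorem permHom_eightAt (π : ↥M24) (i : GolayPt) : permHom π • eightAt i = eightAt ((π : Perm GolayPt) i) := by
  refine Subtype.ext (funext fun q => ?_)
  rw [permHom_apply]
  show (Pi.single i 8 : GolayPt → ℤ) _ = (Pi.single ((π : Perm GolayPt) i) 8 : GolayPt → ℤ) q
  simp only [Pi.single_apply, Equiv.symm_apply_eq]

theorem eightAt_injective : Function.Injective eightAt := by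
  intro i j h
  by_contra hne
  have := congrFun (congrArg Subtype.val h) i
  simp [eightAt, Pi.single_eq_of_ne hne] at this

theorem permHom_injective : Function.Injective permHom := fun π τ h =>
  Subtype.ext (Equiv.ext fun i => eightAt_injective (by rw [← permHom_eightAt, ← permHom_eightAt, h]))

theorem cls_neg (x : ↥leechLattice) : cls (-x) = cls x := by
  refine cls_eq_iff.mpr ⟨-(x : GolayPt → ℤ), neg_mem x.2, ?_⟩
  rw [AddSubgroup.coe_neg, two_nsmul]
  abel

/-- An automorphism sending one frame vector into the frame is monomial. -/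
theorem exists_frame_of_eight (g : ↥Co0) (a : GolayPt)
    (h : ∃ b, g • eightAt a = eightAt b ∨ g • eightAt a = -eightAt b) :
    ∃ π ∈ M24, ∃ c ∈ supports (golayCode : Set (GolayPt → ZMod 2)),
      ∀ v : ↥leechLattice, ((g • v : ↥leechLattice) : GolayPt → ℤ) = signedPerm π c (v : GolayPt → ℤ) := by
  refine exists_frame g fun v hv => ?_
  have hv' : v ∈ crossSet (cls (eightAt none)) := by rw [crossSet_std]; exact hv
  have hc : cls (g • eightAt a) = cls (eightAt none) := by
    obtain ⟨b, h | h⟩ := h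
    · rw [h]; exact eightAt_congr b none
    · rw [h, cls_neg]; exact eightAt_congr b none
  have : g • v ∈ crossSet (cls (eightAt none)) := by
    refine ⟨?_, ?_⟩
    · show sqNorm ((g • v : ↥leechLattice) : GolayPt → ℤ) = 64
      rw [co0_sqNorm]; exact hv'.1
    · rw [smul_cls (g := g) (hv'.2.trans (eightAt_congr none a))]; exact hc
  rw [crossSet_std] at this
  exact this

/-- An automorphism fixing a frame vector and a vector constant off that coordinate is a permutation. -/
theorem perm_of_fix (g : ↥Co0) (a : GolayPt) (v : ↥leechLattice) {s : ℤ} (hs : s ≠ 0)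
    (hv : ∀ q, q ≠ a → (v : GolayPt → ℤ) q = s) (ha : g • eightAt a = eightAt a) (hgv : g • v = v) :
    ∃ π : ↥M24, (π : Perm GolayPt) a = a ∧ g = permHom π := by
  obtain ⟨π, hπ, c, -, happ⟩ := exists_frame_of_eight g a ⟨a, Or.inl ha⟩
  have h8 := happ (eightAt a)
  rw [ha, show ((eightAt a : ↥leechLattice) : GolayPt → ℤ) = Pi.single a 8 from rfl, signedPerm_single] at h8
  have hπa : π a = a := by
    by_contra hne
    have := congrFun h8 a
    rw [Pi.single_eq_same, Pi.single_eq_of_ne (Ne.symm hne)] at this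
    exact absurd this (by norm_num)
  rw [hπa] at h8
  have hac : a ∉ c := fun hc => by
    have := congrFun h8 a
    rw [if_pos hc, Pi.single_eq_same, Pi.single_eq_same] at this
    exact absurd this (by norm_num)
  have hc : ∀ q, q ∉ c := by
    intro q hq
    have hqa : q ≠ a := fun e => hac (e ▸ hq)
    have h1 := congrFun (happ v) q
    rw [hgv] at h1
    have hsy : π.symm q ≠ a := fun e => hqa (by rw [← hπa, ← e, Equiv.apply_symm_apply])
    simp only [signedPerm, hq, if_true, hv q hqa, hv _ hsy] at h1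
    omega
  refine ⟨⟨π, hπ⟩, hπa, co0_ext fun u => funext fun q => ?_⟩
  rw [happ, permHom_apply]
  simp only [signedPerm, hc q, if_false]

/-- The centraliser in the code's group of an element with as many conjugators as its order. -/
theorem mem_zpowers_of_comm {P p : ℕ} (hv : Valid 24 P) (hP : gperm P ∈ M24)
    (hord : orderOf (⟨gperm P, hP⟩ : ↥M24) = p) (hscan : scanCount 24 (app P) (app P) m24Cert [] id = p)
    (π : ↥M24) (h : π * ⟨gperm P, hP⟩ = ⟨gperm P, hP⟩ * π) : π ∈ Subgroup.zpowers (⟨gperm P, hP⟩ : ↥M24) := by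
  set x : ↥M24 := ⟨gperm P, hP⟩ with hx
  have hle : Subgroup.zpowers x ≤ Subgroup.centralizer {x} := by
    rw [Subgroup.zpowers_le, Subgroup.mem_centralizer_singleton_iff]
  have hcard : Nat.card (Subgroup.centralizer ({x} : Set ↥M24)) = p := by
    rw [← hscan, ← card_conjugators hv hv]
    refine Nat.card_congr
      { toFun := fun σ => ⟨σ.1.1, σ.1.2, congrArg Subtype.val (Subgroup.mem_centralizer_singleton_iff.1 σ.2)⟩
        invFun := fun σ => ⟨⟨σ.1, σ.2.1⟩, Subgroup.mem_centralizer_singleton_iff.2 (Subtype.ext σ.2.2)⟩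
        left_inv := fun σ => rfl
        right_inv := fun σ => rfl }
  have heq := Subgroup.eq_of_le_of_card_ge hle (by rw [hcard, Nat.card_zpowers, hord])
  rw [heq]
  exact Subgroup.mem_centralizer_singleton_iff.2 h

/-- **Simplicity of a subgroup of `Co0` with a self-centralising permutation.** -/
theorem isSimpleGroup_of_perm (G : Subgroup ↥Co0) {p : ℕ} [Fact p.Prime] (π₀ : ↥M24)
    (hord : orderOf π₀ = p) (hcent : ∀ π : ↥M24, π * π₀ = π₀ * π → π ∈ Subgroup.zpowers π₀)
    (a : GolayPt) (ha : (π₀ : Perm GolayPt) a = a)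
    (Ms : Subgroup ↥M24) [IsSimpleGroup ↥Ms] (hπ₀ : π₀ ∈ Ms) (hMG : ∀ π ∈ Ms, permHom π ∈ G)
    (huniq : ∀ g ∈ G, permHom π₀ • (g • eightAt a) = g • eightAt a → g • eightAt a = eightAt a)
    (hkey : ∀ g ∈ G, g • eightAt a = eightAt a → g ∈ Ms.map permHom)
    (hp2 : ¬ p ^ 2 ∣ Nat.card G)
    (hsmall : ∀ K : Subgroup ↥G, K.Normal → ¬ p ∣ Nat.card K → K ≠ ⊥ →
      (∀ q : ℕ, q.Prime → q ^ (Nat.card K).factorization q ≡ 1 [MOD p]) → False) :
    IsSimpleGroup ↥G := by
  have := finite_co0
  let x : ↥G := ⟨permHom π₀, hMG _ hπ₀⟩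
  let M : Subgroup ↥G := (Ms.map permHom).subgroupOf G
  have hle : Ms.map permHom ≤ G := Subgroup.map_le_iff_le_comap.2 fun π hπ => hMG π hπ
  haveI : IsSimpleGroup ↥M :=
    ((Subgroup.subgroupOfEquivOfLe hle).trans
      (Ms.equivMapOfInjective _ permHom_injective).symm).isSimpleGroup
  have hordx : orderOf x = p := by
    rw [← orderOf_injective G.subtype G.subtype_injective, show G.subtype x = permHom π₀ from rfl,
      orderOf_injective permHom permHom_injective, hord]
  have hnorm : ∀ g : ↥G, g⁻¹ * x * g ∈ Subgroup.zpowers x → g ∈ M := by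
    intro g hg
    obtain ⟨j, hj⟩ := Subgroup.mem_zpowers_iff.1 hg
    refine hkey g.1 g.2 (huniq g.1 g.2 ?_)
    have e : x * g = g * x ^ j := by rw [hj]; group
    have e' : permHom π₀ * (g : ↥Co0) = (g : ↥Co0) * permHom (π₀ ^ j) := by
      rw [map_zpow]
      exact congrArg Subtype.val e
    rw [← mul_smul, e', mul_smul, permHom_eightAt]
    congr 2
    have : π₀ ^ j ∈ MulAction.stabilizer ↥M24 a := Subgroup.zpow_mem _ (show π₀ • a = a from ha) j
    exact this
  refine Cfsg.Agent.Lib.SelfCentral.isSimpleGroup hordx hp2 M hnorm (fun g hg => ?_) hsmall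
  have hgM : g ∈ M := hnorm g (by
    rw [show g⁻¹ * x * g = g⁻¹ * (x * g) by group, ← hg, inv_mul_cancel_left]
    exact Subgroup.mem_zpowers x)
  obtain ⟨π, -, hπ⟩ := Subgroup.mem_map.1 (Subgroup.mem_subgroupOf.1 hgM)
  have hc : π * π₀ = π₀ * π := permHom_injective (by
    rw [map_mul, map_mul, hπ]; exact congrArg Subtype.val hg)
  obtain ⟨j, hj⟩ := Subgroup.mem_zpowers_iff.1 (hcent π hc)
  refine Subgroup.mem_zpowers_iff.2 ⟨j, Subtype.ext ?_⟩
  rw [Subgroup.coe_zpow, ← hπ, ← hj, map_zpow]

/-- A vector invariant under a permutation is constant on chains along it. -/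
theorem const_chain {P : ℕ} (hv : Valid 24 P) (u : GolayPt → ℤ) (h : ∀ q, u (gperm P q) = u q) :
    ∀ (k : ℕ) (r : Fin 24) (i : Fin 24), (app P)^[k] r = i → u (enc.symm i) = u (enc.symm r) := by
  intro k
  induction k with
  | zero => intro r i he; rw [Fin.ext he]
  | succ k ih =>
    intro r i he
    rw [Function.iterate_succ_apply] at he
    have he2 : ((enc (gperm P (enc.symm r)) : Fin 24) : ℕ) = app P r := by
      rw [gperm_apply hv, Equiv.apply_symm_apply]
    have h1 := ih (enc (gperm P (enc.symm r))) i (by rw [he2]; exact he)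
    rw [h1, Equiv.symm_apply_apply, h]

end Cfsg.Agent.Lib.Leech
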