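import Cfsg.Agent.Lib.Leech.HSU35Data
import Cfsg.Agent.Lib.Leech.ConfigsN
import Cfsg.Agent.Lib.Leech.Conway
import Cfsg.Agent.Lib.Classical.U35Iso
import Cfsg.Agent.Lib.Compute.CertTools
import Cfsg.Agent.Lib.Leech.PermPart

/-!
The joint stabiliser of the base configuration of the 352-point action of the Higman–Sims group is
the unitary group `PSU₃(5)`.
-/

set_option autoImplicit false
set_option maxRecDepth 100000

namespace Cfsg.Agent.Lib.Leech.HSU35

open Cfsg Equiv Cfsg.Agent.Lib.Compute Cfsg.Agent.Lib.Classical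

/-- A product of generators, as a map on points. -/
def wfun (gs : List (ℕ × ℕ)) : List ℕ → ℕ → ℕ
  | [], i => i
  | k :: w, i => app (gs.getD k (0, 0)).1 (wfun gs w i)

/-- The generators are permutations. -/
def gensOk (n : ℕ) (gs : List (ℕ × ℕ)) : Bool :=
  (List.range 2).all fun k => genOk n (gs.getD k (0, 0))

/-- The strong generators are products of the two generators. -/
def spanOk (n : ℕ) (gs : List (ℕ × ℕ)) (L : Lvl) (ws : List (List ℕ)) : Bool :=
  (List.range L.gens.length).all fun k =>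
    (ws.getD k []).all (fun j => decide (j < 2)) &&
      (List.range n).all fun i => app (L.gens.getD k (0, 0)).1 i == wfun gs (ws.getD k []) i

/-- The two generators lie in the certified group. -/
def memsOk (n : ℕ) (c : List Lvl) (gs : List (ℕ × ℕ)) (js : List (List ℕ)) : Bool :=
  (List.range 2).all fun k => memOk n c (gs.getD k (0, 0)).1 (js.getD k [])

/-- The permutation of a generator. -/
noncomputable def pgen (n : ℕ) (gs : List (ℕ × ℕ)) (k : Fin 2) : Perm (Fin n) :=
  toPerm n (gs.getD k (0, 0)).1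

theorem repr_pgen {n : ℕ} {gs : List (ℕ × ℕ)} (h : gensOk n gs = true) (k : Fin 2) :
    Repr (pgen n gs k) (app (gs.getD k (0, 0)).1) :=
  repr_toPerm_of_genOk (List.all_eq_true.mp h k (List.mem_range.mpr k.isLt))

theorem wfun_mem {n : ℕ} {gs : List (ℕ × ℕ)} (h : gensOk n gs = true) :
    ∀ {w : List ℕ}, w.all (fun j => decide (j < 2)) = true →
      ∃ σ ∈ Subgroup.closure (Set.range (pgen n gs)), Repr σ (wfun gs w)
  | [], _ => ⟨1, one_mem _, Repr.one⟩
  | k :: w, hw => by
    simp only [List.all_cons, Bool.and_eq_true, decide_eq_true_eq] at hw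
    obtain ⟨σ, hσ, hr⟩ := wfun_mem h (w := w) hw.2
    exact ⟨pgen n gs ⟨k, hw.1⟩ * σ, mul_mem (Subgroup.subset_closure ⟨_, rfl⟩) hσ,
      (repr_pgen h ⟨k, hw.1⟩).mul hr⟩

theorem grp_le {n : ℕ} {gs : List (ℕ × ℕ)} (h : gensOk n gs = true) {L : Lvl} {rest : List Lvl}
    {ws : List (List ℕ)} (hs : spanOk n gs L ws = true) :
    grp n (L :: rest) ≤ Subgroup.closure (Set.range (pgen n gs)) := by
  refine (Subgroup.closure_le _).mpr ?_
  rintro _ ⟨g, hg, rfl⟩
  obtain ⟨k, hk, rfl⟩ := List.getElem_of_mem hg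
  have h1 := List.all_eq_true.mp hs k (List.mem_range.mpr hk)
  simp only [Bool.and_eq_true] at h1
  obtain ⟨σ, hσ, hr⟩ := wfun_mem h h1.1
  have hr' : Repr σ (app (L.gens[k]).1) := fun i => by
    rw [hr i]
    have h2 := List.all_eq_true.mp h1.2 i (List.mem_range.mpr i.isLt)
    rw [List.getD_eq_getElem _ _ hk, beq_iff_eq] at h2
    exact h2.symm
  show toPerm n (L.gens[k]).1 ∈ _
  rw [repr_toPerm_of_repr hr']
  exact hσ

theorem le_grp {n : ℕ} {gs : List (ℕ × ℕ)} {c : List Lvl} (hc : chk n c = true) {js : List (List ℕ)}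
    (hs : memsOk n c gs js = true) : Subgroup.closure (Set.range (pgen n gs)) ≤ grp n c := by
  refine (Subgroup.closure_le _).mpr ?_
  rintro _ ⟨k, rfl⟩
  exact (mem_grp_of_memOk hc (List.all_eq_true.mp hs k (List.mem_range.mpr k.isLt))).2

theorem cA_ok : chk 50 cA = true := by decide +kernel
theorem cB_ok : chk 126 cB = true := by decide +kernel
theorem cC_ok : chk 176 cC = true := by decide +kernel

theorem sizes : certOrder cA = 126000 ∧ certOrder cB = 126000 ∧ certOrder cC = 126000 := by
  decide +kernel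

theorem gens_facts : gensOk 50 cAGens = true ∧ gensOk 126 cBGens = true ∧ gensOk 176 cCGens = true := by
  decide +kernel

theorem span_facts : spanOk 50 cAGens cA0 cAWords = true ∧ spanOk 126 cBGens cB0 cBWords = true ∧
    spanOk 176 cCGens cC0 cCWords = true := by
  decide +kernel

theorem mem_facts : memsOk 126 U35.gCert cBGens cBMem = true ∧ memsOk 176 cC cCGens cCMem = true := by
  decide +kernel

theorem block_facts : ∀ k : Fin 2,
    (∀ i : Fin 50, app (cCGens.getD k (0, 0)).1 i = app (cAGens.getD k (0, 0)).1 i) ∧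
    (∀ j : Fin 126, app (cCGens.getD k (0, 0)).1 (50 + j) = 50 + app (cBGens.getD k (0, 0)).1 j) := by
  decide +kernel

/-- The image on 50 points. -/
noncomputable abbrev A50 : Subgroup (Perm (Fin 50)) := Subgroup.closure (Set.range (pgen 50 cAGens))

theorem card_A50 : 126000 ≤ Nat.card A50 := by
  have h := Subgroup.card_le_of_le (grp_le (rest := [cA1, cA2, cA3]) gens_facts.1 span_facts.1)
  rwa [show (cA0 :: [cA1, cA2, cA3]) = cA from rfl, card_grp cA_ok, sizes.1] at h

theorem closure_B : Subgroup.closure (Set.range (pgen 126 cBGens)) = U35.G := by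
  refine Subgroup.eq_of_le_of_card_ge (le_grp U35.gCert_ok mem_facts.1) ?_
  have h := Subgroup.card_le_of_le (grp_le (rest := [cB1, cB2, cB3]) gens_facts.2.1 span_facts.2.1)
  rw [show (cB0 :: [cB1, cB2, cB3]) = cB from rfl, card_grp cB_ok, sizes.2.1] at h
  rw [U35.card_G]
  exact h

theorem closure_C : Nat.card (Subgroup.closure (Set.range (pgen 176 cCGens))) = 126000 := by
  refine le_antisymm ?_ ?_
  · exact (Subgroup.card_le_of_le (le_grp cC_ok mem_facts.2)).trans (le_of_eq ((card_grp cC_ok).trans sizes.2.2))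
  · have h := Subgroup.card_le_of_le (grp_le (rest := [cC1, cC2, cC3]) gens_facts.2.2 span_facts.2.2)
    rwa [show (cC0 :: [cC1, cC2, cC3]) = cC from rfl, card_grp cC_ok, sizes.2.2] at h

/-- A subgroup mapped onto a subgroup not smaller than itself is isomorphic to it. -/
theorem equiv_of_map {X Y : Type*} [Group X] [Group Y] (f : X →* Y) (R : Subgroup X) (T : Subgroup Y)
    (h : R.map f = T) [Finite R] (hc : Nat.card R ≤ Nat.card T) : Nonempty (R ≃* T) := by
  subst h
  have hs : Function.Surjective (f.subgroupMap R) := f.subgroupMap_surjective R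
  haveI : Finite (R.map f) := Finite.of_surjective _ hs
  have hb : Function.Bijective (f.subgroupMap R) :=
    hs.bijective_of_nat_card_le hc
  exact ⟨MulEquiv.ofBijective _ hb⟩

/-- The paired generators on 50 and 126 points. -/
noncomputable def pairAB (k : Fin 2) : Perm (Fin 50) × Perm (Fin 126) := (pgen 50 cAGens k, pgen 126 cBGens k)

theorem a50_iso_G : Nat.card A50 = 126000 ∧ Nonempty (A50 ≃* U35.G) := by
  obtain ⟨hA, hB, hC⟩ := gens_facts
  let R : Subgroup (Perm (Fin 50) × Perm (Fin 126)) := Subgroup.closure (Set.range pairAB)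
  let Φ : Perm (Fin 50) × Perm (Fin 126) →* Perm (Fin 176) :=
    (finSumFinEquiv (m := 50) (n := 126)).permCongrHom.toMonoidHom.comp (Perm.sumCongrHom (Fin 50) (Fin 126))
  have hΦ : Function.Injective Φ :=
    (finSumFinEquiv (m := 50) (n := 126)).permCongrHom.injective.comp Perm.sumCongrHom_injective
  have hgen : ∀ k, Φ (pairAB k) = pgen 176 cCGens k := fun k => by
    refine Equiv.ext fun i => ?_
    obtain ⟨j, rfl⟩ := (finSumFinEquiv (m := 50) (n := 126)).surjective i
    apply Fin.ext
    rw [repr_pgen hC k (finSumFinEquiv j)]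
    have he : Φ (pairAB k) (finSumFinEquiv j)
        = finSumFinEquiv (Sum.map (pgen 50 cAGens k) (pgen 126 cBGens k) j) := by
      simp [Φ, pairAB]
    rw [he]
    rcases j with j | j
    · simp only [Sum.map_inl, finSumFinEquiv_apply_left, Fin.val_castAdd]
      rw [repr_pgen hA k j]
      exact ((block_facts k).1 j).symm
    · simp only [Sum.map_inr, finSumFinEquiv_apply_right, Fin.val_natAdd]
      rw [repr_pgen hB k j]
      exact ((block_facts k).2 j).symm
  have hR : Nat.card R = 126000 := by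
    rw [Nat.card_congr (R.equivMapOfInjective Φ hΦ).toEquiv, ← closure_C, MonoidHom.map_closure,
      ← Set.range_comp]
    exact congrArg (fun f => Nat.card (Subgroup.closure (Set.range f))) (funext hgen)
  have h1 : R.map (MonoidHom.fst _ _) = A50 := by
    rw [MonoidHom.map_closure, ← Set.range_comp]
    rfl
  have h2 : R.map (MonoidHom.snd _ _) = U35.G := by
    rw [MonoidHom.map_closure, ← Set.range_comp, ← closure_B]
    rfl
  obtain ⟨e1⟩ := equiv_of_map _ R _ h1 (hR.le.trans card_A50)
  obtain ⟨e2⟩ := equiv_of_map _ R _ h2 (le_of_eq (hR.trans U35.card_G.symm))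
  exact ⟨(Nat.card_congr e1.toEquiv).symm.trans hR, ⟨e1.symm.trans e2⟩⟩

theorem tX_mem : vecOf tX ∈ leechLattice :=
  lattice_of_form (p := 0) (m := 0x831d40) (by norm_num) (mem_codeList_of_inCode (by decide +kernel))
    (by decide +kernel) (by decide +kernel)

theorem vec_facts : ∀ i : Fin 50,
    (vecForms.getD i (0, 0)).1 < 2 ∧ inCode (vecForms.getD i (0, 0)).2 = true ∧
    (∀ q, vecOf (vecs.getD i []) q % 4 =
      res (vecForms.getD i (0, 0)).1 ((vecForms.getD i (0, 0)).2.testBit (enc q))) ∧
    (∑ q, vecOf (vecs.getD i []) q) % 8 = 4 * ((vecForms.getD i (0, 0)).1 : ℤ) := by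
  decide +kernel

/-- The 50 vectors. -/
noncomputable def vec (i : Fin 50) : ↥leechLattice :=
  ⟨vecOf (vecs.getD i []), lattice_of_form (vec_facts i).1 (mem_codeList_of_inCode (vec_facts i).2.1)
    (vec_facts i).2.2.1 (vec_facts i).2.2.2⟩

theorem vecs_nodup : ((List.finRange 50).map fun i : Fin 50 => listOf (vecOf (vecs.getD i []))).Nodup := by
  decide +kernel

theorem vec_injective : Function.Injective vec := fun i j h => by
  have h1 := List.inj_on_of_nodup_map vecs_nodup (List.mem_finRange i) (List.mem_finRange j)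
  exact h1 (congrArg (fun v : ↥leechLattice => listOf (v : GolayPt → ℤ)) h)

theorem words_good : mgens.all genGood = true ∧
    ∀ k : Fin 2, wordGood mgens (words.getD k []) = true := by
  decide +kernel

theorem words_fix : ∀ k : Fin 2, ∀ l ∈ [bU, bW, tX],
    actWord mgens (words.getD k []) (listOf (vecOf l)) = listOf (vecOf l) := by
  decide +kernel

theorem words_vecs : ∀ k : Fin 2, ∀ i : Fin 50,
    actWord mgens (words.getD k []) (listOf (vecOf (vecs.getD i [])))
      = listOf (vecOf (vecs.getD (app (cAGens.getD k (0, 0)).1 i) [])) := by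
  decide +kernel

/-- The two elements. -/
noncomputable def gel (k : Fin 2) : ↥Co0 := (exists_word words_good.1 (words_good.2 k)).choose

theorem gel_spec (k : Fin 2) (v : ↥leechLattice) :
    listOf ((gel k • v : ↥leechLattice) : GolayPt → ℤ)
      = actWord mgens (words.getD k []) (listOf (v : GolayPt → ℤ)) :=
  (exists_word words_good.1 (words_good.2 k)).choose_spec v

theorem eq_of_listOf {v w : ↥leechLattice}
    (h : listOf (v : GolayPt → ℤ) = listOf (w : GolayPt → ℤ)) : v = w :=
  Subtype.ext (by rw [← vecOf_listOf (v : GolayPt → ℤ), h, vecOf_listOf])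

theorem gel_vec (k : Fin 2) (i : Fin 50) : gel k • vec i = vec (pgen 50 cAGens k i) := by
  refine eq_of_listOf ?_
  rw [gel_spec]
  refine (words_vecs k i).trans ?_
  show _ = listOf (vecOf (vecs.getD ((pgen 50 cAGens k i : Fin 50) : ℕ) []))
  rw [repr_pgen gens_facts.1 k i]

theorem gel_fix (k : Fin 2) {l : List ℤ} (hl : l ∈ [bU, bW, tX]) {v : ↥leechLattice}
    (hv : (v : GolayPt → ℤ) = vecOf l) : gel k • v = v :=
  eq_of_listOf (by rw [gel_spec, hv]; exact words_fix k l hl)

/-- The first base vector. -/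
noncomputable abbrev uB : ↥leechLattice := ⟨vecOf bU, bU_mem⟩
/-- The second base vector. -/
noncomputable abbrev wB : ↥leechLattice := ⟨vecOf bW, bW_mem⟩
/-- The third base vector. -/
noncomputable abbrev xB : ↥leechLattice := ⟨vecOf tX, tX_mem⟩

/-- The pairs of an automorphism and the permutation it induces on the 50 vectors. -/
noncomputable def graphSub : Subgroup (↥Co0 × Perm (Fin 50)) where
  carrier := {p | ∀ i, p.1 • vec i = vec (p.2 i)}
  one_mem' := fun i => one_smul _ _
  mul_mem' := fun {p q} hp hq i => by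
    show (p.1 * q.1) • vec i = vec (p.2 (q.2 i))
    rw [mul_smul, hq i, hp]
  inv_mem' := fun {p} hp i => by
    show p.1⁻¹ • vec i = vec (p.2.symm i)
    rw [inv_smul_eq_iff, hp, Equiv.apply_symm_apply]

theorem stab_iso (hS : Nat.card
      ↥(MulAction.stabilizer ↥Co0 uB ⊓ MulAction.stabilizer ↥Co0 wB ⊓ MulAction.stabilizer ↥Co0 xB) = 126000) :
    Nonempty (↥(MulAction.stabilizer ↥Co0 uB ⊓ MulAction.stabilizer ↥Co0 wB ⊓ MulAction.stabilizer ↥Co0 xB)
      ≃* U35.G) := by
  set S := MulAction.stabilizer ↥Co0 uB ⊓ MulAction.stabilizer ↥Co0 wB ⊓ MulAction.stabilizer ↥Co0 xB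
  haveI := finite_co0
  obtain ⟨hA, ⟨e⟩⟩ := a50_iso_G
  let R : Subgroup (↥Co0 × Perm (Fin 50)) :=
    Subgroup.closure (Set.range fun k => (gel k, pgen 50 cAGens k))
  have hRW : R ≤ graphSub := by
    refine (Subgroup.closure_le _).mpr ?_
    rintro _ ⟨k, rfl⟩ i
    exact gel_vec k i
  have hfst : R.map (MonoidHom.fst _ _) ≤ S := by
    rw [MonoidHom.map_closure, Subgroup.closure_le]
    rintro _ ⟨_, ⟨k, rfl⟩, rfl⟩
    exact ⟨⟨gel_fix k (by simp) rfl, gel_fix k (by simp) rfl⟩, gel_fix k (by simp) rfl⟩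
  have hinj : Function.Injective ((MonoidHom.fst ↥Co0 (Perm (Fin 50))).subgroupMap R) := by
    rw [← MonoidHom.ker_eq_bot_iff, Subgroup.eq_bot_iff_forall]
    intro p hp
    have h1 : p.1.1 = 1 := congrArg Subtype.val (MonoidHom.mem_ker.mp hp)
    refine Subtype.ext (Prod.ext h1 (Equiv.ext fun i => vec_injective ?_))
    have h2 := hRW p.2 i
    rw [h1, one_smul] at h2
    exact h2.symm
  let e0 : R ≃* R.map (MonoidHom.fst _ _) :=
    MulEquiv.ofBijective _ ⟨hinj, MonoidHom.subgroupMap_surjective _ R⟩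
  have hsnd : R.map (MonoidHom.snd _ _) = A50 := by
    rw [MonoidHom.map_closure, ← Set.range_comp]
    rfl
  have hR : Nat.card R ≤ 126000 := by
    rw [Nat.card_congr e0.toEquiv, ← hS]
    exact Subgroup.card_le_of_le hfst
  obtain ⟨e1⟩ := equiv_of_map _ R _ hsnd (hR.trans card_A50)
  have hH : R.map (MonoidHom.fst _ _) = S := by
    refine Subgroup.eq_of_le_of_card_ge hfst ?_
    rw [hS, ← Nat.card_congr e0.toEquiv, Nat.card_congr e1.toEquiv, hA]
  exact ⟨((MulEquiv.subgroupCongr hH).symm.trans (e0.symm.trans e1)).trans e⟩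

end Cfsg.Agent.Lib.Leech.HSU35
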