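import Cfsg.Agent.Lib.Leech.CoTwoInvData
import Cfsg.Agent.Lib.Leech.HSU35
import Cfsg.Agent.Lib.Leech.StabBase
import Cfsg.Agent.Lib.Recognition.Sp6Model
import Cfsg.Agent.Lib.Classical.SympSimple
import Cfsg.Agent.Lib.PGroups.SymplecticType
import Cfsg.Agent.Lib.PGroups.Subnormal
import Cfsg.Agent.Lib.Classification.Extraspecial
import Cfsg.Prelude.Def_Spor_Conway

/-!
An involution of the second Conway group whose centraliser is an extraspecial group of order `2 ^ 9`
extended by `Sp₆(2)`.
-/

set_option autoImplicit false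
set_option maxRecDepth 100000

namespace Cfsg.Agent.Lib.Leech.CoTwoInv

open Cfsg Equiv Matrix Cfsg.Agent.Lib.Compute
open scoped commutatorElement
open Cfsg.Agent.Lib.Leech.HSU35 (eq_of_listOf equiv_of_map wfun)
open Cfsg.Agent.Lib.Recognition.Sp6Cover (pspCert pspCert0)
open Cfsg.Agent.Lib.Recognition.Sp6Model (vec vec_inj vec_surj rep rep_injective range_eq pos S Ix)

/-! ### coordinate lists -/

/-- The negated mask. -/
def tMask : ℕ := 0x7dbfd0

/-- The base vector as a list. -/
def vList : List ℤ := (List.finRange 24).map fun i : Fin 24 => if i.val = 0 ∨ i.val = 23 then 4 else 0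

theorem listOf_leechU : listOf (Spor.leechU : GolayPt → ℤ) = vList := by
  show listOf Spor.vecU = vList
  decide +kernel

/-- Negation on lists. -/
def negL (l : List ℤ) : List ℤ := l.map fun a => -a

theorem listOf_neg (x : GolayPt → ℤ) : listOf (-x) = negL (listOf x) := by
  simp [listOf, negL, List.map_map, Function.comp_def]

/-- The inner product on lists. -/
def dotL (a b : List ℤ) : ℤ := ((List.finRange 24).map fun i : Fin 24 => a.getD i 0 * b.getD i 0).sum

theorem dot_eq (x y : GolayPt → ℤ) : dotInt x y = dotL (listOf x) (listOf y) := by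
  rw [dotInt, dotL, ← Equiv.sum_comp enc.symm (fun q => x q * y q), Fin.sum_univ_def]
  refine congrArg List.sum (List.map_congr_left fun i _ => ?_)
  rw [listOf_getD, listOf_getD]

theorem sqNorm_eq (x : GolayPt → ℤ) : sqNorm x = dotL (listOf x) (listOf x) := by
  rw [← dot_eq]
  exact Finset.sum_congr rfl fun _ _ => pow_two _

/-! ### the involution -/

theorem tMask_code : setOf24 tMask ∈ supports (golayCode : Set (GolayPt → ZMod 2)) := by
  rw [supports_golayCode]
  exact ⟨tMask, mem_codeList_of_inCode (by decide +kernel), rfl⟩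

/-- The involution. -/
noncomputable def tEl : ↥Co0 := (exists_mono 1 (one_mem _) _ tMask_code).choose

theorem tEl_apply (x : ↥leechLattice) (q : GolayPt) : ((tEl • x : ↥leechLattice) : GolayPt → ℤ) q
    = if tMask.testBit (enc q) then -(x : GolayPt → ℤ) q else (x : GolayPt → ℤ) q := by
  rw [tEl, (exists_mono 1 (one_mem _) _ tMask_code).choose_spec x]
  simp [signedPerm, mem_setOf24, show (1 : Perm GolayPt).symm q = q from rfl]

/-- The involution on lists. -/
def tL (l : List ℤ) : List ℤ :=
  (List.finRange 24).map fun i : Fin 24 => if tMask.testBit i then -l.getD i 0 else l.getD i 0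

theorem tEl_listOf (x : ↥leechLattice) :
    listOf ((tEl • x : ↥leechLattice) : GolayPt → ℤ) = tL (listOf (x : GolayPt → ℤ)) := by
  refine List.map_congr_left fun i _ => ?_
  rw [tEl_apply, Equiv.apply_symm_apply, listOf_getD]

/-- Vanishing where the involution negates. -/
def Supp (x : ↥leechLattice) : Prop := ∀ q, tMask.testBit (enc q) = true → (x : GolayPt → ℤ) q = 0

theorem fix_iff (x : ↥leechLattice) : tEl • x = x ↔ Supp x := by
  constructor
  · intro h q hq
    have h1 := congrArg (fun y : ↥leechLattice => (y : GolayPt → ℤ) q) h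
    simp only [tEl_apply, hq, if_true] at h1
    omega
  · intro h
    refine Subtype.ext (funext fun q => ?_)
    rw [tEl_apply]
    split_ifs with hq
    · rw [h q hq, neg_zero]
    · rfl

theorem tEl_fix : tEl • Spor.leechU = Spor.leechU :=
  eq_of_listOf (by rw [tEl_listOf, listOf_leechU]; decide +kernel)

/-- The centraliser inside the stabiliser of the base vector. -/
noncomputable abbrev C0 : Subgroup ↥Co0 :=
  Subgroup.centralizer {tEl} ⊓ MulAction.stabilizer ↥Co0 Spor.leechU

theorem comm_smul {g : ↥Co0} (hg : g ∈ C0) (x : ↥leechLattice) : tEl • (g • x) = g • (tEl • x) := by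
  rw [← mul_smul, ← mul_smul, Subgroup.mem_centralizer_singleton_iff.mp hg.1]

/-! ### the roots -/

theorem root_forms : ∀ i : Fin 63, inCode (rootForms.getD i 0) = true ∧
    (∀ q, vecOf (roots.getD i []) q % 4 = res 0 ((rootForms.getD i 0).testBit (enc q))) ∧
    (∑ q, vecOf (roots.getD i []) q) % 8 = 4 * ((0 : ℕ) : ℤ) := by
  decide +kernel

/-- A root. -/
noncomputable def root (i : Fin 63) : ↥leechLattice :=
  ⟨vecOf (roots.getD i []), lattice_of_form (by norm_num) (mem_codeList_of_inCode (root_forms i).1)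
    (root_forms i).2.1 (root_forms i).2.2⟩

theorem root_lists : ∀ i : Fin 63, listOf (vecOf (roots.getD i [])) = roots.getD i [] := by
  decide +kernel

theorem listOf_root (i : Fin 63) : listOf (root i : GolayPt → ℤ) = roots.getD i [] := root_lists i

theorem root_getD (i : Fin 63) (q : Fin 24) :
    (root i : GolayPt → ℤ) (enc.symm q) = (roots.getD i []).getD q 0 := by
  rw [← listOf_root, listOf_getD]

/-- Equal up to sign. -/
def PM (a b : ↥leechLattice) : Prop := a = b ∨ a = -b

theorem listOf_neg' (x : ↥leechLattice) :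
    listOf ((-x : ↥leechLattice) : GolayPt → ℤ) = negL (listOf (x : GolayPt → ℤ)) :=
  listOf_neg _

theorem pm_of_list {a b : ↥leechLattice}
    (h : listOf (a : GolayPt → ℤ) = listOf (b : GolayPt → ℤ) ∨
      listOf (a : GolayPt → ℤ) = negL (listOf (b : GolayPt → ℤ))) : PM a b := by
  rcases h with h | h
  · exact Or.inl (eq_of_listOf h)
  · exact Or.inr (eq_of_listOf (by rw [listOf_neg', h]))

theorem roots_inj : ∀ i j : Fin 63,
    (roots.getD i [] = roots.getD j [] ∨ roots.getD i [] = negL (roots.getD j [])) → i = j := by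
  decide +kernel

theorem root_unique {i j : Fin 63} (h : PM (root i) (root j)) : i = j := by
  refine roots_inj i j ?_
  rcases h with h | h
  · exact Or.inl (by rw [← listOf_root, h, listOf_root])
  · exact Or.inr (by rw [← listOf_root, h, listOf_neg', listOf_root])

theorem root_facts : ∀ i : Fin 63,
    dotL (roots.getD i []) (roots.getD i []) = 32 ∧ dotL (roots.getD i []) vList = 0 ∧
      tL (roots.getD i []) = roots.getD i [] := by
  decide +kernel

/-! ### completeness -/

/-- The points of the octad. -/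
def dPts : List (Fin 24) := [0, 1, 2, 3, 5, 14, 17, 23]

/-- The list with the given octad entries. -/
def mkList (l : List ℤ) : List ℤ :=
  (List.finRange 24).map fun i : Fin 24 => if tMask.testBit i then 0 else l.getD (dPts.idxOf i) 0

theorem dPts_idx : ∀ i : Fin 24, tMask.testBit i = false → dPts[dPts.idxOf i]? = some i := by
  decide +kernel

theorem listOf_supp (x : ↥leechLattice) (h : Supp x) : listOf (x : GolayPt → ℤ)
    = mkList (dPts.map fun d => (x : GolayPt → ℤ) (enc.symm d)) := by
  refine List.map_congr_left fun i _ => ?_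
  cases hb : tMask.testBit i with
  | true =>
    rw [if_pos rfl]
    exact h _ (by rw [Equiv.apply_symm_apply, hb])
  | false =>
    rw [if_neg (by simp), List.getD_eq_getElem?_getD, List.getElem?_map, dPts_idx i hb,
      Option.map_some, Option.getD_some]

/-- All lists of a length over the given values. -/
def cands (vals : List ℤ) : ℕ → List (List ℤ)
  | 0 => [[]]
  | k + 1 => vals.flatMap fun a => (cands vals k).map fun l => a :: l

theorem mem_cands {vals : List ℤ} : ∀ {l : List ℤ}, (∀ a ∈ l, a ∈ vals) → l ∈ cands vals l.length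
  | [], _ => List.mem_singleton.mpr rfl
  | a :: l, h => List.mem_flatMap.mpr ⟨a, h a List.mem_cons_self,
      List.mem_map.mpr ⟨l, mem_cands fun b hb => h b (List.mem_cons_of_mem _ hb), rfl⟩⟩

/-- A candidate is no counterexample. -/
def candOk (l : List ℤ) : Bool :=
  let L := mkList l
  !(decide (dotL L L = 32) && decide (dotL L vList = 0) && decide (L.sum % 8 = 0)) ||
    roots.any fun r => L == r || L == negL r

theorem cands_ok : (cands [2, -2] 8).all candOk = true ∧ (cands [0, 4, -4] 8).all candOk = true := by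
  decide +kernel

theorem code_in_octad : ∀ m ∈ codeList,
    ((List.range 24).any fun i => tMask.testBit i && m.testBit i) ∨ m = 0 ∨ m = 0x82402f := by
  decide +kernel

theorem octad_bits : ∀ i : Fin 24, (0x82402f : ℕ).testBit i = !tMask.testBit i := by decide +kernel

theorem root_of (x : ↥leechLattice) (hs : Supp x) (hn : sqNorm (x : GolayPt → ℤ) = 32)
    (hd : dotInt (x : GolayPt → ℤ) (Spor.leechU : GolayPt → ℤ) = 0) : ∃ i, PM x (root i) := by
  obtain ⟨m, w, hx, hw, hsum⟩ := mem_leechLattice_iff.mp x.2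
  have hq0 : tMask.testBit (enc (enc.symm 4)) = true := by rw [Equiv.apply_symm_apply]; decide
  obtain ⟨k, rfl⟩ : ∃ k, m = 2 * k := ⟨-(w (enc.symm 4)), by
    have h1 := hs _ hq0
    rw [hx] at h1
    omega⟩
  have hy : (redTwo fun q => w q + k) ∈ golayCode := by
    have e : (redTwo fun q => w q + k) = redTwo w + (k : ZMod 2) • (1 : GolayPt → ZMod 2) := by
      funext q
      simp [redTwo]
    rw [e]
    exact add_mem hw (Submodule.smul_mem _ _ one_mem_golayCode)
  obtain ⟨mm, hmm, he⟩ := mem_golayCode_iff.mp hy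
  have hbit : ∀ q, (w q + k) % 2 = if mm.testBit (enc q) then 1 else 0 := fun q => by
    have h1 := congrFun he q
    simp only [redTwo, wordOf] at h1
    split_ifs with hb
    · rw [← intCast_zmod2_ne_zero_iff, h1, if_pos hb]; exact one_ne_zero
    · rw [if_neg hb] at h1
      have := (ZMod.intCast_zmod_eq_zero_iff_dvd _ _).mp h1
      omega
  have hval : ∀ q, (x : GolayPt → ℤ) q = 2 * (w q + k) := fun q => by rw [hx]; ring
  have hsmall : ∀ q, -2 ≤ w q + k ∧ w q + k ≤ 2 := fun q => by
    have h1 : (x : GolayPt → ℤ) q ^ 2 ≤ 32 := hn ▸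
      Finset.single_le_sum (f := fun i => (x : GolayPt → ℤ) i ^ 2) (fun i _ => sq_nonneg _)
        (Finset.mem_univ q)
    rw [hval] at h1
    constructor <;> nlinarith
  have hsum8 : (listOf (x : GolayPt → ℤ)).sum % 8 = 0 := by
    have h1 : (listOf (x : GolayPt → ℤ)).sum = ∑ q, (x : GolayPt → ℤ) q := by
      rw [listOf, ← Fin.sum_univ_def, Equiv.sum_comp enc.symm (fun q => (x : GolayPt → ℤ) q)]
    rw [h1, Finset.sum_congr rfl (fun q _ => hx q), Finset.sum_add_distrib, sum_const_golayPt,
      ← Finset.mul_sum]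
    simp only [Int.ModEq] at hsum
    omega
  set l := dPts.map fun d => (x : GolayPt → ℤ) (enc.symm d) with hl
  have hL := listOf_supp x hs
  rw [← hl] at hL
  have hmem : l ∈ cands [2, -2] 8 ∨ l ∈ cands [0, 4, -4] 8 := by
    rcases code_in_octad mm hmm with h | h | h
    · simp only [List.any_eq_true, List.mem_range, Bool.and_eq_true] at h
      obtain ⟨i, hi, h1, h2⟩ := h
      exfalso
      have h3 := hs (enc.symm ⟨i, hi⟩) (by rwa [Equiv.apply_symm_apply])
      have h4 := hbit (enc.symm ⟨i, hi⟩)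
      rw [hval] at h3
      rw [Equiv.apply_symm_apply, if_pos h2] at h4
      omega
    · right
      have := mem_cands (vals := [0, 4, -4]) (l := l) fun a ha => by
        obtain ⟨d, -, rfl⟩ := List.mem_map.mp ha
        have h4 := hbit (enc.symm d)
        obtain ⟨h5, h6⟩ := hsmall (enc.symm d)
        rw [h, Nat.zero_testBit] at h4
        simp only [List.mem_cons, List.not_mem_nil, or_false, hval]
        simp at h4
        omega
      exact this
    · left
      have := mem_cands (vals := [2, -2]) (l := l) fun a ha => by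
        obtain ⟨d, hd', rfl⟩ := List.mem_map.mp ha
        have h4 := hbit (enc.symm d)
        obtain ⟨h5, h6⟩ := hsmall (enc.symm d)
        have hb : ∀ d ∈ dPts, tMask.testBit ((d : Fin 24) : ℕ) = false := by decide +kernel
        rw [h, Equiv.apply_symm_apply, octad_bits, hb d hd'] at h4
        simp only [List.mem_cons, List.not_mem_nil, or_false, hval]
        simp at h4
        omega
      exact this
  have hok : candOk l = true := by
    rcases hmem with h | h
    · exact List.all_eq_true.mp cands_ok.1 l h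
    · exact List.all_eq_true.mp cands_ok.2 l h
  have hpre : dotL (mkList l) (mkList l) = 32 ∧ dotL (mkList l) vList = 0 ∧ (mkList l).sum % 8 = 0 := by
    rw [← hL, ← sqNorm_eq, ← listOf_leechU, ← dot_eq]
    exact ⟨hn, hd, hsum8⟩
  simp only [candOk, hpre, decide_true, Bool.and_true, Bool.not_true, Bool.false_or, List.any_eq_true,
    Bool.or_eq_true, beq_iff_eq] at hok
  obtain ⟨r, hr, hok⟩ := hok
  obtain ⟨i, hi, rfl⟩ := List.getElem_of_mem hr
  have hlen : roots.length = 63 := by decide +kernel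
  refine ⟨⟨i, hlen ▸ hi⟩, pm_of_list ?_⟩
  rw [listOf_root, hL]
  simp only [List.getD_eq_getElem _ _ hi]
  exact hok

/-! ### the action on the roots -/

theorem root_img {g : ↥Co0} (hg : g ∈ C0) (i : Fin 63) : ∃ j, PM (g • root i) (root j) := by
  obtain ⟨h1, h2, h3⟩ := root_facts i
  refine root_of _ ((fix_iff _).mp ?_) ?_ ?_
  · rw [comm_smul hg]
    congr 1
    exact eq_of_listOf (by rw [tEl_listOf, listOf_root, h3])
  · rw [co0_sqNorm, sqNorm_eq, listOf_root, h1]
  · have hv : g • Spor.leechU = Spor.leechU := hg.2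
    conv_lhs => rw [← hv]
    rw [co0_dot, dot_eq, listOf_root, listOf_leechU, h2]

/-- The image of a root up to sign. -/
noncomputable def rAct (g : ↥C0) (i : Fin 63) : Fin 63 := (root_img g.2 i).choose

theorem rAct_spec (g : ↥C0) (i : Fin 63) : PM ((g : ↥Co0) • root i) (root (rAct g i)) :=
  (root_img g.2 i).choose_spec

theorem rAct_eq (g : ↥C0) {i j : Fin 63} (h : PM ((g : ↥Co0) • root i) (root j)) : rAct g i = j := by
  refine root_unique ?_
  rcases rAct_spec g i with e | e <;> rcases h with e' | e' <;> rw [e] at e'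
  · exact Or.inl e'
  · exact Or.inr e'
  · exact Or.inr (by rw [← e', neg_neg])
  · exact Or.inl (neg_inj.mp e')

theorem rAct_one (i : Fin 63) : rAct 1 i = i := rAct_eq 1 (Or.inl (one_smul _ _))

theorem rAct_mul (g h : ↥C0) (i : Fin 63) : rAct (g * h) i = rAct g (rAct h i) := by
  refine rAct_eq _ ?_
  rw [Subgroup.coe_mul, mul_smul]
  rcases rAct_spec h i with e | e <;> rw [e]
  · exact rAct_spec g _
  · rw [co0_neg]
    rcases rAct_spec g (rAct h i) with e' | e' <;> rw [e']
    · exact Or.inr rfl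
    · exact Or.inl (neg_neg _)

theorem dot_negl (x y : GolayPt → ℤ) : dotInt (-x) y = -dotInt x y := by
  simp only [dotInt, Pi.neg_apply, neg_mul, Finset.sum_neg_distrib]

/-- The permutation action on the roots. -/
noncomputable def rootPerm : ↥C0 →* Perm (Fin 63) where
  toFun g :=
    { toFun := rAct g
      invFun := rAct g⁻¹
      left_inv := fun i => by rw [← rAct_mul, inv_mul_cancel, rAct_one]
      right_inv := fun i => by rw [← rAct_mul, mul_inv_cancel, rAct_one] }
  map_one' := Equiv.ext rAct_one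
  map_mul' g h := Equiv.ext (rAct_mul g h)

/-- The form on labels. -/
def B (i j : Fin 63) : ZMod 2 := vec i ⬝ᵥ (Matrix.J (Fin 3) (ZMod 2) *ᵥ vec j)

theorem form_table : ∀ i j : Fin 63, dotL (roots.getD i []) (roots.getD j []) % 16 = 0 ∧
    ((dotL (roots.getD i []) (roots.getD j []) / 16 : ℤ) : ZMod 2) = B i j := by
  decide +kernel

theorem dot_root (i j : Fin 63) :
    dotInt (root i : GolayPt → ℤ) (root j : GolayPt → ℤ) = dotL (roots.getD i []) (roots.getD j []) := by
  rw [dot_eq, listOf_root, listOf_root]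

theorem dot_pm {a b a' b' : ↥leechLattice} (ha : PM a a') (hb : PM b b') :
    dotInt (a : GolayPt → ℤ) (b : GolayPt → ℤ) = dotInt (a' : GolayPt → ℤ) (b' : GolayPt → ℤ) ∨
    dotInt (a : GolayPt → ℤ) (b : GolayPt → ℤ) = -dotInt (a' : GolayPt → ℤ) (b' : GolayPt → ℤ) := by
  rcases ha with rfl | rfl <;> rcases hb with rfl | rfl <;>
    simp [dot_negl, dotInt_neg_right]

theorem B_preserved (g : ↥C0) (i j : Fin 63) : B (rootPerm g i) (rootPerm g j) = B i j := by
  rw [← (form_table i j).2, ← (form_table (rootPerm g i) (rootPerm g j)).2, ← dot_root, ← dot_root]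
  have hd := (form_table (rootPerm g i) (rootPerm g j)).1
  rw [← dot_root] at hd
  have h : dotInt (root i : GolayPt → ℤ) (root j : GolayPt → ℤ)
        = dotInt (root (rootPerm g i) : GolayPt → ℤ) (root (rootPerm g j) : GolayPt → ℤ) ∨
      dotInt (root i : GolayPt → ℤ) (root j : GolayPt → ℤ)
        = -dotInt (root (rootPerm g i) : GolayPt → ℤ) (root (rootPerm g j) : GolayPt → ℤ) := by
    rw [← co0_dot (g : ↥Co0) (root i) (root j)]
    exact dot_pm (rAct_spec g i) (rAct_spec g j)
  rcases h with h | h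
  · rw [h]
  · rw [h, Int.neg_ediv_of_dvd (Int.dvd_of_emod_eq_zero hd), Int.cast_neg, ZMod.neg_eq_self_mod_two]

theorem form_nondeg : ∀ d : Ix → ZMod 2,
    (∀ j : Fin 63, d ⬝ᵥ (Matrix.J (Fin 3) (ZMod 2) *ᵥ vec j) = 0) → d = 0 := by
  decide +kernel

/-- The label of a unit vector. -/
def eIdx (k : Ix) : Fin 63 :=
  ⟨2 ^ (pos k).val - 1, by have h := Nat.pow_le_pow_right (show 1 ≤ 2 by norm_num) (show (pos k).val ≤ 5 by omega); omega⟩

theorem vec_eIdx : ∀ k, vec (eIdx k) = Pi.single k 1 := by decide +kernel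

theorem linear_of_form (σ : Perm (Fin 63)) (hσ : ∀ i j, B (σ i) (σ j) = B i j) : σ ∈ rep.range := by
  let A : Matrix Ix Ix (ZMod 2) := fun a k => vec (σ (eIdx k)) a
  let Jm := Matrix.J (Fin 3) (ZMod 2)
  have hcol : ∀ j, (Jm *ᵥ vec (σ j)) ᵥ* A = Jm *ᵥ vec j := fun j => funext fun k => by
    show (Jm *ᵥ vec (σ j)) ⬝ᵥ vec (σ (eIdx k)) = _
    rw [dotProduct_comm]
    show B (σ (eIdx k)) (σ j) = _
    rw [hσ, B, vec_eIdx, single_one_dotProduct]
  have hlin : ∀ i, A *ᵥ vec i = vec (σ i) := fun i => by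
    refine sub_eq_zero.mp (form_nondeg _ fun j' => ?_)
    obtain ⟨j, rfl⟩ := σ.surjective j'
    rw [sub_dotProduct, dotProduct_comm, Matrix.dotProduct_mulVec, hcol, dotProduct_comm]
    exact sub_eq_zero.mpr (hσ i j).symm
  have hA : A ∈ Matrix.symplecticGroup (Fin 3) (ZMod 2) := by
    rw [SymplecticGroup.mem_iff']
    refine Matrix.ext fun a b => ?_
    rw [Matrix.mul_assoc]
    show (fun k => A k a) ⬝ᵥ (Jm *ᵥ fun k => A k b) = _
    show B (σ (eIdx a)) (σ (eIdx b)) = _
    rw [hσ, B, vec_eIdx, vec_eIdx, single_one_dotProduct, Matrix.mulVec_single_one]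
    rfl
  refine ⟨⟨A, hA⟩, Equiv.ext fun i => vec_inj _ _ ?_⟩
  exact (Cfsg.Agent.Lib.Recognition.Sp6Model.vec_act _ i).trans (hlin i)

/-- The map onto the symplectic group. -/
noncomputable def psi : ↥C0 →* S :=
  (MonoidHom.ofInjective rep_injective).symm.toMonoidHom.comp
    (rootPerm.codRestrict rep.range fun g => linear_of_form _ (B_preserved g))

theorem rep_psi (g : ↥C0) : rep (psi g) = rootPerm g := by
  show rep ((MonoidHom.ofInjective rep_injective).symm ⟨rootPerm g, _⟩) = _
  exact congrArg Subtype.val ((MonoidHom.ofInjective rep_injective).apply_symm_apply ⟨rootPerm g, _⟩)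

theorem mem_ker_iff (g : ↥C0) : g ∈ psi.ker ↔ ∀ i, PM ((g : ↥Co0) • root i) (root i) := by
  rw [MonoidHom.mem_ker, ← rep_injective.eq_iff, rep_psi, map_one, Equiv.ext_iff]
  exact forall_congr' fun i => ⟨fun h => by have := rAct_spec g i; rwa [show rAct g i = i from h] at this,
    fun h => rAct_eq g h⟩

/-! ### lifts of generators -/

/-- The generators are permutations. -/
def allGenOk (n : ℕ) (gs : List (ℕ × ℕ)) : Bool :=
  (List.range gs.length).all fun k => genOk n (gs.getD k (0, 0))

/-- The strong generators are products of the generators. -/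
def allSpanOk (n : ℕ) (gs : List (ℕ × ℕ)) (L : Lvl) (ws : List (List ℕ)) : Bool :=
  (List.range L.gens.length).all fun k =>
    (ws.getD k []).all (fun j => decide (j < gs.length)) &&
      (List.range n).all fun i => app (L.gens.getD k (0, 0)).1 i == wfun gs (ws.getD k []) i

/-- The permutation of a generator. -/
noncomputable def perms (n : ℕ) (gs : List (ℕ × ℕ)) (k : Fin gs.length) : Perm (Fin n) :=
  toPerm n (gs.getD k (0, 0)).1

theorem repr_perms {n : ℕ} {gs : List (ℕ × ℕ)} (h : allGenOk n gs = true) (k : Fin gs.length) :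
    Repr (perms n gs k) (app (gs.getD k (0, 0)).1) :=
  repr_toPerm_of_genOk (List.all_eq_true.mp h k (List.mem_range.mpr k.isLt))

theorem wfun_perms {n : ℕ} {gs : List (ℕ × ℕ)} (h : allGenOk n gs = true) :
    ∀ {w : List ℕ}, w.all (fun j => decide (j < gs.length)) = true →
      ∃ σ ∈ Subgroup.closure (Set.range (perms n gs)), Repr σ (wfun gs w)
  | [], _ => ⟨1, one_mem _, Repr.one⟩
  | k :: w, hw => by
    simp only [List.all_cons, Bool.and_eq_true, decide_eq_true_eq] at hw
    obtain ⟨σ, hσ, hr⟩ := wfun_perms h (w := w) hw.2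
    exact ⟨perms n gs ⟨k, hw.1⟩ * σ, mul_mem (Subgroup.subset_closure ⟨_, rfl⟩) hσ,
      (repr_perms h ⟨k, hw.1⟩).mul hr⟩

theorem grp_le_perms {n : ℕ} {gs : List (ℕ × ℕ)} (h : allGenOk n gs = true) {L : Lvl} {rest : List Lvl}
    {ws : List (List ℕ)} (hs : allSpanOk n gs L ws = true) :
    grp n (L :: rest) ≤ Subgroup.closure (Set.range (perms n gs)) := by
  refine (Subgroup.closure_le _).mpr ?_
  rintro _ ⟨g, hg, rfl⟩
  obtain ⟨k, hk, rfl⟩ := List.getElem_of_mem hg
  have h1 := List.all_eq_true.mp hs k (List.mem_range.mpr hk)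
  simp only [Bool.and_eq_true] at h1
  obtain ⟨σ, hσ, hr⟩ := wfun_perms h h1.1
  have hr' : Repr σ (app (L.gens[k]).1) := fun i => by
    rw [hr i]
    have h2 := List.all_eq_true.mp h1.2 i (List.mem_range.mpr i.isLt)
    rw [List.getD_eq_getElem _ _ hk, beq_iff_eq] at h2
    exact h2.symm
  show toPerm n (L.gens[k]).1 ∈ _
  rw [repr_toPerm_of_repr hr']
  exact hσ

theorem co0_ext_eight {g h : ↥Co0} (e : ∀ q, g • eightAt q = h • eightAt q) : g = h := by
  refine co0_ext fun v => funext fun p => ?_
  have hv : (8 : ℤ) • v = ∑ q, (v : GolayPt → ℤ) q • eightAt q := by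
    refine Subtype.ext (funext fun r => ?_)
    simp only [AddSubgroup.coe_zsmul, AddSubgroup.val_finsetSum, Finset.sum_apply, Pi.smul_apply,
      smul_eq_mul, eightAt]
    rw [Finset.sum_eq_single r (fun q _ hq => by rw [Pi.single_eq_of_ne (Ne.symm hq), mul_zero])
      (fun h => absurd (Finset.mem_univ r) h), Pi.single_eq_same, mul_comm]
  have h1 : g • ((8 : ℤ) • v) = h • ((8 : ℤ) • v) := by
    rw [hv, co0_sum, co0_sum]
    refine Finset.sum_congr rfl fun q _ => ?_
    rw [co0_zsmul, co0_zsmul, e]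
  rw [co0_zsmul, co0_zsmul] at h1
  have h2 := congrArg (fun y : ↥leechLattice => (y : GolayPt → ℤ) p) h1
  simp at h2
  exact h2

/-- The list of a frame vector. -/
def eightL (k : Fin 24) (a : ℤ) : List ℤ :=
  (List.finRange 24).map fun i : Fin 24 => if i = k then a else 0

theorem listOf_single (k : Fin 24) (a : ℤ) :
    listOf (Pi.single (enc.symm k) a : GolayPt → ℤ) = eightL k a :=
  List.map_congr_left fun i _ => by simp [Pi.single_apply]

theorem words_ok : mgens.all genGood = true ∧ (∀ k : Fin 2, wordGood mgens (words.getD k []) = true) ∧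
    ∀ k : Fin 9, wordGood mgens (kWords.getD k []) = true := by
  decide +kernel

/-- Conditions for a word to give an element of the centraliser. -/
def wordIn (w : List (Option ℕ)) : Bool :=
  actWord mgens w vList == vList && (List.finRange 24).all fun q =>
    actWord mgens w (tL (eightL q 8)) == tL (actWord mgens w (eightL q 8))

theorem mem_C0_of {g : ↥Co0} {w : List (Option ℕ)} (hw : wordIn w = true)
    (hg : ∀ v : ↥leechLattice, listOf ((g • v : ↥leechLattice) : GolayPt → ℤ)
      = actWord mgens w (listOf (v : GolayPt → ℤ))) : g ∈ C0 := by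
  simp only [wordIn, Bool.and_eq_true, beq_iff_eq, List.all_eq_true] at hw
  refine ⟨Subgroup.mem_centralizer_singleton_iff.mpr (co0_ext_eight fun q => eq_of_listOf ?_),
    eq_of_listOf (by rw [hg, listOf_leechU, hw.1])⟩
  have h8 : listOf (eightAt q : GolayPt → ℤ) = eightL (enc q) 8 := by
    show listOf (Pi.single q 8) = _
    rw [← listOf_single, Equiv.symm_apply_apply]
  rw [mul_smul, mul_smul, hg, tEl_listOf, tEl_listOf, hg, h8]
  exact hw.2 _ (List.mem_finRange _)

theorem words_in : (∀ k : Fin 2, wordIn (words.getD k []) = true) ∧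
    ∀ k : Fin 9, wordIn (kWords.getD k []) = true := by
  decide +kernel

/-- A lift of a generator. -/
noncomputable def gel (k : Fin 2) : ↥Co0 := (exists_word words_ok.1 (words_ok.2.1 k)).choose

theorem gel_spec (k : Fin 2) (v : ↥leechLattice) :
    listOf ((gel k • v : ↥leechLattice) : GolayPt → ℤ)
      = actWord mgens (words.getD k []) (listOf (v : GolayPt → ℤ)) :=
  (exists_word words_ok.1 (words_ok.2.1 k)).choose_spec v

/-- A generator of the kernel. -/
noncomputable def kel (k : Fin 9) : ↥Co0 := (exists_word words_ok.1 (words_ok.2.2 k)).choose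

theorem kel_spec (k : Fin 9) (v : ↥leechLattice) :
    listOf ((kel k • v : ↥leechLattice) : GolayPt → ℤ)
      = actWord mgens (kWords.getD k []) (listOf (v : GolayPt → ℤ)) :=
  (exists_word words_ok.1 (words_ok.2.2 k)).choose_spec v

theorem word_roots : (∀ k : Fin 2, ∀ i : Fin 63,
      actWord mgens (words.getD k []) (roots.getD i []) = roots.getD (app (aGens.getD k (0, 0)).1 i) [] ∨
      actWord mgens (words.getD k []) (roots.getD i []) = negL (roots.getD (app (aGens.getD k (0, 0)).1 i) [])) ∧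
    ∀ k : Fin 9, ∀ i : Fin 63,
      actWord mgens (kWords.getD k []) (roots.getD i []) = roots.getD i [] ∨
      actWord mgens (kWords.getD k []) (roots.getD i []) = negL (roots.getD i []) := by
  decide +kernel

theorem a_facts : aGens.length = 2 ∧ allGenOk 63 aGens = true ∧ allSpanOk 63 aGens pspCert0 aWords = true := by
  decide +kernel

theorem psi_surjective : Function.Surjective psi := by
  intro A
  obtain ⟨hlen, hg, hs⟩ := a_facts
  have hle : Subgroup.closure (Set.range (perms 63 aGens)) ≤ rootPerm.range := by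
    refine (Subgroup.closure_le _).mpr ?_
    rintro _ ⟨k, rfl⟩
    have hk : (k : ℕ) < 2 := lt_of_lt_of_eq k.isLt hlen
    let g : ↥C0 := ⟨gel ⟨k, hk⟩, mem_C0_of (words_in.1 ⟨k, hk⟩) (gel_spec _)⟩
    refine ⟨g, Equiv.ext fun i => rAct_eq g (pm_of_list ?_)⟩
    show listOf ((gel ⟨k, hk⟩ • root i : ↥leechLattice) : GolayPt → ℤ) = _ ∨
      listOf ((gel ⟨k, hk⟩ • root i : ↥leechLattice) : GolayPt → ℤ) = _
    rw [gel_spec, listOf_root, listOf_root, repr_perms hg k i]
    exact word_roots.1 ⟨k, hk⟩ i
  have hA : rep A ∈ grp 63 pspCert := range_eq ▸ ⟨A, rfl⟩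
  have hA' : rep A ∈ grp 63 (pspCert0 :: pspCert.tail) := hA
  obtain ⟨g, hg'⟩ := hle (grp_le_perms hg hs hA')
  exact ⟨g, rep_injective (by rw [rep_psi, hg'])⟩

/-! ### scanning a certified group -/

/-- Some condition is violated. -/
def clash (want : List (ℕ × ℕ)) (f : ℕ → ℕ) : Bool := want.any fun p => !(f p.1 == p.2)

/-- All products of transversal elements meeting the conditions satisfy the test. -/
def scanAll (want : List (ℕ × ℕ)) (ok : (ℕ → ℕ) → Bool) : List Lvl → (ℕ → ℕ) → Bool
  | [], f => clash want f || ok f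
  | L :: rest, f => (List.range (L.trans.length + 1)).all fun q =>
      (want.any fun p => p.1 == L.base && !(f (tfun L q L.base) == p.2)) ||
        scanAll want ok rest fun i => f (tfun L q i)

theorem scanAll_sound {n : ℕ} {want : List (ℕ × ℕ)} {ok : (ℕ → ℕ) → Bool} :
    ∀ {c : List Lvl}, chk n c = true → ∀ {π : Perm (Fin n)} {f : ℕ → ℕ}, Repr π f →
      scanAll want ok c f = true → ∀ σ ∈ grp n c,
      (∀ p ∈ want, ∃ h : p.1 < n, (((π * σ) ⟨p.1, h⟩ : Fin n) : ℕ) = p.2) →
      ∃ g, Repr (π * σ) g ∧ ok g = true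
  | [], _, π, f, hf, hsc, σ, hσ, hw => by
    rw [grp, Subgroup.mem_bot] at hσ
    subst hσ
    rw [mul_one] at hw ⊢
    refine ⟨f, hf, ?_⟩
    simp only [scanAll, Bool.or_eq_true, clash, List.any_eq_true, Bool.not_eq_true', beq_eq_false_iff_ne] at hsc
    rcases hsc with ⟨p, hp, hne⟩ | h
    · obtain ⟨h, he⟩ := hw p hp
      rw [hf] at he
      exact absurd he hne
    · exact h
  | L :: rest, hc, π, f, hf, hsc, σ, hσ, hw => by
    obtain ⟨q, hq, τ, hτ, rfl⟩ := Cfsg.Agent.Lib.Compute.exists_decomp hc hσ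
    have hc' := hc
    simp only [chk, Bool.and_eq_true] at hc'
    obtain ⟨-, hg, ht, -, -, -⟩ := lvlOk_iff hc'.1
    have hr := hf.mul (trans_spec (rest := rest) hg ht q).1
    have h1 := List.all_eq_true.mp hsc q (List.mem_range.mpr (Nat.lt_succ_of_le hq))
    simp only [Bool.or_eq_true, List.any_eq_true, Bool.and_eq_true, beq_iff_eq, Bool.not_eq_true',
      beq_eq_false_iff_ne] at h1
    rcases h1 with ⟨p, hp, hb, hne⟩ | h1
    · obtain ⟨h, he⟩ := hw p hp
      rw [← mul_assoc, Perm.mul_apply, grp_rest_fixes hc'.1 hc'.2 ⟨p.1, h⟩ hb hτ, hr] at he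
      exact absurd (hb ▸ he) hne
    · rw [← mul_assoc] at hw ⊢
      exact scanAll_sound hc'.2 hr h1 τ hτ hw

/-! ### the kernel -/

/-- The images of the octad points under an element negating every root. -/
def swapPts : List (Fin 24) := [23, 1, 2, 3, 5, 14, 17, 0]

/-- Expressions of the frame vectors in the base vector and the roots. -/
def eightData : List (ℤ × ℤ × Fin 63 × ℤ × Fin 63) :=
  [(1, 1, 26, 0, 0), (0, 1, 2, 1, 23), (0, 1, 3, 1, 30), (0, 1, 30, -1, 3), (0, 1, 6, 1, 27),
    (0, 1, 8, 1, 17), (0, 1, 6, -1, 27), (1, -1, 26, 0, 0)]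

/-- The image list of a frame vector when every root is multiplied by `e`. -/
def combL (d : ℤ × ℤ × Fin 63 × ℤ × Fin 63) (e : ℤ) : List ℤ :=
  (List.finRange 24).map fun i : Fin 24 => d.1 * vList.getD i 0 +
    e * (d.2.1 * (roots.getD d.2.2.1 []).getD i 0 + d.2.2.2.1 * (roots.getD d.2.2.2.2 []).getD i 0)

theorem eight_table : ∀ k : Fin 8,
    combL (eightData.getD k (0, 0, 0, 0, 0)) 1 = eightL (dPts.getD k 0) 8 ∧
    combL (eightData.getD k (0, 0, 0, 0, 0)) (-1)
      = eightL (swapPts.getD k 0) (if k.val = 0 ∨ k.val = 7 then 8 else -8) := by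
  decide +kernel

/-- A combination of the base vector and the roots. -/
noncomputable def comb (d : ℤ × ℤ × Fin 63 × ℤ × Fin 63) (e : ℤ) : ↥leechLattice :=
  d.1 • Spor.leechU + e • (d.2.1 • root d.2.2.1 + d.2.2.2.1 • root d.2.2.2.2)

theorem listOf_comb (d : ℤ × ℤ × Fin 63 × ℤ × Fin 63) (e : ℤ) :
    listOf (comb d e : GolayPt → ℤ) = combL d e := by
  refine List.map_congr_left fun i _ => ?_
  rw [← listOf_leechU, listOf_getD, ← root_getD, ← root_getD]
  simp [comb]
  ring

theorem eight_image (g : ↥Co0) (hv : g • Spor.leechU = Spor.leechU) (e : ℤ)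
    (hr : ∀ i, g • root i = e • root i) (k : Fin 8) :
    listOf ((g • eightAt (enc.symm (dPts.getD k 0)) : ↥leechLattice) : GolayPt → ℤ)
      = combL (eightData.getD k (0, 0, 0, 0, 0)) e := by
  set d := eightData.getD k (0, 0, 0, 0, 0)
  have h1 : eightAt (enc.symm (dPts.getD k 0)) = comb d 1 := eq_of_listOf (by
    rw [listOf_comb, (eight_table k).1]
    exact listOf_single _ _)
  have h2 : g • comb d 1 = comb d e := by
    show co0Hom g (comb d 1) = comb d e
    simp only [comb, one_smul, map_add, map_zsmul]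
    show d.1 • (g • Spor.leechU) + (d.2.1 • (g • root _) + d.2.2.2.1 • (g • root _)) = _
    rw [hv, hr, hr, smul_add, smul_comm e d.2.1, smul_comm e d.2.2.2.1]
  rw [h1, h2, listOf_comb]

theorem link_table : ∀ i : Fin 63, ∃ k : Fin 63,
    dotL (roots.getD 0 []) (roots.getD k []) ≠ 0 ∧ dotL (roots.getD k []) (roots.getD i []) ≠ 0 := by
  decide +kernel

theorem link {g : ↥Co0} (hpm : ∀ i, PM (g • root i) (root i)) {a b : Fin 63}
    (h : dotL (roots.getD a []) (roots.getD b []) ≠ 0) {e : ℤ} (he : e = 1 ∨ e = -1)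
    (ha : g • root a = e • root a) : g • root b = e • root b := by
  have h1 := co0_dot g (root a) (root b)
  rw [ha] at h1
  rw [← dot_root] at h
  rcases hpm b with hb | hb <;> rcases he with rfl | rfl <;>
    simp only [one_smul, neg_smul] at h1 ⊢ <;>
    first
      | exact hb
      | (exfalso; rw [hb] at h1; simp [dot_negl, dotInt_neg_right] at h1; omega)

theorem uniform_sign {g : ↥Co0} (hpm : ∀ i, PM (g • root i) (root i)) :
    ∃ e : ℤ, (e = 1 ∨ e = -1) ∧ ∀ i, g • root i = e • root i := by
  obtain ⟨e, he, h0⟩ : ∃ e : ℤ, (e = 1 ∨ e = -1) ∧ g • root (0 : Fin 63) = e • root (0 : Fin 63) := by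
    rcases hpm 0 with h | h
    · exact ⟨1, Or.inl rfl, by rw [one_smul]; exact h⟩
    · exact ⟨-1, Or.inr rfl, by rw [neg_smul, one_smul]; exact h⟩
  refine ⟨e, he, fun i => ?_⟩
  obtain ⟨k, hk1, hk2⟩ := link_table i
  exact link hpm hk2 he (link hpm hk1 he h0)

/-- Prescribed images of the octad points. -/
def wantOf (tgt : List (Fin 24)) : List (ℕ × ℕ) :=
  (List.range 8).map fun k => (((dPts.getD k 0 : Fin 24) : ℕ), ((tgt.getD k 0 : Fin 24) : ℕ))

/-- One of the listed permutations. -/
def isFixer (f : ℕ → ℕ) : Bool := fixers.any fun P => (List.range 24).all fun i => f i == app P i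

theorem scan_fix : scanAll (wantOf dPts) isFixer m24Cert id = true := by decide +kernel

theorem scan_swap : scanAll (wantOf swapPts) (fun _ => false) m24Cert id = true := by decide +kernel

theorem avoid_table : ∀ m ∈ codeList,
    (dPts.any fun d => m.testBit ((d : Fin 24) : ℕ)) || avoid.contains m := by
  decide +kernel

/-- A monomial shape from a pair of indices. -/
noncomputable def shape (p : Fin 16 × Fin 32) : (GolayPt → ℤ) → GolayPt → ℤ :=
  signedPerm (toGP (toPerm 24 (fixers.getD p.1 0))) (setOf24 (avoid.getD p.2 0))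

theorem ker_shape (g : ↥C0) (hg : g ∈ psi.ker) : ∃ p, ∀ v : ↥leechLattice,
    (((g : ↥Co0) • v : ↥leechLattice) : GolayPt → ℤ) = shape p (v : GolayPt → ℤ) := by
  obtain ⟨e, he, hr⟩ := uniform_sign ((mem_ker_iff g).mp hg)
  have himg := eight_image (g : ↥Co0) g.2.2 e hr
  obtain ⟨π, hπ, c, hc, happ⟩ : ∃ π ∈ M24, ∃ c ∈ supports (golayCode : Set (GolayPt → ZMod 2)),
      ∀ v : ↥leechLattice, (((g : ↥Co0) • v : ↥leechLattice) : GolayPt → ℤ)
        = signedPerm π c (v : GolayPt → ℤ) := by
    refine exists_frame_of_eight _ (enc.symm (dPts.getD 0 0)) ?_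
    rcases he with rfl | rfl
    · exact ⟨enc.symm (dPts.getD 0 0), Or.inl (eq_of_listOf
        ((himg 0).trans ((eight_table 0).1.trans (listOf_single _ _).symm)))⟩
    · exact ⟨enc.symm (swapPts.getD 0 0), Or.inl (eq_of_listOf
        ((himg 0).trans ((eight_table 0).2.trans (listOf_single _ _).symm)))⟩
  let σ : Perm (Fin 24) := toGP.symm π
  have hσ : σ ∈ grp 24 m24Cert := by
    rw [← K24_eq, mem_K24, MulEquiv.apply_symm_apply]; exact hπ
  have hπσ : toGP σ = π := MulEquiv.apply_symm_apply _ _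
  -- images of the octad points
  have key : ∀ (k : Fin 8) (t : Fin 24) (a : ℤ), a ≠ 0 →
      combL (eightData.getD k (0, 0, 0, 0, 0)) e = eightL t a →
      σ (dPts.getD k 0) = t ∧ (a = 8 → enc.symm t ∉ c) := by
    intro k t a ha hk
    have h1 := happ (eightAt (enc.symm (dPts.getD k 0)))
    rw [show ((eightAt (enc.symm (dPts.getD k 0)) : ↥leechLattice) : GolayPt → ℤ)
      = Pi.single (enc.symm (dPts.getD k 0)) 8 from rfl, signedPerm_single] at h1
    have h2 : (Pi.single (π (enc.symm (dPts.getD k 0)))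
        (if π (enc.symm (dPts.getD k 0)) ∈ c then -8 else 8) : GolayPt → ℤ)
        = (Pi.single (enc.symm t) a : GolayPt → ℤ) := by
      rw [← h1, ← vecOf_listOf ((((g : ↥Co0) • eightAt (enc.symm (dPts.getD k 0)) : ↥leechLattice)) : GolayPt → ℤ),
        himg, hk, ← listOf_single, vecOf_listOf]
    have h3 : π (enc.symm (dPts.getD k 0)) = enc.symm t := by
      by_contra hne
      have := congrFun h2 (enc.symm t)
      rw [Pi.single_eq_same, Pi.single_eq_of_ne (Ne.symm hne)] at this
      exact ha this.symm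
    refine ⟨?_, fun h8 hmem => ?_⟩
    · rw [← hπσ, toGP_apply, Equiv.apply_symm_apply] at h3
      exact enc.symm.injective h3
    · have := congrFun h2 (enc.symm t)
      rw [h3, Pi.single_eq_same, Pi.single_eq_same, if_pos hmem, h8] at this
      norm_num at this
  have hwant : ∀ (tgt : List (Fin 24)), (∀ k : Fin 8, σ (dPts.getD k 0) = tgt.getD k 0) →
      ∀ p ∈ wantOf tgt, ∃ h : p.1 < 24, (((1 * σ) ⟨p.1, h⟩ : Fin 24) : ℕ) = p.2 := by
    intro tgt ht p hp
    obtain ⟨k, hk, rfl⟩ := List.mem_map.mp hp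
    refine ⟨(dPts.getD k 0).isLt, ?_⟩
    rw [one_mul, Fin.eta, ht ⟨k, List.mem_range.mp hk⟩]
  have hc0 := Repr.one (n := 24)
  rcases he with rfl | rfl
  · have hk := fun k : Fin 8 => key k _ 8 (by norm_num) (eight_table k).1
    obtain ⟨f, hf, hok⟩ := scanAll_sound m24Cert_ok hc0 scan_fix σ hσ (hwant _ fun k => (hk k).1)
    rw [one_mul] at hf
    simp only [isFixer, List.any_eq_true, List.all_eq_true, List.mem_range, beq_iff_eq] at hok
    obtain ⟨P, hP, hfP⟩ := hok
    obtain ⟨a, ha, rfl⟩ := List.getElem_of_mem hP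
    have hσP : toPerm 24 fixers[a] = σ := repr_toPerm_of_repr fun i => by rw [hf i, hfP i i.isLt]
    rw [supports_golayCode] at hc
    obtain ⟨m, hm, rfl⟩ := hc
    have hm' := avoid_table m hm
    simp only [Bool.or_eq_true, List.any_eq_true, List.contains_iff_mem] at hm'
    rcases hm' with ⟨d, hd, hbit⟩ | hav
    · exfalso
      obtain ⟨j, hj, rfl⟩ := List.getElem_of_mem hd
      have := (hk ⟨j, hj⟩).2 rfl
      rw [mem_setOf24, Equiv.apply_symm_apply, List.getD_eq_getElem _ _ hj] at this
      exact this hbit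
    obtain ⟨b, hb, rfl⟩ := List.getElem_of_mem hav
    have hlen : fixers.length = 16 ∧ avoid.length = 32 := by decide +kernel
    refine ⟨(⟨a, hlen.1 ▸ ha⟩, ⟨b, hlen.2 ▸ hb⟩), fun v => ?_⟩
    rw [happ, shape, List.getD_eq_getElem _ _ ha, List.getD_eq_getElem _ _ hb, hσP, hπσ]
  · have hk := fun k : Fin 8 => key k _ _ (by split_ifs <;> norm_num) (eight_table k).2
    obtain ⟨f, -, hok⟩ := scanAll_sound m24Cert_ok hc0 scan_swap σ hσ (hwant _ fun k => (hk k).1)
    exact absurd hok Bool.false_ne_true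

theorem card_ker_le : Nat.card psi.ker ≤ 512 := by
  let f : psi.ker → Fin 16 × Fin 32 := fun g => (ker_shape g.1 g.2).choose
  have hf : Function.Injective f := fun g h hgh => by
    refine Subtype.ext (Subtype.ext (co0_ext fun v => ?_))
    rw [(ker_shape g.1 g.2).choose_spec v, (ker_shape h.1 h.2).choose_spec v]
    exact congrArg (fun p => shape p (v : GolayPt → ℤ)) hgh
  refine (Nat.card_le_card_of_injective f hf).trans (le_of_eq ?_)
  simp

/-! ### the kernel as a permutation group -/

/-- The points outside the octad. -/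
def outPts : List ℕ := [4, 6, 7, 8, 9, 10, 11, 12, 13, 15, 16, 18, 19, 20, 21, 22]

/-- The signed frame vectors outside the octad, as lists. -/
def svL (i : ℕ) : List ℤ :=
  (List.finRange 24).map fun q : Fin 24 =>
    if q.val = outPts.getD (i % 16) 24 then (if i < 16 then 8 else -8) else 0

theorem sv_forms : ∀ i : Fin 32, (∀ q, vecOf (svL i) q % 4 = res 0 ((0 : ℕ).testBit (enc q))) ∧
    (∑ q, vecOf (svL i) q) % 8 = 4 * ((0 : ℕ) : ℤ) ∧ listOf (vecOf (svL i)) = svL i := by
  decide +kernel

/-- A signed frame vector. -/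
noncomputable def sv (i : Fin 32) : ↥leechLattice :=
  ⟨vecOf (svL i), lattice_of_form (m := 0) (by norm_num) (mem_codeList_of_inCode (by decide +kernel))
    (sv_forms i).1 (sv_forms i).2.1⟩

theorem listOf_sv (i : Fin 32) : listOf (sv i : GolayPt → ℤ) = svL i := (sv_forms i).2.2

theorem svL_nodup : ((List.finRange 32).map fun i : Fin 32 => svL i).Nodup := by decide +kernel

theorem sv_injective : Function.Injective sv := fun i j h =>
  List.inj_on_of_nodup_map svL_nodup (List.mem_finRange i) (List.mem_finRange j)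
    (by rw [← listOf_sv, h, listOf_sv])

theorem k_facts : kGens.length = 9 ∧ allGenOk 32 kGens = true ∧ chk 32 kCert = true ∧
    certOrder kCert = 512 ∧ allSpanOk 32 kGens kCert0 kSpan = true ∧
    ∀ k : Fin 9, memOk 32 kCert (kGens.getD k (0, 0)).1 (kMem.getD k []) = true := by
  decide +kernel

theorem word_sv : ∀ k : Fin 9, ∀ i : Fin 32,
    actWord mgens (kWords.getD k []) (svL i) = svL (app (kGens.getD k (0, 0)).1 i) := by
  decide +kernel

/-- The pairs of an automorphism and the permutation it induces on signed frame vectors. -/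
noncomputable def graphK : Subgroup (↥Co0 × Perm (Fin 32)) where
  carrier := {p | ∀ i, p.1 • sv i = sv (p.2 i)}
  one_mem' := fun i => one_smul _ _
  mul_mem' := fun {p q} hp hq i => by
    show (p.1 * q.1) • sv i = sv (p.2 (q.2 i))
    rw [mul_smul, hq i, hp]
  inv_mem' := fun {p} hp i => by
    show p.1⁻¹ • sv i = sv (p.2.symm i)
    rw [inv_smul_eq_iff, hp, Equiv.apply_symm_apply]

theorem ker_iso : Nonempty (psi.ker ≃* grp 32 kCert) ∧ Nat.card (grp 32 kCert) = 512 := by
  haveI := finite_co0
  obtain ⟨hlen, hg, hc, ho, hs, hm⟩ := k_facts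
  have hcard : Nat.card (grp 32 kCert) = 512 := by rw [card_grp hc, ho]
  refine ⟨?_, hcard⟩
  let K : Subgroup ↥Co0 := psi.ker.map C0.subtype
  let gen : Fin kGens.length → ↥Co0 × Perm (Fin 32) := fun k =>
    (kel ⟨k, lt_of_lt_of_eq k.isLt hlen⟩, perms 32 kGens k)
  let R : Subgroup (↥Co0 × Perm (Fin 32)) := Subgroup.closure (Set.range gen)
  have hRW : R ≤ graphK := by
    refine (Subgroup.closure_le _).mpr ?_
    rintro _ ⟨k, rfl⟩ i
    refine eq_of_listOf ?_
    show listOf ((kel _ • sv i : ↥leechLattice) : GolayPt → ℤ) = listOf (sv (perms 32 kGens k i) : GolayPt → ℤ)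
    rw [kel_spec, listOf_sv, listOf_sv, repr_perms hg k i]
    exact word_sv ⟨k, _⟩ i
  have hfst : R.map (MonoidHom.fst _ _) ≤ K := by
    rw [MonoidHom.map_closure, Subgroup.closure_le]
    rintro _ ⟨_, ⟨k, rfl⟩, rfl⟩
    refine ⟨⟨_, mem_C0_of (words_in.2 ⟨k, lt_of_lt_of_eq k.isLt hlen⟩) (kel_spec _)⟩, ?_, rfl⟩
    refine (mem_ker_iff _).mpr fun i => pm_of_list ?_
    show listOf ((kel _ • root i : ↥leechLattice) : GolayPt → ℤ) = _ ∨
      listOf ((kel _ • root i : ↥leechLattice) : GolayPt → ℤ) = _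
    rw [kel_spec, listOf_root]
    exact word_roots.2 _ i
  have hinj : Function.Injective ((MonoidHom.fst ↥Co0 (Perm (Fin 32))).subgroupMap R) := by
    rw [← MonoidHom.ker_eq_bot_iff, Subgroup.eq_bot_iff_forall]
    intro p hp
    have h1 : p.1.1 = 1 := congrArg Subtype.val (MonoidHom.mem_ker.mp hp)
    refine Subtype.ext (Prod.ext h1 (Equiv.ext fun i => sv_injective ?_))
    have h2 := hRW p.2 i
    rw [h1, one_smul] at h2
    exact h2.symm
  let e0 : R ≃* R.map (MonoidHom.fst _ _) :=
    MulEquiv.ofBijective _ ⟨hinj, MonoidHom.subgroupMap_surjective _ R⟩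
  have hsnd : R.map (MonoidHom.snd _ _) = grp 32 kCert := by
    rw [MonoidHom.map_closure, ← Set.range_comp]
    show Subgroup.closure (Set.range (perms 32 kGens)) = _
    refine le_antisymm ((Subgroup.closure_le _).mpr ?_) (grp_le_perms (rest := kCert.tail) hg hs)
    rintro _ ⟨k, rfl⟩
    exact (mem_grp_of_memOk hc (hm ⟨k, lt_of_lt_of_eq k.isLt hlen⟩)).2
  let eK : psi.ker ≃* K := psi.ker.equivMapOfInjective _ C0.subtype_injective
  have hK : Nat.card K ≤ 512 := by rw [← Nat.card_congr eK.toEquiv]; exact card_ker_le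
  have hR : Nat.card R ≤ 512 := by
    rw [Nat.card_congr e0.toEquiv]
    exact (Subgroup.card_le_of_le hfst).trans hK
  obtain ⟨e1⟩ := equiv_of_map _ R _ hsnd (hR.trans hcard.ge)
  have hH : R.map (MonoidHom.fst _ _) = K := by
    refine Subgroup.eq_of_le_of_card_ge hfst ?_
    rw [← Nat.card_congr e0.toEquiv, Nat.card_congr e1.toEquiv, hcard]
    exact hK
  exact ⟨eK.trans ((MulEquiv.subgroupCongr hH).symm.trans (e0.symm.trans e1))⟩

/-! ### the kernel is extraspecial -/

/-- The central involution on signed points. -/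
def zP : ℕ := 0xf000e000d000c000b000a0009000800070006000500040003000200010000001f001e001d001c001b001a0019001800170016001500140013001200110010

/-- The shift by sixteen. -/
def isShift (f : ℕ → ℕ) : Bool := (List.range 32).all fun i => f i == (i + 16) % 32

/-- The identity. -/
def isId (f : ℕ → ℕ) : Bool := (List.range 32).all fun i => f i == i

/-- A square in the expected subgroup. -/
def sqTest (f : ℕ → ℕ) : Bool := isId (fun i => f (f i)) || isShift (fun i => f (f i))

/-- Central elements are expected. -/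
def centreTest (f : ℕ → ℕ) : Bool :=
  isId f || isShift f ||
    kCert0.gens.any fun e => (List.range 32).any fun i => !(f (app e.1 i) == app e.1 (f i))

theorem z_facts : memOk 32 kCert zP [21, 0, 1, 0, 0] = true ∧
    (∀ i : Fin 32, app zP i = (i.val + 16) % 32) ∧
    (∀ e ∈ kCert0.gens, genOk 32 e = true ∧ ∀ i : Fin 32, app zP (app e.1 i) = app e.1 (app zP i)) := by
  decide +kernel

theorem scan_sq : scanAll [] sqTest kCert id = true := by decide +kernel

theorem scan_centre : scanAll [] centreTest kCert id = true := by decide +kernel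

theorem extraspecial_grp : Cfsg.IsExtraspecial 2 (grp 32 kCert) := by
  haveI : Fact (Nat.Prime 2) := ⟨Nat.prime_two⟩
  obtain ⟨-, -, hc, -, -, -⟩ := k_facts
  have hcard := ker_iso.2
  obtain ⟨hz, hzapp, hzgen⟩ := z_facts
  obtain ⟨hzv, hzmem⟩ := mem_grp_of_memOk hc hz
  set z : ↥(grp 32 kCert) := ⟨toPerm 32 zP, hzmem⟩ with hzdef
  have hzr := hzv.repr
  have hsq : ∀ x : ↥(grp 32 kCert), x ^ 2 = 1 ∨ x ^ 2 = z := fun x => by
    obtain ⟨f, hf, hok⟩ := scanAll_sound hc Repr.one scan_sq x.1 x.2 (by simp)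
    rw [one_mul] at hf
    have hf2 := hf.mul hf
    rw [pow_two]
    simp only [sqTest, isId, isShift, Bool.or_eq_true, List.all_eq_true, List.mem_range, beq_iff_eq] at hok
    rcases hok with h | h
    · exact Or.inl (Subtype.ext (hf2.eq Repr.one h))
    · exact Or.inr (Subtype.ext (hf2.eq hzr fun i hi => (h i hi).trans (hzapp ⟨i, hi⟩).symm))
  have hzc : z ∈ Subgroup.center ↥(grp 32 kCert) := by
    rw [Subgroup.mem_center_iff]
    intro x
    refine Subtype.ext ?_
    have hle : grp 32 kCert ≤ Subgroup.centralizer {toPerm 32 zP} := by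
      refine (Subgroup.closure_le _).mpr ?_
      rintro _ ⟨e, he, rfl⟩
      have he' := hzgen e he
      rw [SetLike.mem_coe, Subgroup.mem_centralizer_singleton_iff]
      exact ((repr_toPerm_of_genOk he'.1).mul hzr).eq (hzr.mul (repr_toPerm_of_genOk he'.1))
        fun i hi => (he'.2 ⟨i, hi⟩).symm
    exact Subgroup.mem_centralizer_singleton_iff.mp (hle x.2)
  have hcen : ∀ x ∈ Subgroup.center ↥(grp 32 kCert), x = 1 ∨ x = z := fun x hx => by
    obtain ⟨f, hf, hok⟩ := scanAll_sound hc Repr.one scan_centre x.1 x.2 (by simp)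
    rw [one_mul] at hf
    simp only [centreTest, isId, isShift, Bool.or_eq_true, List.all_eq_true, List.any_eq_true,
      List.mem_range, beq_iff_eq, Bool.not_eq_true', beq_eq_false_iff_ne] at hok
    rcases hok with (h | h) | ⟨e, he, i, hi, hne⟩
    · exact Or.inl (Subtype.ext (hf.eq Repr.one h))
    · exact Or.inr (Subtype.ext (hf.eq hzr fun i hi => (h i hi).trans (hzapp ⟨i, hi⟩).symm))
    · exfalso
      have hr := repr_toPerm_of_genOk (hzgen e he).1
      have hc' := Subgroup.mem_center_iff.mp hx ⟨toPerm 32 e.1, gen_mem he⟩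
      have h1 := congrArg (fun p : ↥(grp 32 kCert) => ((p.1 ⟨i, hi⟩ : Fin 32) : ℕ)) hc'
      simp only [Subgroup.coe_mul] at h1
      rw [(hr.mul hf) _, (hf.mul hr) _] at h1
      exact hne h1.symm
  have hz1 : z ≠ 1 := fun h => by
    have h1 := congrArg (fun p : ↥(grp 32 kCert) => ((p.1 0 : Fin 32) : ℕ)) h
    simp only [OneMemClass.coe_one, Perm.one_apply, hzdef] at h1
    rw [hzr, hzapp] at h1
    simp at h1
  have hccard : Nat.card (Subgroup.center ↥(grp 32 kCert)) = 2 := by
    rw [Nat.card_eq_two_iff' (⟨1, one_mem _⟩ : Subgroup.center ↥(grp 32 kCert))]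
    refine ⟨⟨z, hzc⟩, fun h => hz1 (congrArg Subtype.val h), fun y hy => ?_⟩
    rcases hcen y.1 y.2 with h | h
    · exact absurd (Subtype.ext h) hy
    · exact Subtype.ext h
  have hpow : ∀ x : ↥(grp 32 kCert), x ^ 2 ∈ Subgroup.center ↥(grp 32 kCert) := fun x => by
    rcases hsq x with h | h <;> rw [h]
    · exact one_mem _
    · exact hzc
  refine Cfsg.Agent.Lib.PGroups.SymplecticType.isExtraspecial_of ?_ (fun hab => ?_) hccard ?_ hpow
  · exact IsPGroup.of_card (n := 9) (by rw [hcard]; norm_num)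
  · have htop : Subgroup.center ↥(grp 32 kCert) = ⊤ :=
      eq_top_iff.mpr fun x _ => Subgroup.mem_center_iff.mpr fun y => hab.1.comm y x
    rw [htop, Subgroup.card_top, hcard] at hccard
    norm_num at hccard
  · rw [commutator_def, Subgroup.commutator_le]
    intro a _ b _
    rw [show ⁅a, b⁆ = a ^ 2 * (a⁻¹ * b) ^ 2 * (b⁻¹) ^ 2 by
      simp only [commutatorElement_def, pow_two]; group]
    exact mul_mem (mul_mem (hpow _) (hpow _)) (hpow _)

/-! ### the centraliser -/

theorem isSimpleGroup_S : IsSimpleGroup S := by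
  have := Cfsg.Agent.Lib.Classical.isSimpleGroup_psp (F := ZMod 2) (m := 3) (by norm_num) (fun h => by omega)
  exact (Cfsg.Agent.Lib.Recognition.Sp6Model.symplecticEquiv.trans
    (Cfsg.Agent.Lib.Recognition.Sp6Model.pspEquiv (ZMod.card 2)).symm).isSimpleGroup

theorem pCore_eq_ker {X : Type*} [Group X] (f : X →* S) (hf : Function.Surjective f)
    (hk : IsPGroup 2 f.ker) : Cfsg.pCore 2 X = f.ker := by
  refine le_antisymm ?_ (Cfsg.Agent.Lib.PGroups.le_pCore_of_normal inferInstance hk)
  haveI := isSimpleGroup_S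
  haveI hn : ((Cfsg.pCore 2 X).map f).Normal :=
    (Cfsg.Agent.Lib.PGroups.pCore_normal_inst 2).map f hf
  have hp : IsPGroup 2 ((Cfsg.pCore 2 X).map f) :=
    (Cfsg.Agent.Lib.PGroups.isPGroup_pCore_base 2).map f
  rcases hn.eq_bot_or_eq_top with h | h
  · rwa [Subgroup.map_eq_bot_iff] at h
  · exfalso
    haveI : Fact (Nat.Prime 2) := ⟨Nat.prime_two⟩
    rw [h] at hp
    obtain ⟨k, hk⟩ := IsPGroup.iff_card.mp hp
    rw [Subgroup.card_top, Cfsg.Agent.Lib.Recognition.Sp6Model.card_S] at hk
    have h3 : 3 ∣ 2 ^ k := hk ▸ by norm_num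
    exact absurd (Nat.prime_three.dvd_of_dvd_pow h3) (by norm_num)

/-- The involution in the second Conway group. -/
noncomputable def t0 : ↥Spor.Co2 := ⟨tEl.1, ⟨tEl.2, tEl_fix⟩⟩

theorem orderOf_t0 : orderOf t0 = 2 := by
  refine orderOf_eq_prime ?_ fun h => ?_
  · have h2 : tEl * tEl = 1 := co0_ext fun v => funext fun q => by
      rw [mul_smul, one_smul, tEl_apply, tEl_apply]
      split_ifs <;> ring
    rw [pow_two]
    exact Subtype.ext (congrArg Subtype.val h2 :)
  · have h1 : tEl = 1 := Subtype.ext (congrArg Subtype.val h :)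
    have h2 := tEl_apply (eightAt (enc.symm 4)) (enc.symm 4)
    rw [h1, one_smul, Equiv.apply_symm_apply, if_pos (by decide)] at h2
    simp [eightAt] at h2

/-- The centraliser in either presentation. -/
noncomputable def centralizerEquiv : ↥(Subgroup.centralizer ({t0} : Set ↥Spor.Co2)) ≃* ↥C0 where
  toFun x := ⟨⟨x.1.1, x.1.2.1⟩, Subgroup.mem_centralizer_singleton_iff.mpr (Subtype.ext
    (congrArg Subtype.val (Subgroup.mem_centralizer_singleton_iff.mp x.2) :)), x.1.2.2⟩
  invFun y := ⟨⟨y.1.1, ⟨y.1.2, y.2.2⟩⟩, Subgroup.mem_centralizer_singleton_iff.mpr (Subtype.ext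
    (congrArg Subtype.val (Subgroup.mem_centralizer_singleton_iff.mp y.2.1) :))⟩
  left_inv x := rfl
  right_inv y := rfl
  map_mul' x y := rfl

theorem main : ∃ t : ↥Spor.Co2, orderOf t = 2 ∧
    Cfsg.IsExtraspecial 2 (Cfsg.pCore 2 ↥(Subgroup.centralizer ({t} : Set ↥Spor.Co2))) ∧
    Nat.card (Cfsg.pCore 2 ↥(Subgroup.centralizer ({t} : Set ↥Spor.Co2))) = 2 ^ 9 ∧
    Nonempty (↥(Subgroup.centralizer ({t} : Set ↥Spor.Co2)) ⧸
      Cfsg.pCore 2 ↥(Subgroup.centralizer ({t} : Set ↥Spor.Co2)) ≃* S) := by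
  haveI : Fact (Nat.Prime 2) := ⟨Nat.prime_two⟩
  obtain ⟨⟨e⟩, hcard⟩ := ker_iso
  let f := psi.comp centralizerEquiv.toMonoidHom
  have hf : Function.Surjective f := psi_surjective.comp centralizerEquiv.surjective
  have hmap : f.ker.map centralizerEquiv.toMonoidHom = psi.ker := by
    rw [← MonoidHom.comap_ker]
    exact Subgroup.map_comap_eq_self_of_surjective centralizerEquiv.surjective _
  let ek : f.ker ≃* grp 32 kCert :=
    (f.ker.equivMapOfInjective _ centralizerEquiv.injective).trans
      ((MulEquiv.subgroupCongr hmap).trans e)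
  have hk : Nat.card f.ker = 2 ^ 9 := by rw [Nat.card_congr ek.toEquiv, hcard]; norm_num
  have hP := pCore_eq_ker f hf (IsPGroup.of_card hk)
  refine ⟨t0, orderOf_t0,
    Cfsg.Agent.Lib.Classification.isExtraspecial_of_mulEquiv
      (ek.symm.trans (MulEquiv.subgroupCongr hP.symm)) extraspecial_grp, by rw [hP]; exact hk, ?_⟩
  exact ⟨(QuotientGroup.quotientMulEquivOfEq hP).trans (QuotientGroup.quotientKerEquivOfSurjective f hf)⟩

end Cfsg.Agent.Lib.Leech.CoTwoInv
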