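import Cfsg.Agent.Lib.Compute.Leech

/-!
Counting vectors of the rank 24 lattice with a prescribed value of a weight that is a sum of
coordinatewise contributions.  For a code word and a parity the count is a coefficient of a product
of 24 small polynomials, evaluated at a large power of two; words with the same number of ones in
every coordinate class share their count.
-/

set_option autoImplicit false
set_option maxHeartbeats 400000

namespace Cfsg.Agent.Lib.Leech

open Cfsg
open Cfsg.Agent.Lib.Compute

/-- Coefficients are read off in base `2 ^ 64`. -/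
def base : ℕ := 18446744073709551616

theorem base_eq : base = 2 ^ 64 := by decide +kernel

attribute [local irreducible] base

theorem coeff_eq {β : Type*} (S : Finset β) (w : β → ℕ) (B k : ℕ) (hB : S.card < B) :
    (∑ f ∈ S, B ^ w f) / B ^ k % B = (S.filter fun f => w f = k).card := by
  classical
  have hB0 : 0 < B := lt_of_le_of_lt (Nat.zero_le _) hB
  have h1 : ∑ f ∈ S, B ^ w f = (∑ f ∈ S.filter (fun f => w f < k), B ^ w f)
      + ((S.filter fun f => w f = k).card * B ^ k + ∑ f ∈ S.filter (fun f => k < w f), B ^ w f) := by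
    rw [← Finset.sum_filter_add_sum_filter_not S (fun f => w f < k)]
    congr 1
    rw [← Finset.sum_filter_add_sum_filter_not (S.filter fun f => ¬ w f < k) (fun f => w f = k),
      Finset.filter_filter, Finset.filter_filter]
    congr 1
    · rw [Finset.sum_congr (s₂ := S.filter fun f => w f = k) (g := fun _ => B ^ k)
        (Finset.filter_congr fun f _ => by omega)
        (fun f hf => by rw [(Finset.mem_filter.mp hf).2]), Finset.sum_const, smul_eq_mul]
    · exact Finset.sum_congr (Finset.filter_congr fun f _ => by omega) fun _ _ => rfl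
  have h2 : ∃ t, ∑ f ∈ S.filter (fun f => k < w f), B ^ w f = B ^ (k + 1) * t :=
    Finset.dvd_sum fun f hf => pow_dvd_pow B (Finset.mem_filter.mp hf).2
  obtain ⟨t, ht⟩ := h2
  have h3 : ∑ f ∈ S.filter (fun f => w f < k), B ^ w f < B ^ k := by
    rcases Nat.eq_zero_or_pos k with rfl | hk
    · simp
    · calc ∑ f ∈ S.filter (fun f => w f < k), B ^ w f
          ≤ ∑ _f ∈ S.filter (fun f => w f < k), B ^ (k - 1) := Finset.sum_le_sum fun f hf =>
            Nat.pow_le_pow_right hB0 (by have := (Finset.mem_filter.mp hf).2; omega)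
        _ = (S.filter fun f => w f < k).card * B ^ (k - 1) := by rw [Finset.sum_const, smul_eq_mul]
        _ < B * B ^ (k - 1) := Nat.mul_lt_mul_of_pos_right
            (lt_of_le_of_lt (Finset.card_filter_le _ _) hB) (pow_pos hB0 _)
        _ = B ^ k := by rw [← pow_succ']; congr 1; omega
  have hc : (S.filter fun f => w f = k).card < B := lt_of_le_of_lt (Finset.card_filter_le _ _) hB
  rw [h1, ht, show (S.filter fun f => w f = k).card * B ^ k + B ^ (k + 1) * t
      = B ^ k * ((S.filter fun f => w f = k).card + B * t) by ring,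
    Nat.add_mul_div_left _ _ (pow_pos hB0 k), Nat.div_eq_of_lt h3, zero_add,
    Nat.add_mul_mod_self_left, Nat.mod_eq_of_lt hc]

/-- The product of a list, reduced modulo `M` after every factor. -/
def prodTrunc (M : ℕ) : List ℕ → ℕ
  | [] => 1 % M
  | a :: l => a * prodTrunc M l % M

theorem prodTrunc_eq (M : ℕ) : ∀ l : List ℕ, prodTrunc M l = l.prod % M
  | [] => rfl
  | a :: l => by rw [prodTrunc, prodTrunc_eq M l, List.prod_cons, Nat.mul_mod_mod]

/-- Allowed coordinate values for parity `p` and code bit `b`. -/
def vals : ℕ → Bool → List ℤ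
  | 0, false => [0, 4, -4, 8, -8]
  | 0, true => [2, -2, 6, -6]
  | _, false => [1, -3, 5, -7]
  | _, true => [-1, 3, -5, 7]

/-- The residue modulo 4 for parity `p` and code bit `b`. -/
def res (p : ℕ) (b : Bool) : ℕ := (p + if b then 2 else 0) % 4

theorem vals_nodup (p : ℕ) (b : Bool) : (vals p b).Nodup := by
  rcases p with _ | p <;> cases b <;> simp only [vals] <;> decide

theorem vals_length (p : ℕ) (b : Bool) : (vals p b).length ≤ 5 := by
  rcases p with _ | p <;> cases b <;> simp [vals]

theorem mem_vals {p : ℕ} (hp : p < 2) {b : Bool} {x : ℤ} :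
    x ∈ vals p b ↔ x ^ 2 ≤ 64 ∧ x % 4 = res p b := by
  constructor
  · intro h
    interval_cases p <;> cases b <;> simp [vals] at h <;>
      rcases h with rfl | rfl | rfl | rfl | rfl <;> decide
  · rintro ⟨h1, h2⟩
    have hlo : -8 ≤ x := by nlinarith
    have hhi : x ≤ 8 := by nlinarith
    interval_cases p <;> interval_cases x <;> cases b <;> simp_all [vals, res]

/-- The key of a coordinate value: the weight and the parity of `x / 4`. -/
def keyVal (W : ℕ → ℤ → ℕ) (j : ℕ) (x : ℤ) : ℕ := W j x * 25 + (x / 4 % 2).toNat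

/-- The polynomial of one coordinate. -/
def polyAt (W : ℕ → ℤ → ℕ) (p : ℕ) (jb : ℕ × Bool) : ℕ :=
  ((vals p jb.2).map fun x => base ^ keyVal W jb.1 x).sum

/-- The class and code bit of each coordinate. -/
def pairs (cl : Fin 24 → ℕ) (m : ℕ) : List (ℕ × Bool) :=
  (List.finRange 24).map fun i : Fin 24 => (cl i, m.testBit i)

/-- The count for one parity and one code word. -/
def countWord (W : ℕ → ℤ → ℕ) (K p : ℕ) (l : List (ℕ × Bool)) : ℕ :=
  let P := prodTrunc (base ^ ((K + 1) * 25)) (l.map (polyAt W p))
  (((List.range 25).filter fun t => ((l.map fun jb => res p jb.2).sum + 4 * t) % 8 == 4 * p).map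
    fun t => P / base ^ (K * 25 + t) % base).sum

/-- The numbers of ones of a word in the classes. -/
def classKey (cl : Fin 24 → ℕ) (nc m : ℕ) : List ℕ :=
  (List.range nc).map fun j => (pairs cl m).count (j, true)

/-- A histogram of the code words by class key, given by representatives. -/
def histOk (cl : Fin 24 → ℕ) (nc : ℕ) (hist : List (ℕ × ℕ)) : Bool :=
  ((List.finRange 24).all fun i => decide (cl i < nc)) &&
    decide ((hist.map fun e => classKey cl nc e.1).Nodup) &&
    hist.all (fun e => codeList.countP (fun m => classKey cl nc m == classKey cl nc e.1) == e.2) &&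
    codeList.all (fun m => (hist.map fun e => classKey cl nc e.1).contains (classKey cl nc m))

/-- The total count. -/
def total (W : ℕ → ℤ → ℕ) (cl : Fin 24 → ℕ) (K : ℕ) (hist : List (ℕ × ℕ)) : ℕ :=
  (hist.map fun e => e.2 * (countWord W K 0 (pairs cl e.1) + countWord W K 1 (pairs cl e.1))).sum

theorem pairs_perm {cl : Fin 24 → ℕ} {nc m m' : ℕ} (hcl : ∀ i, cl i < nc)
    (h : classKey cl nc m = classKey cl nc m') : (pairs cl m).Perm (pairs cl m') := by
  rw [List.perm_iff_count]
  rintro ⟨j, b⟩
  by_cases hj : j < nc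
  swap
  · have hno : ∀ n, (j, b) ∉ pairs cl n := fun n hn => by
      obtain ⟨i, -, hi⟩ := List.mem_map.mp hn
      exact hj (by rw [← (Prod.mk.inj hi).1]; exact hcl i)
    rw [List.count_eq_zero.mpr (hno m), List.count_eq_zero.mpr (hno m')]
  have ht : (pairs cl m).count (j, true) = (pairs cl m').count (j, true) :=
    (List.map_inj_left.mp h) j (List.mem_range.mpr hj)
  have key : ∀ n, (pairs cl n).count (j, true) + (pairs cl n).count (j, false)
      = (List.finRange 24).countP fun i => cl i == j := by
    intro n
    simp only [pairs, List.count, List.countP_map]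
    induction List.finRange 24 with
    | nil => rfl
    | cons a l ih =>
      simp only [List.countP_cons, ← ih]
      by_cases h1 : cl a = j <;> cases hb : n.testBit a <;> simp [h1, hb] <;> omega
  cases b
  · have := key m
    have := key m'
    omega
  · exact ht

theorem countWord_congr (W : ℕ → ℤ → ℕ) (K p : ℕ) {l l' : List (ℕ × Bool)} (h : l.Perm l') :
    countWord W K p l = countWord W K p l' := by
  simp only [countWord, prodTrunc_eq, (h.map (polyAt W p)).prod_eq, (h.map fun jb => res p jb.2).sum_eq]

/-- The vectors of a fixed parity and code word. -/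
noncomputable def piece (W : ℕ → ℤ → ℕ) (cl : Fin 24 → ℕ) (K : ℕ) (p m : ℕ) : Finset (GolayPt → ℤ) :=
  (Fintype.piFinset fun q => (vals p (m.testBit (enc q))).toFinset).filter
    fun x => (∑ q, W (cl (enc q)) (x q)) = K ∧ (∑ q, x q) % 8 = 4 * (p : ℤ)

theorem card_piece (W : ℕ → ℤ → ℕ) (cl : Fin 24 → ℕ) (K : ℕ) {p : ℕ} (hp : p < 2) (m : ℕ) :
    (piece W cl K p m).card = countWord W K p (pairs cl m) := by
  classical
  set A : GolayPt → Finset ℤ := fun q => (vals p (m.testBit (enc q))).toFinset with hA
  set key : (GolayPt → ℤ) → ℕ := fun x => ∑ q, keyVal W (cl (enc q)) (x q) with hkey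
  have hcard : (Fintype.piFinset A).card < base := by
    rw [Fintype.card_piFinset]
    calc ∏ q, (A q).card ≤ ∏ _q : GolayPt, 5 := Finset.prod_le_prod (fun _ _ => Nat.zero_le _)
          fun q _ => (List.toFinset_card_le _).trans (vals_length _ _)
      _ = 5 ^ 24 := by rw [Finset.prod_const, Finset.card_univ]; rfl
      _ < base := by rw [base_eq]; norm_num
  have hlist : ((pairs cl m).map fun jb => res p jb.2).sum
      = ∑ q, res p (m.testBit (enc q)) := by
    rw [pairs, List.map_map, ← Equiv.sum_comp enc.symm, ← List.ofFn_eq_map, List.sum_ofFn]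
    simp
  have hprod : ((pairs cl m).map (polyAt W p)).prod = ∑ x ∈ Fintype.piFinset A, base ^ key x := by
    rw [pairs, List.map_map, ← List.ofFn_eq_map, List.prod_ofFn, ← Equiv.prod_comp enc]
    have : ∀ q, (polyAt W p ∘ fun i : Fin 24 => (cl i, m.testBit i)) (enc q)
        = ∑ a ∈ A q, base ^ keyVal W (cl (enc q)) a := fun q => by
      simp only [Function.comp_apply, polyAt, hA]
      exact (List.sum_toFinset (fun a => base ^ keyVal W (cl (enc q)) a) (vals_nodup _ _)).symm
    simp only [this]
    rw [Finset.prod_univ_sum]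
    exact Finset.sum_congr rfl fun x _ => by rw [hkey, Finset.prod_pow_eq_pow_sum]
  set T := (List.range 25).filter
    fun t => ((((pairs cl m).map fun jb => res p jb.2).sum + 4 * t) % 8 == 4 * p) with hT
  have hTn : T.Nodup := List.nodup_range.filter _
  have hco : ∀ t ∈ T, prodTrunc (base ^ ((K + 1) * 25)) ((pairs cl m).map (polyAt W p))
      / base ^ (K * 25 + t) % base
        = ((Fintype.piFinset A).filter fun x => key x = K * 25 + t).card := by
    intro t ht
    have ht25 : t < 25 := List.mem_range.mp (List.mem_of_mem_filter ht)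
    rw [prodTrunc_eq, hprod, ← coeff_eq _ key base (K * 25 + t) hcard]
    have hsplit : base ^ ((K + 1) * 25) = base ^ (K * 25 + t) * base ^ ((K + 1) * 25 - (K * 25 + t)) := by
      rw [← pow_add, Nat.add_sub_cancel' (by omega)]
    rw [hsplit, Nat.mod_mul_right_div_self, Nat.mod_mod_of_dvd]
    exact dvd_pow_self _ (by omega)
  show _ = (T.map fun t => prodTrunc (base ^ ((K + 1) * 25)) ((pairs cl m).map (polyAt W p))
    / base ^ (K * 25 + t) % base).sum
  rw [List.map_congr_left hco, ← List.sum_toFinset _ hTn, ← Finset.card_biUnion]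
  · refine congrArg Finset.card ?_
    ext x
    simp only [piece, Finset.mem_filter, Finset.mem_biUnion, List.mem_toFinset]
    have hr : ∀ q, (x q / 4 % 2).toNat < 2 := fun q => by omega
    set t := ∑ q, (x q / 4 % 2).toNat with ht
    have htlt : t < 25 := by
      have : t ≤ ∑ _q : GolayPt, 1 := Finset.sum_le_sum fun q _ => by have := hr q; omega
      rw [Finset.sum_const, Finset.card_univ] at this
      have hc : Fintype.card GolayPt = 24 := rfl
      rw [hc] at this
      simp at this
      omega
    have hkx : key x = (∑ q, W (cl (enc q)) (x q)) * 25 + t := by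
      rw [hkey, ht, Finset.sum_mul, ← Finset.sum_add_distrib]
      rfl
    by_cases hx : x ∈ Fintype.piFinset A
    swap
    · exact ⟨fun h => absurd h.1 hx, fun ⟨_, _, h, _⟩ => absurd h hx⟩
    have hsum : (∑ q, x q) % 8
        = (((∑ q, res p (m.testBit (enc q))) + 4 * t : ℕ) : ℤ) % 8 := by
      push_cast
      rw [ht]
      push_cast
      rw [Finset.mul_sum, ← Finset.sum_add_distrib, Finset.sum_int_mod]
      conv_rhs => rw [Finset.sum_int_mod]
      refine congrArg (· % (8 : ℤ)) (Finset.sum_congr rfl fun q _ => ?_)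
      have hq := (mem_vals hp).mp (List.mem_toFinset.mp (Fintype.mem_piFinset.mp hx q))
      have := hq.2
      omega
    have hTmem : t ∈ T ↔ (∑ q, x q) % 8 = 4 * (p : ℤ) := by
      rw [hsum, hT, List.mem_filter, List.mem_range, beq_iff_eq, hlist]
      constructor
      · rintro ⟨-, h⟩
        exact_mod_cast h
      · intro h
        exact ⟨htlt, by exact_mod_cast h⟩
    constructor
    · rintro ⟨_, hW, hS⟩
      exact ⟨t, hTmem.mpr hS, hx, by rw [hkx, hW]⟩
    · rintro ⟨s, hs, -, hk⟩
      have hs25 : s < 25 := List.mem_range.mp (List.mem_of_mem_filter hs)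
      have hst : s = t := by omega
      exact ⟨hx, by omega, hTmem.mp (hst ▸ hs)⟩
  · intro a _ b _ hab
    refine Finset.disjoint_filter.mpr fun x _ h1 h2 => hab ?_
    omega

theorem form_of_lattice {x : GolayPt → ℤ} (hx : x ∈ leechLattice) :
    ∃ p < 2, ∃ m ∈ codeList, (∀ q, x q % 4 = res p (m.testBit (enc q))) ∧
      (∑ q, x q) % 8 = 4 * (p : ℤ) := by
  rw [← SetLike.mem_coe, coe_leechLattice] at hx
  obtain ⟨k, hpar, hsum, hcl⟩ := hx
  obtain ⟨v, hv, he⟩ := hcl (k % 2 + 2)
  obtain ⟨m, hm, rfl⟩ := mem_golayCode_iff.mp hv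
  refine ⟨(k % 2).toNat, by omega, m, hm, fun q => ?_, ?_⟩
  · have h := hpar q
    simp only [Int.ModEq] at h
    have hiff : (x q % 4 = (k % 2 + 2) % 4) ↔ m.testBit (enc q) = true := by
      rw [← mem_setOf24, ← support₂_wordOf, he]
      constructor
      · intro h; exact Finset.mem_filter.mpr ⟨Finset.mem_univ q, h⟩
      · intro h; exact (Finset.mem_filter.mp h).2
    unfold res
    cases hb : m.testBit (enc q)
    · have : x q % 4 ≠ (k % 2 + 2) % 4 := fun e => by rw [hiff.mp e] at hb; exact absurd hb (by simp)
      simp only [Bool.false_eq_true, if_false]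
      omega
    · have : x q % 4 = (k % 2 + 2) % 4 := hiff.mpr hb
      simp only [if_true]
      omega
  · simp only [Int.ModEq] at hsum
    omega

theorem lattice_of_form {x : GolayPt → ℤ} {p m : ℕ} (hp : p < 2) (hm : m ∈ codeList)
    (h4 : ∀ q, x q % 4 = res p (m.testBit (enc q))) (h8 : (∑ q, x q) % 8 = 4 * (p : ℤ)) :
    x ∈ leechLattice := by
  refine mem_leechLattice_iff.mpr ⟨p, fun q => (x q - p) / 2, fun q => ?_, ?_, ?_⟩
  · have h := h4 q
    have hr : (res p (m.testBit (enc q)) : ℤ) % 2 = p := by
      interval_cases p <;> cases m.testBit (enc q) <;> decide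
    show x q = p + 2 * ((x q - p) / 2)
    omega
  · convert mem_golayCode_iff.mpr ⟨m, hm, rfl⟩ using 1
    funext q
    have h := h4 q
    simp only [redTwo, wordOf]
    cases hb : m.testBit (enc q) <;> rw [hb] at h <;> unfold res at h
    · simp only [Bool.false_eq_true, if_false] at h ⊢
      exact (ZMod.intCast_zmod_eq_zero_iff_dvd _ 2).mpr (by omega)
    · simp only [if_true] at h ⊢
      exact (ZMod.intCast_eq_intCast_iff' _ 1 2).mpr (by omega) |>.trans Int.cast_one
  · have hs : (∑ q, x q) = 24 * (p : ℤ) + 2 * ∑ q, (x q - p) / 2 := by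
      rw [Finset.mul_sum, ← sum_const_golayPt, ← Finset.sum_add_distrib]
      refine Finset.sum_congr rfl fun q _ => ?_
      have h := h4 q
      have hr : (res p (m.testBit (enc q)) : ℤ) % 2 = p := by
        interval_cases p <;> cases m.testBit (enc q) <;> decide
      omega
    simp only [Int.ModEq]
    omega

theorem sum_hist {α β : Type*} [BEq β] [LawfulBEq β] [DecidableEq β] (key : α → β) (f : β → ℕ) (g : α → ℕ)
    (l : List α) (hist : List (α × ℕ)) (hg : ∀ m ∈ l, g m = f (key m))
    (hn : (hist.map fun e => key e.1).Nodup)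
    (hc : ∀ e ∈ hist, l.countP (fun m => key m == key e.1) = e.2)
    (hcov : ∀ m ∈ l, key m ∈ hist.map fun e => key e.1) :
    (l.map g).sum = (hist.map fun e => e.2 * f (key e.1)).sum := by
  induction l generalizing hist with
  | nil =>
    simp only [List.map_nil, List.sum_nil]
    refine (List.sum_eq_zero ?_).symm
    intro a ha
    obtain ⟨e, he, rfl⟩ := List.mem_map.mp ha
    rw [← hc e he]; simp
  | cons a l ih =>
    rw [List.map_cons, List.sum_cons, hg a (List.mem_cons_self ..)]
    obtain ⟨e₀, he₀, hk₀⟩ := List.mem_map.mp (hcov a (List.mem_cons_self ..))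
    have hkeys : (hist.map fun e => (e.1, e.2 - if key e.1 = key a then 1 else 0)).map (fun e => key e.1)
        = hist.map fun e => key e.1 := by
      simp [List.map_map, Function.comp_def]
    rw [ih (hist.map fun e => (e.1, e.2 - if key e.1 = key a then 1 else 0))
      (fun m hm => hg m (List.mem_cons_of_mem _ hm)) (hkeys.symm ▸ hn) ?_
      (fun m hm => hkeys.symm ▸ hcov m (List.mem_cons_of_mem _ hm))]
    · rw [List.map_map]
      obtain ⟨l₁, l₂, rfl⟩ := List.append_of_mem he₀
      have hd : ∀ e ∈ l₁ ++ l₂, key e.1 ≠ key a := by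
        rw [List.map_append, List.map_cons, List.nodup_middle, List.nodup_cons] at hn
        intro e he h
        apply hn.1
        rw [hk₀, ← h, ← List.map_append]
        exact List.mem_map_of_mem he
      have e1 : 1 ≤ e₀.2 := by
        rw [← hc e₀ he₀, List.countP_cons]
        simp [hk₀]
      simp only [List.map_append, List.map_cons, List.sum_append, List.sum_cons, Function.comp_apply,
        hk₀, if_true]
      rw [List.map_congr_left (l := l₁) (g := fun e => e.2 * f (key e.1))
          (fun e he => by simp [hd e (List.mem_append_left _ he)]),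
        List.map_congr_left (l := l₂) (g := fun e => e.2 * f (key e.1))
          (fun e he => by simp [hd e (List.mem_append_right _ he)])]
      obtain ⟨c, hc'⟩ := Nat.exists_eq_add_of_le e1
      rw [hc']
      simp only [Nat.add_sub_cancel_left]
      ring
    · intro e he
      obtain ⟨e', he', rfl⟩ := List.mem_map.mp he
      have h := hc e' he'
      rw [List.countP_cons] at h
      simp only [beq_iff_eq] at h
      by_cases hk : key e'.1 = key a
      · simp only [hk, if_true] at h ⊢
        omega
      · rw [if_neg (fun e'' => hk e''.symm)] at h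
        simp only [hk, if_false]
        omega

/-- The counting theorem. -/
theorem ncard_eq_total (W : ℕ → ℤ → ℕ) (cl : Fin 24 → ℕ) (nc K : ℕ) (hist : List (ℕ × ℕ))
    (hok : histOk cl nc hist = true) :
    {x : GolayPt → ℤ | x ∈ leechLattice ∧ (∀ q, x q ^ 2 ≤ 64) ∧ (∑ q, W (cl (enc q)) (x q)) = K}.ncard
      = total W cl K hist := by
  classical
  simp only [histOk, Bool.and_eq_true, decide_eq_true_eq, List.all_eq_true, beq_iff_eq,
    List.contains_iff_mem] at hok
  obtain ⟨⟨⟨hcl0, hn⟩, hc⟩, hcov⟩ := hok
  have hcl : ∀ i, cl i < nc := fun i => hcl0 i (List.mem_finRange i)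
  have hset : {x : GolayPt → ℤ | x ∈ leechLattice ∧ (∀ q, x q ^ 2 ≤ 64) ∧
      (∑ q, W (cl (enc q)) (x q)) = K}
        = ↑((Finset.range 2 ×ˢ codeList.toFinset).biUnion fun pm => piece W cl K pm.1 pm.2) := by
    ext x
    simp only [Set.mem_ofPred_eq, Finset.mem_coe, Finset.mem_biUnion, Finset.mem_product, Finset.mem_range,
      List.mem_toFinset, piece, Finset.mem_filter, Fintype.mem_piFinset, Prod.exists]
    constructor
    · rintro ⟨hx, hb, hW⟩
      obtain ⟨p, hp, m, hm, h4, h8⟩ := form_of_lattice hx
      exact ⟨p, m, ⟨hp, hm⟩, fun q => (mem_vals hp).mpr ⟨hb q, h4 q⟩, hW, h8⟩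
    · rintro ⟨p, m, ⟨hp, hm⟩, hv, hW, h8⟩
      exact ⟨lattice_of_form hp hm (fun q => ((mem_vals hp).mp (hv q)).2) h8,
        fun q => ((mem_vals hp).mp (hv q)).1, hW⟩
  rw [hset, Set.ncard_coe_finset, Finset.card_biUnion]
  · rw [Finset.sum_product, Finset.sum_range_succ, Finset.sum_range_one, ← Finset.sum_add_distrib,
      List.sum_toFinset _ (nodup_of_incr codeList_incr)]
    rw [sum_hist (classKey cl nc)
      (fun k => match hist.find? (fun e => classKey cl nc e.1 == k) with
        | some e => countWord W K 0 (pairs cl e.1) + countWord W K 1 (pairs cl e.1)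
        | none => 0) _ codeList hist ?_ hn hc hcov]
    · refine congrArg List.sum (List.map_congr_left fun e he => ?_)
      obtain ⟨e', he'⟩ := Option.isSome_iff_exists.mp
        (List.find?_isSome (p := fun d => classKey cl nc d.1 == classKey cl nc e.1) (xs := hist) |>.mpr ⟨e, he, beq_self_eq_true _⟩)
      simp only [he']
      have hk : classKey cl nc e'.1 = classKey cl nc e.1 := by
        have h1 := List.find?_some he'
        exact beq_iff_eq.mp h1
      rw [countWord_congr W K 0 (pairs_perm hcl hk), countWord_congr W K 1 (pairs_perm hcl hk)]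
    · intro m hm
      rw [card_piece W cl K (by norm_num) m, card_piece W cl K (by norm_num) m]
      obtain ⟨e, he, hk⟩ := List.mem_map.mp (hcov m hm)
      obtain ⟨e', he'⟩ := Option.isSome_iff_exists.mp
        (List.find?_isSome (p := fun d => classKey cl nc d.1 == classKey cl nc m) (xs := hist) |>.mpr ⟨e, he, beq_iff_eq.mpr hk⟩)
      simp only [he']
      have hk' : classKey cl nc e'.1 = classKey cl nc m := by
        have h1 := List.find?_some he'
        exact beq_iff_eq.mp h1
      rw [countWord_congr W K 0 (pairs_perm hcl hk'), countWord_congr W K 1 (pairs_perm hcl hk')]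
  · rintro ⟨p, m⟩ hpm ⟨p', m'⟩ hpm' hne
    simp only [Finset.mem_coe, Finset.mem_product, Finset.mem_range, List.mem_toFinset] at hpm hpm'
    refine Finset.disjoint_left.mpr fun x h1 h2 => hne ?_
    simp only [piece, Finset.mem_filter, Fintype.mem_piFinset, List.mem_toFinset] at h1 h2
    have e : ∀ q, res p (m.testBit (enc q)) = res p' (m'.testBit (enc q)) := fun q => by
      have := ((mem_vals hpm.1).mp (h1.1 q)).2
      have := ((mem_vals hpm'.1).mp (h2.1 q)).2
      omega
    obtain rfl : p = p' := by
      have := h1.2.2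
      have := h2.2.2
      omega
    refine Prod.ext rfl (setOf24_injOn (lt_of_mem_codeList hpm.2) (lt_of_mem_codeList hpm'.2) ?_)
    ext q
    have := e q
    rw [mem_setOf24, mem_setOf24]
    have hp := hpm.1
    interval_cases p <;> cases hb : m.testBit (enc q) <;> cases hb' : m'.testBit (enc q) <;>
      simp_all [res]

/-- The trivial partition of the coordinates. -/
def clOne : Fin 24 → ℕ := fun _ => 0

/-- The weights of the code words. -/
def histOne : List (ℕ × ℕ) := [(0, 1), (5279, 759), (28637, 2576), (515069, 759), (16777215, 1)]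

theorem coord_sq_le {x : GolayPt → ℤ} {n : ℤ} (h : sqNorm x = n) (hn : n ≤ 64) (q : GolayPt) :
    x q ^ 2 ≤ 64 :=
  le_trans (Finset.single_le_sum (fun i _ => sq_nonneg (x i)) (Finset.mem_univ q)) (le_of_eq_of_le h hn)

theorem sum_natAbs_sq (x : GolayPt → ℤ) :
    (((∑ q, (x q ^ 2).toNat : ℕ)) : ℤ) = sqNorm x := by
  rw [Nat.cast_sum, sqNorm]
  exact Finset.sum_congr rfl fun q _ => Int.toNat_of_nonneg (sq_nonneg _)

end Cfsg.Agent.Lib.Leech
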