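import Cfsg.Agent.Lib.Leech.Elem
import Cfsg.Agent.Lib.Leech.Count

/-!
Base vectors of the configurations of the sporadic groups inside the lattice, with membership.
-/

set_option autoImplicit false

namespace Cfsg.Agent.Lib.Leech

open Cfsg
open Cfsg.Agent.Lib.Compute

/-- A base vector. -/
def bU : List ℤ := [2, 2, 2, 2, 0, 2, 2, 0, 2, 0, 2, 2, 2, 0, 2, 0, 2, 0, 0, 0, 0, 0, 0, 0]

theorem bU_mem : vecOf bU ∈ leechLattice :=
  lattice_of_form (p := 0) (m := 0x15d6f) (by norm_num) (mem_codeList_of_inCode (by decide +kernel))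
    (by decide +kernel) (by decide +kernel)

/-- A base vector. -/
def bV : List ℤ := [0, 0, 0, 0, 0, 0, 2, 0, 2, 0, 2, 2, 2, 0, 0, 0, 2, 2, 0, 0, 0, 0, 0, 2]

theorem bV_mem : vecOf bV ∈ leechLattice :=
  lattice_of_form (p := 0) (m := 0x831d40) (by norm_num) (mem_codeList_of_inCode (by decide +kernel))
    (by decide +kernel) (by decide +kernel)

/-- A base vector. -/
def bX : List ℤ := [0, 0, 0, 0, 0, 0, 2, 0, 2, 0, 2, 2, 2, 0, 0, 0, 2, -2, 0, 0, 0, 0, 0, -2]

theorem bX_mem : vecOf bX ∈ leechLattice :=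
  lattice_of_form (p := 0) (m := 0x831d40) (by norm_num) (mem_codeList_of_inCode (by decide +kernel))
    (by decide +kernel) (by decide +kernel)

/-- A base vector. -/
def bZ : List ℤ := [0, 0, 0, 0, 0, 0, 0, 0, 0, 0, 0, 0, 0, 0, -4, 0, -4, 0, 0, 0, 0, 0, 0, 0]

theorem bZ_mem : vecOf bZ ∈ leechLattice :=
  lattice_of_form (p := 0) (m := 0x0) (by norm_num) (mem_codeList_of_inCode (by decide +kernel))
    (by decide +kernel) (by decide +kernel)

/-- A base vector. -/
def bW : List ℤ := [-2, -2, -2, -2, 0, -2, -2, 0, -2, 0, -2, -2, -2, 0, 2, 0, 2, 0, 0, 0, 0, 0, 0, 0]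

theorem bW_mem : vecOf bW ∈ leechLattice :=
  lattice_of_form (p := 0) (m := 0x15d6f) (by norm_num) (mem_codeList_of_inCode (by decide +kernel))
    (by decide +kernel) (by decide +kernel)

/-- A base vector. -/
def bH : List ℤ := [0, 0, 0, 2, 0, 2, 2, 0, 2, 2, 2, 2, 0, 0, 0, 0, 0, 0, 0, 0, 0, 2, 0, 0]

theorem bH_mem : vecOf bH ∈ leechLattice :=
  lattice_of_form (p := 0) (m := 0x200f68) (by norm_num) (mem_codeList_of_inCode (by decide +kernel))
    (by decide +kernel) (by decide +kernel)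

/-- A base vector. -/
def bQ : List ℤ := [0, 0, 0, 0, 0, 0, 0, 0, 0, 0, 0, 4, 0, 4, 0, 0, 0, 0, 0, 0, 0, 0, 0, 0]

theorem bQ_mem : vecOf bQ ∈ leechLattice :=
  lattice_of_form (p := 0) (m := 0x0) (by norm_num) (mem_codeList_of_inCode (by decide +kernel))
    (by decide +kernel) (by decide +kernel)

/-- A base vector. -/
def bEight : List ℤ := [0, 2, 2, 2, 2, 2, 0, 0, 2, 0, 0, 2, 0, 2, 0, 0, 0, 0, 0, 0, 0, 0, 0, 0]

theorem bEight_mem : vecOf bEight ∈ leechLattice :=
  lattice_of_form (p := 0) (m := 0x293e) (by norm_num) (mem_codeList_of_inCode (by decide +kernel))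
    (by decide +kernel) (by decide +kernel)

end Cfsg.Agent.Lib.Leech
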