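import Cfsg.Agent.Lib.Leech.PairCount
import Cfsg.Agent.Lib.Leech.ConfigData

/-!
The configurations of the Conway, McLaughlin and Higman–Sims groups inside the lattice.
-/

set_option autoImplicit false

namespace Cfsg.Agent.Lib.Leech

open Cfsg
open Cfsg.Agent.Lib.Compute

theorem dotInt_neg_right (x y : GolayPt → ℤ) : dotInt x (-y) = -dotInt x y := by
  simp only [dotInt, Pi.neg_apply, mul_neg, Finset.sum_neg_distrib]

theorem baseFour_bEight : dotInt (vecOf baseFour) (vecOf bEight) = -8 := by decide +kernel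

theorem moves_three (u : ↥leechLattice) (hu : sqNorm (u : GolayPt → ℤ) = 48) : ∃ k : ↥Co0, Moves k [u] [bU] := by
  obtain ⟨k, hk⟩ := exists_co0_three u ⟨vecOf bU, bU_mem⟩ hu (by decide +kernel)
  exact ⟨k, moves_one (congrArg Subtype.val hk)⟩

theorem ncard_A : (dotSet [bU] [24]).ncard = 552 := by
  have h := ncard_three_24 ⟨vecOf bU, bU_mem⟩ (by decide +kernel)
  simpa [dotSet] using h

theorem ncard_N : (dotSet [bU] [-16]).ncard = 11178 := by
  have h := ncard_three_16 ⟨vecOf bU, bU_mem⟩ (by decide +kernel)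
  simpa [dotSet] using h

theorem ncard_S : (dotSet [bEight] [16]).ncard = 4600 := by
  have h := (ncard_dot (vecOf bEight) bEight_mem (by decide +kernel)).1
  rw [← h]
  refine Set.ncard_congr (fun x _ => -x) (fun x hx => ?_) (fun x y _ _ e => neg_injective e) fun y hy => ?_
  · obtain ⟨h1, h2, h3⟩ := hx
    simp only [dotSet, List.map_cons, List.map_nil, List.cons.injEq, and_true] at h3
    refine ⟨neg_mem h1, ?_, ?_⟩
    · rw [← h2]; simp [sqNorm]
    · rw [dotInt_neg_right, h3]
  · obtain ⟨h1, h2, h3⟩ := hy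
    refine ⟨-y, ⟨neg_mem h1, ?_, ?_⟩, neg_neg y⟩
    · rw [← h2]; simp [sqNorm]
    · simp only [List.map_cons, List.map_nil, List.cons.injEq, and_true]
      rw [dotInt_neg_right, h3]
      norm_num

end Cfsg.Agent.Lib.Leech
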