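import Cfsg.Agent.Lib.Leech.ConfigBase
import Cfsg.Agent.Lib.Leech.PairThreeData
import Cfsg.Agent.Lib.Leech.TripleThreeData
import Cfsg.Agent.Lib.Leech.NbrEightData
import Cfsg.Agent.Lib.Leech.NbrSixteenData
import Cfsg.Agent.Lib.Leech.HSHundredData
import Cfsg.Agent.Lib.Leech.HSEightData
import Cfsg.Agent.Lib.Leech.HSSixteenData

/-!
The configurations of the Conway, McLaughlin and Higman–Sims groups inside the lattice.
-/

set_option autoImplicit false

namespace Cfsg.Agent.Lib.Leech

open Cfsg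
open Cfsg.Agent.Lib.Compute

/-- The target of a transitive configuration. -/
def tgtPairThree : List ℤ := [0, 0, 0, 0, 0, 0, 2, 0, 2, 0, 2, 2, 2, 0, 0, 0, 2, 2, 0, 0, 0, 0, 0, 2]

theorem transPairThree : Trans [bU] [24] tgtPairThree 552 :=
  trans_of_vcert pairThreeCert pairThreeCert_ok rfl rfl rfl (by simp [bU_mem]) ncard_A pairThreeCert_size (by decide +kernel)

theorem countTripleThree : (dotSet [bU, bV] [24, 16]).ncard = 275 := by
  refine Eq.trans (congrArg Set.ncard (Set.ext fun x => ?_)) (dotSet_sub (F := [bU]) (ds := [24]) pairThreeCert pairThreeCert_ok rfl rfl rfl (by simp [bU_mem]) (ncard_A.trans pairThreeCert_size.symm) (G := [bV]) (es := [16]) (by decide +kernel) 275 (by decide +kernel))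
  simp [dotSet]
  tauto

/-- The target of a transitive configuration. -/
def tgtTripleThree : List ℤ := [0, 0, 0, 0, 0, 0, 2, 0, 2, 0, 2, 2, 2, 0, 0, 0, 2, -2, 0, 0, 0, 0, 0, -2]

theorem transTripleThree : Trans [bU, bV] [24, 16] tgtTripleThree 275 :=
  trans_of_vcert tripleThreeCert tripleThreeCert_ok rfl rfl rfl (by simp [bU_mem, bV_mem]) countTripleThree tripleThreeCert_size (by decide +kernel)

theorem countNbrEight : (dotSet [bU, bV, bX] [24, 16, 8]).ncard = 112 := by
  refine Eq.trans (congrArg Set.ncard (Set.ext fun x => ?_)) (dotSet_sub (F := [bU]) (ds := [24]) pairThreeCert pairThreeCert_ok rfl rfl rfl (by simp [bU_mem]) (ncard_A.trans pairThreeCert_size.symm) (G := [bV, bX]) (es := [16, 8]) (by decide +kernel) 112 (by decide +kernel))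
  simp [dotSet]
  tauto

/-- The target of a transitive configuration. -/
def tgtNbrEight : List ℤ := [0, 0, 0, 2, 0, 2, 0, 0, 2, 0, 0, 2, 2, 0, 2, 0, 0, 2, 2, 0, 0, 0, 0, 0]

theorem transNbrEight : Trans [bU, bV, bX] [24, 16, 8] tgtNbrEight 112 :=
  trans_of_ocert nbrEightCert nbrEightCert_ok rfl rfl rfl (by simp [bU_mem, bV_mem, bX_mem]) countNbrEight nbrEightCert_total (by decide +kernel)

theorem countNbrSixteen : (dotSet [bU, bV, bX] [24, 16, 16]).ncard = 162 := by
  refine Eq.trans (congrArg Set.ncard (Set.ext fun x => ?_)) (dotSet_sub (F := [bU]) (ds := [24]) pairThreeCert pairThreeCert_ok rfl rfl rfl (by simp [bU_mem]) (ncard_A.trans pairThreeCert_size.symm) (G := [bV, bX]) (es := [16, 16]) (by decide +kernel) 162 (by decide +kernel))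
  simp [dotSet]
  tauto

/-- The target of a transitive configuration. -/
def tgtNbrSixteen : List ℤ := [0, 0, 0, 0, 0, 2, 0, 0, 2, 2, 2, 0, 2, 0, 2, 0, 2, 0, 0, 0, 0, 0, 2, 0]

theorem transNbrSixteen : Trans [bU, bV, bX] [24, 16, 16] tgtNbrSixteen 162 :=
  trans_of_vcert nbrSixteenCert nbrSixteenCert_ok rfl rfl rfl (by simp [bU_mem, bV_mem, bX_mem]) countNbrSixteen nbrSixteenCert_size (by decide +kernel)

theorem countSelf275 : (dotSet [bU, bV, bX] [24, 16, 32]).ncard = 1 := by
  refine Eq.trans (congrArg Set.ncard (Set.ext fun x => ?_)) (dotSet_sub (F := [bU]) (ds := [24]) pairThreeCert pairThreeCert_ok rfl rfl rfl (by simp [bU_mem]) (ncard_A.trans pairThreeCert_size.symm) (G := [bV, bX]) (es := [16, 32]) (by decide +kernel) 1 (by decide +kernel))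
  simp [dotSet]
  tauto

theorem countHSHundred : (dotSet [bU, bW] [24, -24]).ncard = 100 := by
  refine Eq.trans (congrArg Set.ncard (Set.ext fun x => ?_)) (dotSet_sub (F := [bU]) (ds := [24]) pairThreeCert pairThreeCert_ok rfl rfl rfl (by simp [bU_mem]) (ncard_A.trans pairThreeCert_size.symm) (G := [bW]) (es := [-24]) (by decide +kernel) 100 (by decide +kernel))
  simp [dotSet]
  tauto

/-- The target of a transitive configuration. -/
def tgtHSHundred : List ℤ := [0, 0, 0, 2, 0, 2, 2, 0, 2, 2, 2, 2, 0, 0, 0, 0, 0, 0, 0, 0, 0, 2, 0, 0]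

theorem transHSHundred : Trans [bU, bW] [24, -24] tgtHSHundred 100 :=
  trans_of_ocert hsHundredCert hsHundredCert_ok rfl rfl rfl (by simp [bU_mem, bW_mem]) countHSHundred hsHundredCert_total (by decide +kernel)

theorem countHSEight : (dotSet [bU, bW, bH] [24, -24, 8]).ncard = 22 := by
  refine Eq.trans (congrArg Set.ncard (Set.ext fun x => ?_)) (dotSet_sub (F := [bU]) (ds := [24]) pairThreeCert pairThreeCert_ok rfl rfl rfl (by simp [bU_mem]) (ncard_A.trans pairThreeCert_size.symm) (G := [bW, bH]) (es := [-24, 8]) (by decide +kernel) 22 (by decide +kernel))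
  simp [dotSet]
  tauto

/-- The target of a transitive configuration. -/
def tgtHSEight : List ℤ := [0, 2, 2, 0, 0, 2, 0, 0, 0, -2, 2, 2, 2, 0, 0, 0, 0, -2, 0, 0, 0, 0, 0, 0]

theorem transHSEight : Trans [bU, bW, bH] [24, -24, 8] tgtHSEight 22 :=
  trans_of_vcert hsEightCert hsEightCert_ok rfl rfl rfl (by simp [bU_mem, bW_mem, bH_mem]) countHSEight hsEightCert_size (by decide +kernel)

theorem countHSSixteen : (dotSet [bU, bW, bH] [24, -24, 16]).ncard = 77 := by
  refine Eq.trans (congrArg Set.ncard (Set.ext fun x => ?_)) (dotSet_sub (F := [bU]) (ds := [24]) pairThreeCert pairThreeCert_ok rfl rfl rfl (by simp [bU_mem]) (ncard_A.trans pairThreeCert_size.symm) (G := [bW, bH]) (es := [-24, 16]) (by decide +kernel) 77 (by decide +kernel))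
  simp [dotSet]
  tauto

/-- The target of a transitive configuration. -/
def tgtHSSixteen : List ℤ := [0, 0, 0, 2, 0, 2, 2, 0, 2, -2, 2, 2, 0, 0, 0, 0, 0, 0, 0, 0, 0, -2, 0, 0]

theorem transHSSixteen : Trans [bU, bW, bH] [24, -24, 16] tgtHSSixteen 77 :=
  trans_of_vcert hsSixteenCert hsSixteenCert_ok rfl rfl rfl (by simp [bU_mem, bW_mem, bH_mem]) countHSSixteen hsSixteenCert_size (by decide +kernel)

theorem countSelf100 : (dotSet [bU, bW, bH] [24, -24, 32]).ncard = 1 := by
  refine Eq.trans (congrArg Set.ncard (Set.ext fun x => ?_)) (dotSet_sub (F := [bU]) (ds := [24]) pairThreeCert pairThreeCert_ok rfl rfl rfl (by simp [bU_mem]) (ncard_A.trans pairThreeCert_size.symm) (G := [bW, bH]) (es := [-24, 32]) (by decide +kernel) 1 (by decide +kernel))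
  simp [dotSet]
  tauto

end Cfsg.Agent.Lib.Leech
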