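import Cfsg.Agent.Lib.Leech.ConfigBase
import Cfsg.Agent.Lib.Leech.FourSixteenData
import Cfsg.Agent.Lib.Leech.PerpTwoData
import Cfsg.Agent.Lib.Leech.Orb330Data
import Cfsg.Agent.Lib.Leech.Orb462Data
import Cfsg.Agent.Lib.Leech.Orb1232Data

/-!
The configurations of the Conway, McLaughlin and Higman–Sims groups inside the lattice.
-/

set_option autoImplicit false

namespace Cfsg.Agent.Lib.Leech

open Cfsg
open Cfsg.Agent.Lib.Compute

theorem countPerpTwo : (dotSet [baseFour, bEight] [0, 16]).ncard = 2025 := by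
  refine Eq.trans (congrArg Set.ncard (Set.ext fun x => ?_)) (dotSet_sub (F := [bEight]) (ds := [16]) fourSixteenCert fourSixteenCert_ok rfl rfl rfl (by simp [bEight_mem]) (ncard_S.trans fourSixteenCert_size.symm) (G := [baseFour, bEight]) (es := [0, 16]) (by decide +kernel) 2025 (by decide +kernel))
  simp [dotSet]
  tauto

/-- The target of a transitive configuration. -/
def tgtPerpTwo : List ℤ := [0, 0, 0, 0, 0, 0, 0, 0, 0, 0, 0, 4, 0, 4, 0, 0, 0, 0, 0, 0, 0, 0, 0, 0]

theorem transPerpTwo : Trans [baseFour, bEight] [0, 16] tgtPerpTwo 2025 :=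
  trans_of_ocert perpTwoCert perpTwoCert_ok rfl rfl rfl (by simp [baseFour_mem, bEight_mem]) countPerpTwo perpTwoCert_total (by decide +kernel)

theorem countOrb330 : (dotSet [baseFour, bEight, bQ] [0, 16, 0]).ncard = 330 := by
  refine Eq.trans (congrArg Set.ncard (Set.ext fun x => ?_)) (dotSet_sub (F := [bEight]) (ds := [16]) fourSixteenCert fourSixteenCert_ok rfl rfl rfl (by simp [bEight_mem]) (ncard_S.trans fourSixteenCert_size.symm) (G := [baseFour, bQ]) (es := [0, 0]) (by decide +kernel) 330 (by decide +kernel))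
  simp [dotSet]
  tauto

/-- The target of a transitive configuration. -/
def tgtOrb330 : List ℤ := [0, 0, 0, 0, 0, 4, 0, 0, 4, 0, 0, 0, 0, 0, 0, 0, 0, 0, 0, 0, 0, 0, 0, 0]

theorem transOrb330 : Trans [baseFour, bEight, bQ] [0, 16, 0] tgtOrb330 330 :=
  trans_of_ocert orb330Cert orb330Cert_ok rfl rfl rfl (by simp [baseFour_mem, bEight_mem, bQ_mem]) countOrb330 orb330Cert_total (by decide +kernel)

theorem countOrb462 : (dotSet [baseFour, bEight, bQ] [0, 16, 16]).ncard = 462 := by
  refine Eq.trans (congrArg Set.ncard (Set.ext fun x => ?_)) (dotSet_sub (F := [bEight]) (ds := [16]) fourSixteenCert fourSixteenCert_ok rfl rfl rfl (by simp [bEight_mem]) (ncard_S.trans fourSixteenCert_size.symm) (G := [baseFour, bQ]) (es := [0, 16]) (by decide +kernel) 462 (by decide +kernel))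
  simp [dotSet]
  tauto

/-- The target of a transitive configuration. -/
def tgtOrb462 : List ℤ := [0, 0, 0, 0, 0, 0, 0, 0, 4, 0, 0, 0, 0, 4, 0, 0, 0, 0, 0, 0, 0, 0, 0, 0]

theorem transOrb462 : Trans [baseFour, bEight, bQ] [0, 16, 16] tgtOrb462 462 :=
  trans_of_ocert orb462Cert orb462Cert_ok rfl rfl rfl (by simp [baseFour_mem, bEight_mem, bQ_mem]) countOrb462 orb462Cert_total (by decide +kernel)

theorem countOrb1232 : (dotSet [baseFour, bEight, bQ] [0, 16, 8]).ncard = 1232 := by
  refine Eq.trans (congrArg Set.ncard (Set.ext fun x => ?_)) (dotSet_sub (F := [bEight]) (ds := [16]) fourSixteenCert fourSixteenCert_ok rfl rfl rfl (by simp [bEight_mem]) (ncard_S.trans fourSixteenCert_size.symm) (G := [baseFour, bQ]) (es := [0, 8]) (by decide +kernel) 1232 (by decide +kernel))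
  simp [dotSet]
  tauto

/-- The target of a transitive configuration. -/
def tgtOrb1232 : List ℤ := [0, 0, 0, 0, 2, 2, 0, 0, 2, 0, 0, 0, 2, 2, 2, 2, 0, 0, 0, 0, 2, 0, 0, 0]

theorem transOrb1232 : Trans [baseFour, bEight, bQ] [0, 16, 8] tgtOrb1232 1232 :=
  trans_of_ocert orb1232Cert orb1232Cert_ok rfl rfl rfl (by simp [baseFour_mem, bEight_mem, bQ_mem]) countOrb1232 orb1232Cert_total (by decide +kernel)

end Cfsg.Agent.Lib.Leech
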