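import Cfsg.Agent.Lib.Leech.MinShapes
import Cfsg.Agent.Lib.Leech.DodecadImages

/-!
# The frame group is a maximal subgroup
-/

set_option autoImplicit false

namespace Cfsg.Agent.Lib.Leech

open Cfsg Equiv Cfsg.Agent.Lib.Compute Cfsg.Agent.Lib.M24Geom
open scoped Pointwise

theorem fixed_modEq {G α : Type*} [Group G] [MulAction G α] (g : G) {p : ℕ} [Fact p.Prime] (hg : g ^ p = 1)
    (S : Set α) (hS : S.Finite) (hinv : ∀ x ∈ S, g • x ∈ S) :
    S.ncard ≡ {x | x ∈ S ∧ g • x = x}.ncard [MOD p] := by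
  have hstab : g ∈ MulAction.stabilizer G S :=
    MulAction.mem_stabilizer_iff.2 (Set.eq_of_subset_of_ncard_le
      (by rintro _ ⟨x, hx, rfl⟩; exact hinv x hx) (by rw [Set.ncard_smul_set]) hS)
  let A : SubMulAction ↥(Subgroup.zpowers g) α :=
    { carrier := S
      smul_mem' := fun h {x} hx => by
        have hh : (h : G) • S = S := MulAction.mem_stabilizer_iff.1 ((Subgroup.zpowers_le.2 hstab) h.2)
        show (h : G) • x ∈ S
        exact hh ▸ Set.smul_mem_smul_set hx }
  have hp : IsPGroup p ↥(Subgroup.zpowers g) := fun h => ⟨1, by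
    obtain ⟨k, hk⟩ := Subgroup.mem_zpowers_iff.1 h.2
    refine Subtype.ext ?_
    rw [pow_one, SubgroupClass.coe_pow, ← hk, ← zpow_natCast, zpow_comm, zpow_natCast, hg, one_zpow]
    rfl⟩
  have : Finite ↥A := hS.to_subtype
  have h := hp.card_modEq_card_fixedPoints (α := ↥A)
  have e : Nat.card ↥(MulAction.fixedPoints ↥(Subgroup.zpowers g) ↥A) = {x | x ∈ S ∧ g • x = x}.ncard := by
    rw [← Nat.card_coe_set_eq]
    refine Nat.card_congr
      { toFun := fun x => ⟨x.1.1, x.1.2, congrArg Subtype.val (x.2 ⟨g, Subgroup.mem_zpowers g⟩)⟩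
        invFun := fun x => ⟨⟨x.1, x.2.1⟩, fun h => Subtype.ext ?_⟩
        left_inv := fun x => rfl
        right_inv := fun x => rfl }
    show (h : G) • x.1 = x.1
    exact (Subgroup.zpowers_le.2 (show g ∈ MulAction.stabilizer G x.1 from x.2.2)) h.2
  rw [e, show Nat.card ↥A = S.ncard from Nat.card_coe_set_eq S] at h
  exact h

theorem card_orbit_mul {G α : Type*} [Group G] [MulAction G α] (x : α) :
    (MulAction.orbit G x).ncard * Nat.card (MulAction.stabilizer G x) = Nat.card G := by
  rw [← MulAction.index_stabilizer, mul_comm, Subgroup.card_mul_index]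

theorem co0_add (g : ↥Co0) (a b : ↥leechLattice) : g • (a + b) = g • a + g • b := map_add (co0Hom g) a b

/-- The standard cross. -/
abbrev stdSet : Set ↥leechLattice := crossSet (cls (eightAt none))

theorem eightAt_mem_std (i : GolayPt) : eightAt i ∈ stdSet := ⟨sqNorm_eightAt i, eightAt_congr i none⟩

theorem smul_minFour {g : ↥Co0} (hg : g ∈ crossGrp) {v : ↥leechLattice} (hv : v ∈ minFour) : g • v ∈ minFour := by
  obtain ⟨π, c, -, happ⟩ := exists_frame_crossGrp hg
  refine ⟨(co0_sqNorm g v).trans hv.1, fun q => ?_⟩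
  rw [happ]
  simp only [signedPerm]
  split_ifs
  · exact dvd_neg.2 (hv.2 _)
  · exact hv.2 _

theorem orbit_crossGrp_vFour : MulAction.orbit ↥crossGrp vFour = minFour := by
  ext v
  constructor
  · rintro ⟨g, rfl⟩; exact smul_minFour g.2 vFour_mem
  · intro h
    obtain ⟨g, hg, e⟩ := exists_smul_vFour h
    exact ⟨⟨g, hg⟩, e⟩

/-- The orthogonal partner of the base vector. -/
noncomputable def vDiff : ↥leechLattice :=
  ⟨_, fourPair_mem (show pA ≠ pB by decide) (Or.inl rfl : (4 : ℤ) = 4 ∨ _) (Or.inr rfl : (-4 : ℤ) = 4 ∨ _)⟩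

theorem dot_fourPair (u : GolayPt → ℤ) (a b : GolayPt) (s t : ℤ) :
    dotInt u (Pi.single a s + Pi.single b t) = u a * s + u b * t := by
  simp [dotInt, mul_add, Finset.sum_add_distrib, Pi.single_apply]

/-- An automorphism preserving the first shape preserves the frame. -/
theorem mem_crossGrp_of_four (g : ↥Co0) (h : ∀ v ∈ minFour, g • v ∈ minFour)
    (h' : ∀ v ∈ minFour, g⁻¹ • v ∈ minFour) : g ∈ crossGrp := by
  have hprop : ∀ u ∈ minFour, dotInt (u : GolayPt → ℤ) (vFour : GolayPt → ℤ) = 16 →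
      dotInt (u : GolayPt → ℤ) (vDiff : GolayPt → ℤ) ≠ 0 := by
    intro u hu h1 h2
    change dotInt _ (Pi.single pA 4 + Pi.single pB 4) = 16 at h1
    change dotInt _ (Pi.single pA 4 + Pi.single pB (-4)) = 0 at h2
    rw [dot_fourPair] at h1 h2
    have := hu.2 pA
    omega
  have hdiff : vDiff ∈ minFour := by
    refine ⟨sqNorm_fourPair (by decide) (Or.inl rfl) (Or.inr rfl), fun q => ?_⟩
    show (4 : ℤ) ∣ (Pi.single pA 4 + Pi.single pB (-4) : GolayPt → ℤ) q
    simp only [Pi.add_apply, Pi.single_apply]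
    split_ifs <;> decide
  obtain ⟨a, b, s, t, hab, hs, ht, hv⟩ := minFour_shape (h _ vFour_mem)
  obtain ⟨a', b', s', t', hab', hs', ht', hw⟩ := minFour_shape (h _ hdiff)
  have hdot : dotInt ((g • vFour : ↥leechLattice) : GolayPt → ℤ) ((g • vDiff : ↥leechLattice) : GolayPt → ℤ) = 0 := by
    rw [co0_dot]
    show dotInt _ (Pi.single pA 4 + Pi.single pB (-4)) = 0
    rw [dot_fourPair]
    show (Pi.single pA 4 + Pi.single pB 4 : GolayPt → ℤ) pA * 4 + (Pi.single pA 4 + Pi.single pB 4 : GolayPt → ℤ) pB * -4 = 0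
    decide +kernel
  have hprop' : ∀ u ∈ minFour, dotInt (u : GolayPt → ℤ) ((g • vFour : ↥leechLattice) : GolayPt → ℤ) = 16 →
      dotInt (u : GolayPt → ℤ) ((g • vDiff : ↥leechLattice) : GolayPt → ℤ) ≠ 0 := by
    intro u hu h1 h2
    refine hprop _ (h' u hu) ?_ ?_
    · rw [← co0_dot g, smul_inv_smul, h1]
    · rw [← co0_dot g, smul_inv_smul, h2]
  set V := ((g • vFour : ↥leechLattice) : GolayPt → ℤ) with hV
  set W := ((g • vDiff : ↥leechLattice) : GolayPt → ℤ) with hW
  have hd : W a * s + W b * t = 0 := by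
    rw [← dot_fourPair, ← hv, dot_comm, hdot]
  have hWa : W a ≠ 0 := fun e => by
    have e' : W b = 0 := by rw [e] at hd; rcases ht with rfl | rfl <;> omega
    obtain ⟨k, -, hk⟩ := Finset.exists_mem_notMem_of_card_lt_card
      (s := ({a, b, a', b'} : Finset GolayPt)) (t := Finset.univ)
      (lt_of_le_of_lt Finset.card_le_four (by decide))
    simp only [Finset.mem_insert, Finset.mem_singleton, not_or] at hk
    refine hprop' ⟨_, fourPair_mem (Ne.symm hk.1) hs (Or.inl rfl : (4 : ℤ) = 4 ∨ _)⟩ ?_ ?_ ?_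
    · refine ⟨sqNorm_fourPair (Ne.symm hk.1) hs (Or.inl rfl), fun q => ?_⟩
      show (4 : ℤ) ∣ (Pi.single a s + Pi.single k 4 : GolayPt → ℤ) q
      simp only [Pi.add_apply, Pi.single_apply]
      split_ifs <;> rcases hs with rfl | rfl <;> decide
    · show dotInt (Pi.single a s + Pi.single k 4) V = 16
      rw [dot_comm, dot_fourPair, hv]
      simp [Pi.single_apply, hab, hk.1, hk.2.1]
      rcases hs with rfl | rfl <;> norm_num
    · show dotInt (Pi.single a s + Pi.single k 4) W = 0
      rw [dot_comm, dot_fourPair, e, hw]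
      simp [Pi.single_apply, hk.2.2.1, hk.2.2.2]
  have hWb : W b ≠ 0 := fun e => by
    rw [e] at hd
    rcases hs with rfl | rfl <;> omega
  have hsupp : ∀ q, q ≠ a → q ≠ b → W q = 0 := fun q h1 h2 => by
    rw [hw] at hWa hWb ⊢
    simp only [Pi.add_apply, Pi.single_apply] at hWa hWb ⊢
    split_ifs at hWa hWb ⊢ with e1 e2 <;> simp_all
  have h44 : (W a = 4 ∨ W a = -4) ∧ (W b = 4 ∨ W b = -4) := by
    constructor
    · rw [hw] at hWa ⊢
      simp only [Pi.add_apply, Pi.single_apply] at hWa ⊢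
      split_ifs at hWa ⊢ with e1 e2 <;> simp_all
    · rw [hw] at hWb ⊢
      simp only [Pi.add_apply, Pi.single_apply] at hWb ⊢
      split_ifs at hWb ⊢ with e1 e2 <;> simp_all
  have hsum : g • eightAt pA = g • vFour + g • vDiff := by
    rw [← co0_add]
    congr 1
    refine Subtype.ext (funext fun q => ?_)
    show (Pi.single pA 8 : GolayPt → ℤ) q
      = (Pi.single pA 4 + Pi.single pB 4 : GolayPt → ℤ) q + (Pi.single pA 4 + Pi.single pB (-4) : GolayPt → ℤ) q
    simp only [Pi.add_apply, Pi.single_apply]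
    split_ifs <;> norm_num
  obtain ⟨c, hc⟩ : ∃ c, ∀ q, ((g • eightAt pA : ↥leechLattice) : GolayPt → ℤ) q ≠ 0 → q = c := by
    have hval : ∀ q, ((g • eightAt pA : ↥leechLattice) : GolayPt → ℤ) q = V q + W q := fun q => by rw [hsum]; rfl
    have hVq : ∀ q, V q = if q = a then s else if q = b then t else 0 := fun q => by
      rw [hv]; simp only [Pi.add_apply, Pi.single_apply]
      split_ifs with e1 e2 <;> first | (exact absurd (e1.symm.trans e2) hab) | omega
    by_cases ha : s + W a = 0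
    · refine ⟨b, fun q hq => ?_⟩
      by_contra hqb
      rw [hval, hVq] at hq
      by_cases hqa : q = a
      · subst hqa; simp [ha] at hq
      · simp [hqa, hqb, hsupp q hqa hqb] at hq
    · refine ⟨a, fun q hq => ?_⟩
      by_contra hqa
      rw [hval, hVq, if_neg hqa] at hq
      by_cases hqb : q = b
      · subst hqb
        rw [if_pos rfl] at hq
        rcases hs with rfl | rfl <;> rcases ht with rfl | rfl <;> rcases h44.1 with e1 | e1 <;>
          rcases h44.2 with e2 | e2 <;> rw [e1] at hd ha <;> rw [e2] at hd hq <;> omega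
      · simp [hqb, hsupp q hqa hqb] at hq
  obtain ⟨r, hr, e⟩ := single_of_support (by rw [co0_sqNorm]; exact sqNorm_eightAt _) c hc
  obtain ⟨π, hπ, d, -, happ⟩ := exists_frame_of_eight g pA ⟨c, by
    rcases hr with rfl | rfl
    · exact Or.inl (Subtype.ext e)
    · exact Or.inr (Subtype.ext (by rw [e, AddSubgroup.coe_neg]; exact Pi.single_neg _ _))⟩
  exact mem_crossGrp.2 fun i => preserves_of_signedPerm g π d happ (eightAt i) ⟨i, 8, Or.inl rfl, rfl⟩

/-- The two halves in a cross of twice a vector. -/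
def halves (v : ↥leechLattice) (C : Set ↥leechLattice) : Set ↥leechLattice :=
  {z | z ∈ C ∧ ∃ z' ∈ C, z + z' = v + v}

theorem smul_halves (g : ↥Co0) (v : ↥leechLattice) (C : Set ↥leechLattice) :
    halves (g • v) (g • C) = g • halves v C := by
  have key : ∀ (g : ↥Co0) (v : ↥leechLattice) (C : Set ↥leechLattice),
      g • halves v C ⊆ halves (g • v) (g • C) := by
    rintro g v C _ ⟨z, ⟨hz, z', hz', e⟩, rfl⟩
    exact ⟨Set.smul_mem_smul_set hz, g • z', Set.smul_mem_smul_set hz', by rw [← co0_add, ← co0_add, e]⟩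
  refine Set.Subset.antisymm (fun z hz => ?_) (key g v C)
  have := key g⁻¹ (g • v) (g • C) (Set.smul_mem_smul_set hz)
  rw [inv_smul_smul, inv_smul_smul] at this
  exact ⟨_, this, smul_inv_smul g z⟩

theorem halves_std : halves vFour stdSet = {eightAt pA, eightAt pB} := by
  have hne : pA ≠ pB := by decide
  have hval : ∀ q, ((vFour + vFour : ↥leechLattice) : GolayPt → ℤ) q
      = (Pi.single pA 8 : GolayPt → ℤ) q + (Pi.single pB 8 : GolayPt → ℤ) q := fun q => by
    show (Pi.single pA 4 + Pi.single pB 4 : GolayPt → ℤ) q + (Pi.single pA 4 + Pi.single pB 4 : GolayPt → ℤ) q = _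
    simp only [Pi.add_apply, Pi.single_apply]
    split_ifs <;> norm_num
  have hs : eightAt pA + eightAt pB = vFour + vFour := Subtype.ext (funext fun q => (hval q).symm)
  ext z
  constructor
  · rintro ⟨hz, z', hz', e⟩
    rw [stdSet, crossSet_std] at hz hz'
    obtain ⟨i, s, hs', ez⟩ := hz
    obtain ⟨j, t, ht', ez'⟩ := hz'
    have h := congrFun (congrArg Subtype.val e) i
    rw [hval, AddSubgroup.coe_add, Pi.add_apply, ez, ez', Pi.single_eq_same] at h
    have hzero := congrFun (congrArg Subtype.val e) j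
    rw [hval, AddSubgroup.coe_add, Pi.add_apply, ez, ez', Pi.single_eq_same] at hzero
    have hA := congrFun (congrArg Subtype.val e) pA
    rw [hval, AddSubgroup.coe_add, Pi.add_apply, ez, ez', Pi.single_eq_same] at hA
    have hB := congrFun (congrArg Subtype.val e) pB
    rw [hval, AddSubgroup.coe_add, Pi.add_apply, ez, ez', Pi.single_eq_same] at hB
    simp only [Pi.single_apply, hne, Ne.symm hne, if_false] at h hzero hA hB
    obtain ⟨hi, rfl⟩ : (i = pA ∨ i = pB) ∧ s = 8 := by
      by_cases h1 : i = pA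
      · subst h1
        refine ⟨Or.inl rfl, ?_⟩
        simp only [Ne.symm hne, hne, if_false] at h hB
        split_ifs at h hB <;> omega
      · by_cases h2 : i = pB
        · subst h2
          refine ⟨Or.inr rfl, ?_⟩
          simp only [hne, Ne.symm hne, if_false] at h hA
          split_ifs at h hA <;> omega
        · exfalso
          simp only [h1, h2, Ne.symm h1, Ne.symm h2, if_false] at h hA hB
          split_ifs at h hA hB with e1 e2 e3 <;>
            first | omega | exact h1 (by rw [← e1]; assumption) | simp_all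
    rcases hi with rfl | rfl
    · exact Or.inl (Subtype.ext ez)
    · exact Or.inr (Subtype.ext ez)
  · rintro (rfl | rfl)
    · exact ⟨eightAt_mem_std _, _, eightAt_mem_std _, hs⟩
    · exact ⟨eightAt_mem_std _, _, eightAt_mem_std _, by rw [add_comm, hs]⟩

/-- The class of each point for the element of order eleven. -/
def elevenClass : Fin 24 → Fin 4 :=
  ![0, 0, 0, 0, 1, 1, 1, 1, 1, 2, 0, 0, 0, 1, 1, 1, 0, 1, 0, 0, 0, 1, 1, 3]

theorem eleven_chains : ∀ i : Fin 24, (elevenClass i = 2 ∧ i = 9) ∨ (elevenClass i = 3 ∧ i = 23) ∨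
    (∃ k : Fin 11, elevenClass i = 0 ∧ (app elevenP)^[k] (0 : Fin 24) = i) ∨
    (∃ k : Fin 11, elevenClass i = 1 ∧ (app elevenP)^[k] (4 : Fin 24) = i) := by
  decide +kernel

theorem dodecad_solutions : ∀ (a : Fin 5) (b : Fin 5) (c : Fin 17) (d : Fin 17),
    11 * ((a : ℤ) - 2) ^ 2 + 11 * ((b : ℤ) - 2) ^ 2 + ((c : ℤ) - 8) ^ 2 + ((d : ℤ) - 8) ^ 2 = 64 →
    11 * (2 - ((a : ℤ) - 2)) ^ 2 + 11 * (2 - ((b : ℤ) - 2)) ^ 2 + (2 - ((c : ℤ) - 8)) ^ 2
      + (-6 - ((d : ℤ) - 8)) ^ 2 = 64 →
    (List.ofFn fun i => ![(a : ℤ) - 2, (b : ℤ) - 2, (c : ℤ) - 8, (d : ℤ) - 8] (elevenClass i)) ∈ dodecadVecs := by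
  decide +kernel

theorem sum_classes (F : Fin 4 → ℤ) :
    ∑ i : Fin 24, F (elevenClass i) = 11 * F 0 + 11 * F 1 + F 2 + F 3 := by
  simp only [Fin.sum_univ_succ, Fin.sum_univ_zero]
  show F 0 + (F 0 + (F 0 + (F 0 + (F 1 + (F 1 + (F 1 + (F 1 + (F 1 + (F 2 + (F 0 + (F 0 + (F 0 + (F 1 + (F 1 +
    (F 1 + (F 0 + (F 1 + (F 0 + (F 0 + (F 0 + (F 1 + (F 1 + (F 3 + 0))))))))))))))))))))))) = _
  ring

theorem vOdd_classes : ∀ i : Fin 24, oddFun ∅ pA (enc.symm i) = if elevenClass i = 3 then -3 else 1 := by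
  decide +kernel

/-- Coordinates of a half of twice the odd base vector fixed by the element of order eleven. -/
theorem eleven_half {z z' : ↥leechLattice} (hfix : permHom elevenE • z = z)
    (hz : sqNorm (z : GolayPt → ℤ) = 64) (hz' : sqNorm (z' : GolayPt → ℤ) = 64) (he : z + z' = vOdd + vOdd) :
    (List.ofFn fun i : Fin 24 => (z : GolayPt → ℤ) (enc.symm i)) ∈ dodecadVecs := by
  set u : GolayPt → ℤ := (z : GolayPt → ℤ) with hu
  set a := u (enc.symm 0) with ha
  set b := u (enc.symm 4) with hb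
  set c := u (enc.symm 9) with hc
  set d := u (enc.symm 23) with hd
  have hv := (elemOk_spec (by norm_num) eleven_ok.1).1
  have hpat : ∀ i, u (enc.symm i) = ![a, b, c, d] (elevenClass i) := by
    intro i
    rcases eleven_chains i with ⟨e, rfl⟩ | ⟨e, rfl⟩ | ⟨k, e, hk⟩ | ⟨k, e, hk⟩
    · rw [e]; rfl
    · rw [e]; rfl
    · rw [e, const_chain hv u (apply_eq_of_fixed hfix) k 0 i hk]; rfl
    · rw [e, const_chain hv u (apply_eq_of_fixed hfix) k 4 i hk]; rfl
  have hother : ∀ i, (z' : GolayPt → ℤ) (enc.symm i) = ![2 - a, 2 - b, 2 - c, -6 - d] (elevenClass i) := by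
    intro i
    have h := congrFun (congrArg Subtype.val he) (enc.symm i)
    simp only [AddSubgroup.coe_add, Pi.add_apply, ← hu, hpat] at h
    rw [show (vOdd : GolayPt → ℤ) (enc.symm i) = if elevenClass i = 3 then -3 else 1 from vOdd_classes i] at h
    revert h
    generalize elevenClass i = t
    intro h
    fin_cases t <;> simp at h ⊢ <;> omega
  have h1 : 11 * a ^ 2 + 11 * b ^ 2 + c ^ 2 + d ^ 2 = 64 := by
    rw [← hz, sqNorm, sum_enc_symm]
    simp only [← hu, hpat]
    rw [sum_classes fun t => ![a, b, c, d] t ^ 2]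
    rfl
  have h2 : 11 * (2 - a) ^ 2 + 11 * (2 - b) ^ 2 + (2 - c) ^ 2 + (-6 - d) ^ 2 = 64 := by
    rw [← hz', sqNorm, sum_enc_symm]
    simp only [hother]
    rw [sum_classes fun t => ![2 - a, 2 - b, 2 - c, -6 - d] t ^ 2]
    rfl
  have ba : -2 ≤ a ∧ a ≤ 2 := ⟨by nlinarith, by nlinarith⟩
  have bb : -2 ≤ b ∧ b ≤ 2 := ⟨by nlinarith, by nlinarith⟩
  have bc : -8 ≤ c ∧ c ≤ 8 := ⟨by nlinarith, by nlinarith⟩
  have bd : -8 ≤ d ∧ d ≤ 8 := ⟨by nlinarith, by nlinarith⟩
  have ea : (((⟨(a + 2).toNat, by omega⟩ : Fin 5) : ℕ) : ℤ) - 2 = a := by simp; omega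
  have eb : (((⟨(b + 2).toNat, by omega⟩ : Fin 5) : ℕ) : ℤ) - 2 = b := by simp; omega
  have ec : (((⟨(c + 8).toNat, by omega⟩ : Fin 17) : ℕ) : ℤ) - 8 = c := by simp; omega
  have ed : (((⟨(d + 8).toNat, by omega⟩ : Fin 17) : ℕ) : ℤ) - 8 = d := by simp; omega
  have := dodecad_solutions ⟨(a + 2).toNat, by omega⟩ ⟨(b + 2).toNat, by omega⟩ ⟨(c + 8).toNat, by omega⟩
    ⟨(d + 8).toNat, by omega⟩
  rw [ea, eb, ec, ed] at this
  rw [funext hpat]
  exact this h1 h2

theorem fixes_vOdd (π : ↥M24) (h : (π : Perm GolayPt) pA = pA) : permHom π • vOdd = vOdd :=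
  permHom_fix (a := pA) vOdd (s := 1) (fun q hq => by
    show oddFun ∅ pA q = 1
    simp [oddFun, hq]) h

theorem divisors_case : ∀ k ∈ Nat.divisors 2025, k % 23 = 1 → k = 1 ∨ k = 2025 := by decide +kernel

section Over

variable {K : Subgroup ↥Co0}

theorem permHom_mem (hle : crossGrp ≤ K) (π : ↥M24) : permHom π ∈ K :=
  hle (mem_crossGrp.2 fun i => ⟨_, 8, Or.inl rfl, congrArg Subtype.val (permHom_eightAt π i)⟩)

/-- The orbit of the standard cross has as many members as the index. -/
theorem card_mul_crosses (hle : crossGrp ≤ K) :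
    (MulAction.orbit ↥K stdSet).ncard * Nat.card crossGrp = Nat.card K := by
  rw [← card_orbit_mul (G := ↥K) stdSet]
  congr 1
  exact Nat.card_congr
    { toFun := fun g => ⟨⟨g.1, hle g.2⟩, g.2⟩
      invFun := fun g => ⟨g.1.1, g.2⟩
      left_inv := fun g => rfl
      right_inv := fun g => rfl }

/-- The orbit of the base pair. -/
theorem ncard_pairs (hle : crossGrp ≤ K) :
    (MulAction.orbit ↥K (vFour, stdSet)).ncard = 1104 * (MulAction.orbit ↥K stdSet).ncard := by
  have hfin := finite_co0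
  have h1 := card_orbit_mul (G := ↥K) (vFour, stdSet)
  have h2 := card_orbit_mul (G := ↥crossGrp) vFour
  have e : Nat.card (MulAction.stabilizer ↥K (vFour, stdSet)) = Nat.card (MulAction.stabilizer ↥crossGrp vFour) :=
    Nat.card_congr
      { toFun := fun g => ⟨⟨g.1.1, congrArg Prod.snd g.2⟩, congrArg Prod.fst g.2⟩
        invFun := fun g => ⟨⟨g.1.1, hle g.1.2⟩, Prod.ext g.2 g.1.2⟩
        left_inv := fun g => rfl
        right_inv := fun g => rfl }
  rw [orbit_crossGrp_vFour, ncard_minFour] at h2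
  rw [e, ← card_mul_crosses hle, ← h2] at h1
  refine Nat.eq_of_mul_eq_mul_right (Nat.card_pos : 0 < Nat.card (MulAction.stabilizer ↥crossGrp vFour)) ?_
  rw [h1]
  ring

/-- A subgroup above the frame group is transitive on the shortest vectors unless equal to it. -/
theorem orbit_eq_min (hlt : crossGrp < K) : MulAction.orbit ↥K vFour = minVecs := by
  have hfin := finite_co0
  have hle := hlt.le
  set Ω := MulAction.orbit ↥K vFour with hΩ
  have hsub : Ω ⊆ minVecs := by
    rintro _ ⟨g, rfl⟩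
    exact (co0_sqNorm (g : ↥Co0) vFour).trans vFour_mem.1
  have hinv : ∀ g ∈ crossGrp, ∀ v ∈ Ω, g • v ∈ Ω := by
    rintro g hg _ ⟨k, rfl⟩
    exact ⟨⟨g, hle hg⟩ * k, mul_smul (⟨g, hle hg⟩ : ↥K) k vFour⟩
  have hfour : minFour ⊆ Ω := by
    intro v hv
    obtain ⟨g, hg, rfl⟩ := exists_smul_vFour hv
    exact hinv g hg _ (MulAction.mem_orbit_self _)
  have hback : ∀ (v w : ↥leechLattice), v ∈ Ω → (∃ g ∈ crossGrp, g • w = v) → w ∈ Ω := by
    rintro v w hv ⟨g, hg, rfl⟩
    have := hinv g⁻¹ (inv_mem hg) _ hv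
    rwa [inv_smul_smul] at this
  have hodd : (∃ v ∈ minOdd, v ∈ Ω) → minOdd ⊆ Ω := by
    rintro ⟨v, hv, hvΩ⟩ w hw
    obtain ⟨g, hg, rfl⟩ := exists_smul_vOdd hw
    exact hinv g hg _ (hback v _ hvΩ (exists_smul_vOdd hv))
  have htwo : (∃ v ∈ minTwo, v ∈ Ω) → minTwo ⊆ Ω := by
    rintro ⟨v, hv, hvΩ⟩ w hw
    obtain ⟨g, hg, rfl⟩ := exists_smul_vTwo hw
    exact hinv g hg _ (hback v _ hvΩ (exists_smul_vTwo hv))
  have hdvd : Ω.ncard ∣ 8315553613086720000 := by
    rw [← card_co0]
    exact Dvd.dvd.trans ⟨_, (card_orbit_mul (G := ↥K) vFour).symm⟩ (Subgroup.card_subgroup_dvd_card K)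
  have hF := finite_minVecs
  by_cases ho : ∃ v ∈ minOdd, v ∈ Ω <;> by_cases ht : ∃ v ∈ minTwo, v ∈ Ω
  · exact hsub.antisymm fun v hv => by
      rcases min_cases hv with h | h | h
      exacts [hfour h, hodd ho h, htwo ht h]
  · exfalso
    have e : Ω = minFour ∪ minOdd := Set.Subset.antisymm (fun v hv => by
        rcases min_cases (hsub hv) with h | h | h
        exacts [Or.inl h, Or.inr h, absurd ⟨v, h, hv⟩ ht]) (Set.union_subset hfour (hodd ho))
    rw [e, Set.ncard_union_eq (Set.disjoint_left.2 fun v h => minFour_not_odd h) (hF.subset fun v h => h.1)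
      (hF.subset fun v h => h.1), ncard_minFour, ncard_minOdd] at hdvd
    norm_num at hdvd
  · exfalso
    have e : Ω = minFour ∪ minTwo := Set.Subset.antisymm (fun v hv => by
        rcases min_cases (hsub hv) with h | h | h
        exacts [Or.inl h, absurd ⟨v, h, hv⟩ ho, Or.inr h]) (Set.union_subset hfour (htwo ht))
    rw [e, Set.ncard_union_eq (Set.disjoint_right.2 fun v h => (minTwo_not h).1) (hF.subset fun v h => h.1)
      (hF.subset fun v h => h.1), ncard_minFour, ncard_minTwo] at hdvd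
    norm_num at hdvd
  · exfalso
    have e : Ω = minFour := Set.Subset.antisymm (fun v hv => by
        rcases min_cases (hsub hv) with h | h | h
        exacts [h, absurd ⟨v, h, hv⟩ ho, absurd ⟨v, h, hv⟩ ht]) hfour
    have hpres : ∀ k ∈ K, ∀ v ∈ minFour, k • v ∈ minFour := fun k hk v hv => by
      rw [← e] at hv ⊢
      obtain ⟨x, rfl⟩ := hv
      exact ⟨⟨k, hk⟩ * x, mul_smul (⟨k, hk⟩ : ↥K) x vFour⟩
    exact hlt.not_ge fun k hk => mem_crossGrp_of_four k (hpres k hk) (hpres _ (inv_mem hk))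

/-- The crosses over a vector in the orbit of the base pair. -/
def overSet (K : Subgroup ↥Co0) (w : ↥leechLattice) : Set (Set ↥leechLattice) :=
  {C | (w, C) ∈ MulAction.orbit ↥K (vFour, stdSet)}

theorem finite_overSet (w : ↥leechLattice) : (overSet K w).Finite := by
  have := finite_co0
  exact (Set.finite_range _).preimage (fun a _ b _ h => congrArg Prod.snd h)

theorem smul_overSet (k : ↥K) (w : ↥leechLattice) : overSet K (k • w) = k • overSet K w := by
  ext C
  rw [Set.mem_smul_set_iff_inv_smul_mem]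
  show (k • w, C) ∈ MulAction.orbit ↥K _ ↔ (w, k⁻¹ • C) ∈ MulAction.orbit ↥K _
  constructor
  · rintro ⟨x, hx⟩
    refine ⟨k⁻¹ * x, ?_⟩
    show (k⁻¹ * x) • (vFour, stdSet) = _
    rw [mul_smul, show x • (vFour, stdSet) = _ from hx, Prod.smul_mk, inv_smul_smul]
  · rintro ⟨x, hx⟩
    refine ⟨k * x, ?_⟩
    show (k * x) • (vFour, stdSet) = _
    rw [mul_smul, show x • (vFour, stdSet) = _ from hx, Prod.smul_mk, smul_inv_smul]

theorem crosses_fibres (hlt : crossGrp < K) :
    1104 * (MulAction.orbit ↥K stdSet).ncard = 196560 * (overSet K vOdd).ncard := by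
  classical
  have hfin := finite_co0
  have hΩ := orbit_eq_min hlt
  rw [← ncard_pairs hlt.le]
  let e : ↥(MulAction.orbit ↥K (vFour, stdSet)) ≃ Σ w : ↥minVecs, ↥(overSet K w.1) :=
    { toFun := fun p => ⟨⟨p.1.1, by
          obtain ⟨k, hk⟩ := p.2
          rw [← hΩ, ← hk]
          exact ⟨k, rfl⟩⟩, ⟨p.1.2, p.2⟩⟩
      invFun := fun x => ⟨(x.1.1, x.2.1), x.2.2⟩
      left_inv := fun p => rfl
      right_inv := fun x => rfl }
  haveI : Fintype ↥minVecs := finite_minVecs.fintype
  haveI : ∀ w : ↥minVecs, Finite ↥(overSet K w.1) := fun w => (finite_overSet w.1).to_subtype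
  have hconst : ∀ w : ↥minVecs, Nat.card ↥(overSet K w.1) = (overSet K vOdd).ncard := fun w => by
    have hw : w.1 ∈ MulAction.orbit ↥K vFour := by rw [hΩ]; exact w.2
    have h1 : vOdd ∈ MulAction.orbit ↥K vFour := by rw [hΩ]; exact vOdd_mem.1
    obtain ⟨k, hk⟩ := hw
    obtain ⟨k', hk'⟩ := h1
    rw [Nat.card_coe_set_eq, ← hk, ← hk', smul_overSet, smul_overSet, Set.ncard_smul_set, Set.ncard_smul_set]
  rw [← Nat.card_coe_set_eq, Nat.card_congr e, Nat.card_sigma, Finset.sum_congr rfl fun w _ => hconst w,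
    Finset.sum_const, smul_eq_mul, Finset.card_univ, ← Nat.card_eq_fintype_card, Nat.card_coe_set_eq,
    ncard_minVecs]

theorem crosses_modEq (hle : crossGrp ≤ K) : (MulAction.orbit ↥K stdSet).ncard % 23 = 1 := by
  have hfin := finite_co0
  haveI : Fact (Nat.Prime 23) := ⟨by norm_num⟩
  set g : ↥K := ⟨permHom shiftE, permHom_mem hle shiftE⟩ with hg
  have hg23 : g ^ 23 = 1 := Subtype.ext (by
    show permHom shiftE ^ 23 = 1
    rw [← map_pow, ← orderOf_shiftE, pow_orderOf_eq_one, map_one])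
  have h := fixed_modEq g hg23 (MulAction.orbit ↥K stdSet) (Set.finite_range _)
    fun x hx => MulAction.mem_orbit_of_mem_orbit g hx
  have e : {x | x ∈ MulAction.orbit ↥K stdSet ∧ g • x = x} = {stdSet} := by
    ext C
    constructor
    · rintro ⟨⟨k, rfl⟩, hfix⟩
      have hC : k • stdSet = crossSet (cls ((k : ↥Co0) • eightAt none)) := smul_crossSet (k : ↥Co0) _
      set q := cls ((k : ↥Co0) • eightAt none)
      change g • (k • stdSet) = k • stdSet at hfix
      rw [hC] at hfix
      show k • stdSet = stdSet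
      rw [hC]
      have h48 : (crossSet q).ncard = 48 := by
        rw [← hC]
        show ((k : ↥Co0) • stdSet).ncard = 48
        rw [Set.ncard_smul_set, ← classes_covered.2 _ (mem_layer.mpr (sqNorm_eightAt none)),
          ← Set.ncard_coe_finset]
        congr 1
        ext x
        simp [stdSet, crossSet, mem_layer]
      have hg23' : permHom shiftE ^ 23 = 1 := congrArg Subtype.val hg23
      have h2 := fixed_modEq (permHom shiftE) hg23' (crossSet q) ((finite_norm' 64).subset fun x hx => hx.1)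
        fun x hx => (show permHom shiftE • crossSet q = crossSet q from hfix) ▸ Set.smul_mem_smul_set hx
      rw [h48] at h2
      obtain ⟨u, hu, hufix⟩ : {x | x ∈ crossSet q ∧ permHom shiftE • x = x}.Nonempty := by
        refine Set.nonempty_of_ncard_ne_zero fun e0 => ?_
        rw [e0] at h2
        exact absurd h2 (by decide)
      have hq : q = cls (eightAt none) := by
        rw [← hu.2]
        rcases shift_fixed hufix hu.1 with rfl | rfl
        · exact eightAt_congr _ _
        · rw [cls_neg]; exact eightAt_congr _ _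
      rw [hq]
    · rintro rfl
      exact ⟨MulAction.mem_orbit_self _,
        show permHom shiftE • stdSet = stdSet from
          (mem_crossGrp.2 fun i => ⟨_, 8, Or.inl rfl, congrArg Subtype.val (permHom_eightAt shiftE i)⟩ :
            permHom shiftE ∈ crossGrp)⟩
  rw [e, Set.ncard_singleton] at h
  exact h

/-- Too many images of a half would lie over the odd base vector. -/
theorem over_large (hle : crossGrp ≤ K) (hcard : (overSet K vOdd).ncard = 23) : False := by
  classical
  haveI : Fact (Nat.Prime 11) := ⟨by norm_num⟩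
  have hfin := finite_co0
  set F := overSet K vOdd with hF
  have hperm : ∀ π : ↥M24, (π : Perm GolayPt) pA = pA → ∀ C ∈ F, permHom π • C ∈ F := by
    intro π hπ C hC
    have := smul_overSet (⟨permHom π, permHom_mem hle π⟩ : ↥K) vOdd
    have h : (⟨permHom π, permHom_mem hle π⟩ : ↥K) • vOdd = vOdd := fixes_vOdd π hπ
    rw [h] at this
    rw [hF, this]
    exact Set.smul_mem_smul_set hC
  have hfib : ∀ C ∈ F, (halves vOdd C).ncard = 2 ∧ ∀ z ∈ C, sqNorm (z : GolayPt → ℤ) = 64 := by
    rintro C ⟨k, hk⟩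
    have h1 : (k : ↥Co0) • vFour = vOdd := congrArg Prod.fst hk
    have h2 : (k : ↥Co0) • stdSet = C := congrArg Prod.snd hk
    refine ⟨?_, fun z hz => ?_⟩
    · rw [← h1, ← h2, smul_halves, Set.ncard_smul_set, halves_std,
        Set.ncard_pair fun e => absurd (eightAt_injective e) (by decide)]
    · rw [← h2, stdSet, smul_crossSet] at hz
      exact hz.1
  have he11 : permHom elevenE ^ 11 = 1 := by
    rw [← map_pow, ← orderOf_elevenE, pow_orderOf_eq_one, map_one]
  have he : (elevenE : Perm GolayPt) pA = pA := elevenE_fix.1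
  have hC := fixed_modEq (permHom elevenE) he11 F (finite_overSet _) (hperm _ he)
  rw [hcard] at hC
  obtain ⟨C, hCF, hCfix⟩ : {x | x ∈ F ∧ permHom elevenE • x = x}.Nonempty := by
    refine Set.nonempty_of_ncard_ne_zero fun e0 => ?_
    rw [e0] at hC
    exact absurd hC (by decide)
  have hhinv : ∀ z ∈ halves vOdd C, permHom elevenE • z ∈ halves vOdd C := fun z hz => by
    have := smul_halves (permHom elevenE) vOdd C
    rw [fixes_vOdd _ he, hCfix] at this
    rw [this]
    exact Set.smul_mem_smul_set hz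
  have h2 := (hfib C hCF).1
  have hhfin : (halves vOdd C).Finite := Set.finite_of_ncard_ne_zero (by rw [h2]; norm_num)
  have hz := fixed_modEq (permHom elevenE) he11 (halves vOdd C) hhfin hhinv
  rw [h2] at hz
  obtain ⟨z, hzh, hzfix⟩ : {x | x ∈ halves vOdd C ∧ permHom elevenE • x = x}.Nonempty := by
    refine Set.nonempty_of_ncard_ne_zero fun e0 => ?_
    rw [e0] at hz
    exact absurd hz (by decide)
  obtain ⟨z', hz', hzz⟩ := hzh.2
  have hvec := eleven_half hzfix ((hfib C hCF).2 z hzh.1) ((hfib C hCF).2 z' hz') hzz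
  set x := List.ofFn fun i : Fin 24 => (z : GolayPt → ℤ) (enc.symm i) with hx
  set W : Finset ↥leechLattice := (finite_overSet (K := K) vOdd).toFinset.biUnion fun D =>
    if h : (halves vOdd D).Finite then h.toFinset else ∅ with hW
  have hWcard : W.card ≤ 46 := by
    refine (Finset.card_biUnion_le_card_mul _ _ 2 fun D hD => ?_).trans ?_
    · rw [Set.Finite.mem_toFinset] at hD
      split_ifs with h
      · rw [← Set.ncard_eq_toFinset_card _ h, (hfib D hD).1]
      · simp
    · rw [← Set.ncard_eq_toFinset_card _ (finite_overSet vOdd), ← hF, hcard]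
  let y : ℕ × ℕ → ↥leechLattice := fun g =>
    if h : gperm g.1 ∈ M24 then (permHom ⟨gperm g.1, h⟩)⁻¹ • z else z
  have hy : ∀ g ∈ imagePerms, y g ∈ W ∧
      ((List.range 24).map fun i => x.getD (app g.1 i) 0)
        = (List.range 24).map fun i => if h : i < 24 then (y g : GolayPt → ℤ) (enc.symm ⟨i, h⟩) else 0 := by
    intro g hg
    have h := List.all_eq_true.1 imagePerms_ok.1 g hg
    simp only [Bool.and_eq_true, beq_iff_eq] at h
    obtain ⟨⟨hp, hgen⟩, h23⟩ := h
    have hv := valid_of_genOk hgen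
    have hM : gperm g.1 ∈ M24 := toGP_mem_M24_of_presOk hv.repr hp
    have hA : gperm g.1 pA = pA := fixes_of_app hv 23 h23
    simp only [y, dif_pos hM]
    rw [← map_inv]
    constructor
    · have hfix : (((⟨gperm g.1, hM⟩ : ↥M24)⁻¹ : ↥M24) : Perm GolayPt) pA = pA := by
        show (gperm g.1)⁻¹ pA = pA
        rw [Equiv.Perm.inv_def, Equiv.symm_apply_eq, hA]
      have hD := hperm _ hfix C hCF
      have hm := smul_halves (permHom (⟨gperm g.1, hM⟩ : ↥M24)⁻¹) vOdd C
      rw [fixes_vOdd _ hfix] at hm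
      rw [hW, Finset.mem_biUnion]
      refine ⟨_, (Set.Finite.mem_toFinset _).2 hD, ?_⟩
      have hfin' : (halves vOdd (permHom (⟨gperm g.1, hM⟩ : ↥M24)⁻¹ • C)).Finite :=
        Set.finite_of_ncard_ne_zero (by rw [(hfib _ hD).1]; norm_num)
      rw [dif_pos hfin', Set.Finite.mem_toFinset, hm]
      exact Set.smul_mem_smul_set hzh
    · refine List.map_congr_left fun i hi => ?_
      rw [List.mem_range] at hi
      rw [dif_pos hi, permHom_apply]
      show x.getD (app g.1 i) 0 = (z : GolayPt → ℤ) (((gperm g.1)⁻¹).symm (enc.symm ⟨i, hi⟩))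
      rw [Equiv.Perm.inv_def, Equiv.symm_symm]
      have e := gperm_apply hv (enc.symm ⟨i, hi⟩)
      rw [Equiv.apply_symm_apply] at e
      rw [← e, hx, List.getD_eq_getElem _ _ (by simp), List.getElem_ofFn, Fin.eta, Equiv.symm_apply_apply]
  have hnd := List.all_eq_true.1 imagePerms_ok.2.1 x hvec
  rw [decide_eq_true_eq, List.map_congr_left fun g hg => (hy g hg).2] at hnd
  have hnd' : (imagePerms.map y).Nodup := by
    refine List.Nodup.of_map (fun u : ↥leechLattice =>
      (List.range 24).map fun i => if h : i < 24 then (u : GolayPt → ℤ) (enc.symm ⟨i, h⟩) else 0) ?_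
    rw [List.map_map]
    exact hnd
  have h47 : 47 ≤ W.card := by
    rw [← imagePerms_ok.2.2, ← List.length_map (f := y), ← List.toFinset_card_of_nodup hnd']
    refine Finset.card_le_card fun u hu => ?_
    rw [List.mem_toFinset, List.mem_map] at hu
    obtain ⟨g, hg, rfl⟩ := hu
    exact (hy g hg).1
  omega

theorem eq_top_of_gt (hlt : crossGrp < K) : K = ⊤ := by
  have hfin := finite_co0
  set c := (MulAction.orbit ↥K stdSet).ncard with hc
  have h1 := crosses_fibres hlt
  have h23 := crosses_modEq hlt.le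
  have hK := card_mul_crosses hlt.le
  have hdvd : c ∣ 8292375 := by
    have h := Subgroup.card_subgroup_dvd_card K
    rw [← hK, card_co0, card_crossGrp, show 8315553613086720000 = 8292375 * (4096 * 244823040) from rfl] at h
    exact (Nat.mul_dvd_mul_iff_right (by norm_num)).1 h
  rw [← hc] at h1 h23
  obtain ⟨k, hk⟩ : 4095 ∣ c := by
    have : 4095 ∣ 23 * c := ⟨(overSet K vOdd).ncard, by omega⟩
    exact (Nat.Coprime.dvd_mul_left (by norm_num)).1 this
  have hkd : k ∣ 2025 := by
    rw [hk, show 8292375 = 4095 * 2025 from rfl] at hdvd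
    exact (Nat.mul_dvd_mul_iff_left (by norm_num)).1 hdvd
  rcases divisors_case k (Nat.mem_divisors.2 ⟨hkd, by norm_num⟩) (by omega) with rfl | rfl
  · exact (over_large hlt.le (by omega)).elim
  · refine Subgroup.eq_top_of_card_eq K ?_
    rw [card_co0, ← hK, ← hc, hk, card_crossGrp]

end Over

theorem isCoatom_crossGrp : IsCoatom crossGrp := by
  refine ⟨fun e => ?_, fun K hK => eq_top_of_gt hK⟩
  have h := card_crossGrp
  rw [e, Subgroup.card_top, card_co0] at h
  norm_num at h

end Cfsg.Agent.Lib.Leech
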