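import Cfsg.Agent.Lib.Leech.StabBase
import Cfsg.Agent.Lib.Golay.Basic

/-!
# The frame group, its sign changes, and normal 2-subgroups
-/

set_option autoImplicit false

namespace Cfsg.Agent.Lib.Leech

open Cfsg Equiv Cfsg.Agent.Lib.Compute
open scoped Pointwise

/-- The stabiliser of the standard cross. -/
def crossGrp : Subgroup ↥Co0 := MulAction.stabilizer ↥Co0 (crossSet (cls (eightAt none)))

theorem mem_crossGrp {g : ↥Co0} :
    g ∈ crossGrp ↔ ∀ i, ∃ q s, (s = 8 ∨ s = -8) ∧
      ((g • eightAt i : ↥leechLattice) : GolayPt → ℤ) = Pi.single q s := by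
  constructor
  · intro hg i
    have h : g • eightAt i ∈ crossSet (cls (eightAt none)) := by
      have := Set.smul_mem_smul_set (a := g)
        (show eightAt i ∈ crossSet (cls (eightAt none)) from ⟨sqNorm_eightAt i, eightAt_congr i none⟩)
      rwa [show g • crossSet (cls (eightAt none)) = _ from hg] at this
    rw [crossSet_std] at h
    exact h
  · intro h
    obtain ⟨q, s, hs, e⟩ := h none
    show g • crossSet (cls (eightAt none)) = _
    rw [smul_crossSet]
    congr 1
    rcases hs with rfl | rfl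
    · rw [show g • eightAt none = eightAt q from Subtype.ext e]; exact eightAt_congr q none
    · rw [show g • eightAt none = -eightAt q from Subtype.ext (by
        rw [e, AddSubgroup.coe_neg]; exact Pi.single_neg _ _), cls_neg]
      exact eightAt_congr q none

theorem exists_frame_crossGrp {g : ↥Co0} (hg : g ∈ crossGrp) :
    ∃ π : ↥M24, ∃ c ∈ supports (golayCode : Set (GolayPt → ZMod 2)), ∀ v : ↥leechLattice,
      ((g • v : ↥leechLattice) : GolayPt → ℤ) = signedPerm (π : Perm GolayPt) c (v : GolayPt → ℤ) := by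
  obtain ⟨π, hπ, c, hc, happ⟩ := exists_frame g fun v hv => by
    obtain ⟨i, s, hs, hvs⟩ := hv
    obtain ⟨q, t, ht, hq⟩ := mem_crossGrp.1 hg i
    rcases hs with rfl | rfl
    · exact ⟨q, t, ht, by rw [show v = eightAt i from Subtype.ext hvs, hq]⟩
    · refine ⟨q, -t, by omega, ?_⟩
      rw [show v = -eightAt i from Subtype.ext (by rw [hvs, AddSubgroup.coe_neg]; exact Pi.single_neg _ _),
        co0_neg, AddSubgroup.coe_neg, hq]
      exact (Pi.single_neg _ _).symm
  exact ⟨⟨π, hπ⟩, c, hc, happ⟩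

/-- The permutation part of a frame element. -/
noncomputable def crossPerm (g : ↥crossGrp) : ↥M24 := (exists_frame_crossGrp g.2).choose

theorem crossPerm_spec (g : ↥crossGrp) : ∃ c ∈ supports (golayCode : Set (GolayPt → ZMod 2)),
    ∀ v : ↥leechLattice, (((g : ↥Co0) • v : ↥leechLattice) : GolayPt → ℤ)
      = signedPerm (crossPerm g : Perm GolayPt) c (v : GolayPt → ℤ) :=
  (exists_frame_crossGrp g.2).choose_spec

theorem crossPerm_eq (g : ↥crossGrp) (i q : GolayPt)
    (h : (((g : ↥Co0) • eightAt i : ↥leechLattice) : GolayPt → ℤ) q ≠ 0) :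
    (crossPerm g : Perm GolayPt) i = q := by
  obtain ⟨c, -, happ⟩ := crossPerm_spec g
  rw [happ, show ((eightAt i : ↥leechLattice) : GolayPt → ℤ) = Pi.single i 8 from rfl, signedPerm_single] at h
  by_contra hne
  exact h (Pi.single_eq_of_ne (Ne.symm hne) _)

/-- The permutation part as a homomorphism. -/
noncomputable def crossHom : ↥crossGrp →* ↥M24 :=
  MonoidHom.mk' crossPerm fun g h => Subtype.ext (Equiv.ext fun i => by
    show (crossPerm (g * h) : Perm GolayPt) i = (crossPerm g : Perm GolayPt) ((crossPerm h : Perm GolayPt) i)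
    refine crossPerm_eq _ _ _ ?_
    obtain ⟨c, -, hg⟩ := crossPerm_spec g
    obtain ⟨c', -, hh⟩ := crossPerm_spec h
    rw [Subgroup.coe_mul, mul_smul, hg, hh,
      show ((eightAt i : ↥leechLattice) : GolayPt → ℤ) = Pi.single i 8 from rfl, signedPerm_single,
      signedPerm, Equiv.symm_apply_apply, Pi.single_eq_same]
    split_ifs <;> norm_num)

/-- A lattice vector of squared length 64 with one nonzero coordinate is a frame vector. -/
theorem single_of_support {u : ↥leechLattice} (hn : sqNorm (u : GolayPt → ℤ) = 64) (b : GolayPt)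
    (h : ∀ q, (u : GolayPt → ℤ) q ≠ 0 → q = b) :
    ∃ s, (s = 8 ∨ s = -8) ∧ (u : GolayPt → ℤ) = Pi.single b s := by
  have hu : (u : GolayPt → ℤ) = Pi.single b ((u : GolayPt → ℤ) b) := funext fun q => by
    by_cases hq : q = b
    · rw [hq, Pi.single_eq_same]
    · rw [Pi.single_eq_of_ne hq]
      by_contra hne
      exact hq (h q hne)
  refine ⟨_, ?_, hu⟩
  rw [sqNorm, hu] at hn
  simp [Pi.single_apply, ite_pow] at hn
  rcases sq_eq_sq_iff_eq_or_eq_neg.1 (hn.trans (by norm_num : (64 : ℤ) = 8 ^ 2)) with h | h <;> omega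

/-- A sign change as an automorphism. -/
theorem exists_diag {c : Finset GolayPt} (hc : c ∈ supports (golayCode : Set (GolayPt → ZMod 2))) :
    ∃ g : ↥Co0, ∀ (v : ↥leechLattice) (q : GolayPt),
      ((g • v : ↥leechLattice) : GolayPt → ℤ) q = if q ∈ c then -(v : GolayPt → ℤ) q else (v : GolayPt → ℤ) q := by
  obtain ⟨g, hg⟩ := exists_mono 1 (one_mem _) c hc
  exact ⟨g, fun v q => by rw [hg]; simp [signedPerm, Equiv.Perm.one_symm]⟩

theorem diag_mem_crossGrp {g : ↥Co0} {c : Finset GolayPt} (hg : ∀ (v : ↥leechLattice) (q : GolayPt),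
      ((g • v : ↥leechLattice) : GolayPt → ℤ) q = if q ∈ c then -(v : GolayPt → ℤ) q else (v : GolayPt → ℤ) q) :
    ∃ h : g ∈ crossGrp, crossHom ⟨g, h⟩ = 1 := by
  have hs : ∀ i, ((g • eightAt i : ↥leechLattice) : GolayPt → ℤ) = Pi.single i (if i ∈ c then -8 else 8) := by
    intro i
    funext q
    rw [hg]
    show (if q ∈ c then -(Pi.single i 8 : GolayPt → ℤ) q else (Pi.single i 8 : GolayPt → ℤ) q) = _
    by_cases hq : q = i
    · subst hq; simp
    · simp [Pi.single_eq_of_ne hq]
  have hmem : g ∈ crossGrp := mem_crossGrp.2 fun i => ⟨i, _, by split_ifs <;> omega, hs i⟩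
  refine ⟨hmem, Subtype.ext (Equiv.ext fun i => ?_)⟩
  refine crossPerm_eq ⟨g, hmem⟩ i i ?_
  show ((g • eightAt i : ↥leechLattice) : GolayPt → ℤ) i ≠ 0
  rw [hs, Pi.single_eq_same]
  split_ifs <;> norm_num

/-- A subgroup meets a normal subgroup in at least the expected order. -/
theorem card_dvd_inter_mul_index {X : Type*} [Group X] (K H : Subgroup X) [K.Normal] :
    Nat.card H ∣ Nat.card ↥(K.subgroupOf H) * K.index := by
  let f : ↥H →* X ⧸ K := (QuotientGroup.mk' K).comp H.subtype
  have hk : f.ker = K.subgroupOf H := by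
    ext h
    simp [f, Subgroup.mem_subgroupOf]
  rw [← Subgroup.card_mul_index f.ker, Subgroup.index_ker, hk]
  exact mul_dvd_mul_left _ (Subgroup.card_subgroup_dvd_card _)

/-- A normal 2-group meets the kernel of a map onto a simple group in the whole kernel, by counting. -/
theorem ker_le_of_two_group {X Y : Type*} [Group X] [Group Y] [Finite X] (K H : Subgroup X) [K.Normal]
    (ρ : ↥H →* Y) [IsSimpleGroup ↥ρ.range] {k e : ℕ} (hK : Nat.card K = 2 ^ k)
    (hk : ¬ Nat.card ρ.range ∣ 2 ^ k) (hker : Nat.card ρ.ker = 2 ^ e)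
    (hdiv : ∀ j, Nat.card H ∣ 2 ^ j * K.index → e ≤ j) :
    K.subgroupOf H = ρ.ker := by
  have hdK : Nat.card ↥(K.subgroupOf H) ∣ 2 ^ k := by
    rw [← hK, ← Subgroup.card_map_of_injective H.subtype_injective, Subgroup.subgroupOf_map_subtype]
    exact Subgroup.card_dvd_of_le inf_le_left
  obtain ⟨j, -, hj⟩ := (Nat.dvd_prime_pow Nat.prime_two).1 hdK
  have hbot : (K.subgroupOf H).map ρ.rangeRestrict = ⊥ := by
    rcases Subgroup.Normal.eq_bot_or_eq_top
      (Subgroup.Normal.map inferInstance ρ.rangeRestrict ρ.rangeRestrict_surjective :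
        ((K.subgroupOf H).map ρ.rangeRestrict).Normal) with h | h
    · exact h
    · exfalso
      apply hk
      rw [← Subgroup.card_top (G := ↥ρ.range), ← h]
      exact (Subgroup.card_map_dvd _ _).trans hdK
  have hle : K.subgroupOf H ≤ ρ.ker := fun h hh => by
    have h1 : ρ.rangeRestrict h ∈ (K.subgroupOf H).map ρ.rangeRestrict := Subgroup.mem_map_of_mem _ hh
    rw [hbot, Subgroup.mem_bot] at h1
    exact congrArg Subtype.val h1
  refine Subgroup.eq_of_le_of_card_ge hle ?_
  rw [hker, hj]
  exact Nat.pow_le_pow_right (by norm_num) (hdiv j (hj ▸ card_dvd_inter_mul_index K H))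

theorem sep_all : ∀ i j : Fin 24, i ≠ j → codeList.any (fun m => m.testBit i && !m.testBit j) = true := by
  decide +kernel

theorem card_crossGrp : Nat.card crossGrp = 4096 * 244823040 := by
  rw [← card_frame_stabilizer]
  refine Nat.card_congr (Equiv.subtypeEquivRight fun g => ?_)
  constructor
  · intro hg v hv
    obtain ⟨π, c, -, happ⟩ := exists_frame_crossGrp hg
    exact preserves_of_signedPerm g _ c happ v hv
  · intro h
    exact mem_crossGrp.2 fun i => h (eightAt i) ⟨i, 8, Or.inl rfl, rfl⟩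

theorem crossHom_surjective : Function.Surjective crossHom := by
  intro π
  have h : permHom π ∈ crossGrp := mem_crossGrp.2 fun i =>
    ⟨_, 8, Or.inl rfl, congrArg Subtype.val (permHom_eightAt π i)⟩
  refine ⟨⟨_, h⟩, Subtype.ext (Equiv.ext fun i => crossPerm_eq ⟨_, h⟩ i _ ?_)⟩
  rw [show (permHom π • eightAt i : ↥leechLattice) = _ from permHom_eightAt π i]
  simp [eightAt]

end Cfsg.Agent.Lib.Leech
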