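import Cfsg.Agent.Lib.Leech.Pairs
import Cfsg.Agent.Lib.Compute.LeechIndex
import Cfsg.Agent.Lib.ThreeTransp.LeechTwo

/-!
The classes of the lattice modulo twice itself: every class has a member of squared length at most
64, and the members of squared length 64 come in crosses of 48 vectors.
-/

set_option autoImplicit false

namespace Cfsg.Agent.Lib.Leech

open Cfsg
open Cfsg.Agent.Lib.Compute

/-- Twice the lattice. -/
def twoLattice : AddSubgroup ↥leechLattice where
  carrier := {x | ∃ z ∈ leechLattice, (x : GolayPt → ℤ) = 2 • z}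
  zero_mem' := ⟨0, zero_mem _, by simp⟩
  add_mem' := fun ⟨a, ha, hxa⟩ ⟨b, hb, hyb⟩ =>
    ⟨a + b, add_mem ha hb, by rw [AddSubgroup.coe_add, hxa, hyb, nsmul_add]⟩
  neg_mem' := fun ⟨a, ha, hxa⟩ => ⟨-a, neg_mem ha, by rw [AddSubgroup.coe_neg, hxa, neg_nsmul]⟩

/-- The lattice modulo twice itself. -/
abbrev ModTwo : Type := ↥leechLattice ⧸ twoLattice

/-- The class of a vector. -/
def cls (x : ↥leechLattice) : ModTwo := QuotientAddGroup.mk x

noncomputable instance : DecidableEq ModTwo := Classical.decEq _

theorem cls_eq_iff {x y : ↥leechLattice} :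
    cls x = cls y ↔ ∃ z ∈ leechLattice, (x : GolayPt → ℤ) - (y : GolayPt → ℤ) = 2 • z := by
  rw [cls, cls, eq_comm, QuotientAddGroup.eq]
  show (∃ z ∈ leechLattice, ((-y + x : ↥leechLattice) : GolayPt → ℤ) = 2 • z) ↔ _
  have : ((-y + x : ↥leechLattice) : GolayPt → ℤ) = (x : GolayPt → ℤ) - (y : GolayPt → ℤ) := by
    rw [AddSubgroup.coe_add, AddSubgroup.coe_neg]; abel
  rw [this]

theorem card_modTwo : Nat.card ModTwo = 2 ^ 24 := by
  set δ : (GolayPt → ℤ) →+ (GolayPt → ℤ) := nsmulAddMonoidHom 2 with hδ
  have hinj : Function.Injective δ := fun a b h => funext fun i => by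
    have h' := congrFun h i
    simp [hδ] at h'
    omega
  have hrange : δ.range.index = 2 ^ 24 := by
    let red : (GolayPt → ℤ) →+ (GolayPt → ZMod 2) :=
      { toFun := redTwo
        map_zero' := funext fun i => by simp [redTwo]
        map_add' := redTwo_add }
    have hker : δ.range = red.ker := by
      ext x
      rw [AddMonoidHom.mem_range, AddMonoidHom.mem_ker]
      constructor
      · rintro ⟨y, rfl⟩
        funext i
        simp [red, redTwo, hδ, show (2 : ZMod 2) = 0 from rfl]
      · intro h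
        refine ⟨fun i => x i / 2, funext fun i => ?_⟩
        have := congrFun h i
        simp only [red, AddMonoidHom.coe_mk, ZeroHom.coe_mk, redTwo, Pi.zero_apply,
          ZMod.intCast_zmod_eq_zero_iff_dvd] at this
        simp [hδ]
        omega
    rw [hker, AddSubgroup.index_ker, AddMonoidHom.range_eq_top.mpr ?_, AddSubgroup.card_top, Nat.card_fun,
      Nat.card_zmod, Nat.card_eq_fintype_card]
    · rfl
    · intro v
      exact ⟨fun i => ((v i).val : ℤ), funext fun i => by simp [red, redTwo]⟩
  have h1 : (leechLattice.map δ).index = 2 ^ 36 * 2 ^ 24 := by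
    rw [AddSubgroup.index_map_of_injective _ hinj, index_leechLattice, hrange]
  have hle : leechLattice.map δ ≤ leechLattice := by
    rintro _ ⟨y, hy, rfl⟩
    exact nsmul_mem hy 2
  have h2 := AddSubgroup.relIndex_mul_index hle
  rw [index_leechLattice, h1] at h2
  have hsub : (leechLattice.map δ).addSubgroupOf leechLattice = twoLattice := by
    ext x
    rw [AddSubgroup.mem_addSubgroupOf, AddSubgroup.mem_map]
    exact ⟨fun ⟨z, hz, e⟩ => ⟨z, hz, e.symm⟩, fun ⟨z, hz, e⟩ => ⟨z, hz, e.symm⟩⟩
  rw [AddSubgroup.relIndex, hsub] at h2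
  have h3 : twoLattice.index = 2 ^ 24 := by
    rw [mul_comm (2 ^ 36 : ℕ)] at h2
    exact Nat.eq_of_mul_eq_mul_right (by positivity) h2
  exact h3

theorem finite_norm (n : ℤ) : {x : GolayPt → ℤ | x ∈ leechLattice ∧ sqNorm x = n}.Finite := by
  refine (Set.Finite.pi fun _ : GolayPt => Set.finite_Icc (-|n|) |n|).subset ?_
  intro y hy q _
  have h1 : y q ^ 2 ≤ sqNorm y := Finset.single_le_sum (fun i _ => sq_nonneg (y i)) (Finset.mem_univ q)
  rw [hy.2] at h1
  have := le_abs_self n
  exact ⟨by nlinarith [Int.le_self_sq (-(y q)), neg_sq (y q)], by nlinarith [Int.le_self_sq (y q)]⟩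

theorem finite_norm' (n : ℤ) : {x : ↥leechLattice | sqNorm (x : GolayPt → ℤ) = n}.Finite := by
  refine Set.Finite.of_finite_image ((finite_norm n).subset ?_) Subtype.val_injective.injOn
  rintro _ ⟨x, hx, rfl⟩
  exact ⟨x.2, hx⟩

/-- The vectors of given squared length. -/
noncomputable def layer (n : ℕ) : Finset ↥leechLattice := (finite_norm' n).toFinset

theorem mem_layer {n : ℕ} {x : ↥leechLattice} : x ∈ layer n ↔ sqNorm (x : GolayPt → ℤ) = n := by
  simp [layer]

theorem card_layer (n : ℕ) :
    (layer n).card = {x : GolayPt → ℤ | x ∈ leechLattice ∧ sqNorm x = n}.ncard := by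
  rw [← Set.ncard_coe_finset]
  refine Set.ncard_congr (fun x _ => (x : GolayPt → ℤ)) (fun x hx => ⟨x.2, mem_layer.mp hx⟩)
    (fun x y _ _ h => Subtype.ext h) fun y hy => ⟨⟨y, hy.1⟩, mem_layer.mpr hy.2, rfl⟩

theorem sqNorm_zero : sqNorm (0 : GolayPt → ℤ) = 0 := by simp [sqNorm]

theorem dot_self (x : GolayPt → ℤ) : dotInt x x = sqNorm x :=
  Finset.sum_congr rfl fun i _ => (pow_two (x i)).symm

/-- Pairwise orthogonal non-zero vectors number at most 24. -/
theorem card_orth_le (A : Finset (GolayPt → ℤ)) (h0 : ∀ a ∈ A, a ≠ 0)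
    (horth : ∀ a ∈ A, ∀ b ∈ A, a ≠ b → dotInt a b = 0) : A.card ≤ 24 := by
  have hli : LinearIndependent ℚ fun a : A => fun i => ((a : GolayPt → ℤ) i : ℚ) := by
    rw [Fintype.linearIndependent_iff]
    intro c hc a
    have h := congrArg (fun f : GolayPt → ℚ => ∑ i, f i * ((a : GolayPt → ℤ) i : ℚ)) hc
    simp only [Finset.sum_apply, Pi.smul_apply, smul_eq_mul, Finset.sum_mul, Pi.zero_apply, zero_mul,
      Finset.sum_const_zero] at h
    rw [Finset.sum_comm, Finset.sum_eq_single a] at h
    · simp only [mul_assoc, ← Finset.mul_sum] at h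
      refine (mul_eq_zero.mp h).resolve_right ?_
      have hpos : dotInt (a : GolayPt → ℤ) a ≠ 0 := by
        rw [dot_self]
        intro e
        apply h0 a a.2
        funext i
        have := (Finset.sum_eq_zero_iff_of_nonneg fun j _ => sq_nonneg ((a : GolayPt → ℤ) j)).mp e i
          (Finset.mem_univ i)
        exact sq_eq_zero_iff.mp this
      intro e
      apply hpos
      have : ((dotInt (a : GolayPt → ℤ) a : ℤ) : ℚ) = 0 := by rw [dotInt]; push_cast; exact e
      exact_mod_cast this
    · intro b _ hb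
      simp only [mul_assoc, ← Finset.mul_sum]
      have : ((dotInt (b : GolayPt → ℤ) a : ℤ) : ℚ) = 0 := by
        rw [horth b b.2 a a.2 fun e => hb (Subtype.ext e)]; simp
      rw [dotInt] at this
      push_cast at this
      rw [this, mul_zero]
    · simp
  have := hli.fintype_card_le_finrank
  rw [Fintype.card_coe, Module.finrank_fintype_fun_eq_card] at this
  exact this

theorem fibre_le {n : ℕ} (hn : n ≤ 48) (q : ModTwo) :
    ((layer n).filter fun x => cls x = q).card ≤ 2 := by
  classical
  rcases ((layer n).filter fun x => cls x = q).eq_empty_or_nonempty with h | ⟨x, hx⟩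
  · rw [h]; simp
  · refine le_trans (Finset.card_le_card (t := {x, -x}) ?_) Finset.card_le_two
    intro y hy
    simp only [Finset.mem_filter, mem_layer] at hx hy
    have hc := cls_eq_iff.mp (hy.2.trans hx.2.symm)
    have hn' : (n : ℤ) ≤ 48 := by exact_mod_cast hn
    rcases ThreeTransp.short_congr y.2 x.2 (by omega) (by omega) hc with e | e | ⟨e, -, -⟩
    · simp [Subtype.ext e]
    · have : y = -x := Subtype.ext e
      simp [this]
    · omega

theorem fibre_four_le (q : ModTwo) : ((layer 64).filter fun x => cls x = q).card ≤ 48 := by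
  classical
  set F := (layer 64).filter fun x => cls x = q with hF
  let good : Finset ↥leechLattice → Prop := fun A =>
    ∀ a ∈ A, ∀ b ∈ A, a ≠ b → dotInt (a : GolayPt → ℤ) (b : GolayPt → ℤ) = 0
  obtain ⟨A, hA, hmax⟩ := ((F.powerset).filter good).exists_max_image Finset.card
    ⟨∅, by simp [good]⟩
  simp only [Finset.mem_filter, Finset.mem_powerset] at hA
  have hcard : A.card ≤ 24 := by
    rw [← Finset.card_image_of_injective A (f := fun a : ↥leechLattice => (a : GolayPt → ℤ))
      Subtype.val_injective]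
    refine card_orth_le _ ?_ ?_
    · intro a ha e
      obtain ⟨a', ha', rfl⟩ := Finset.mem_image.mp ha
      have := hA.1 ha'
      simp only [hF, Finset.mem_filter, mem_layer, e, sqNorm_zero] at this
      simp at this
    · intro a ha b hb hne
      obtain ⟨a', ha', rfl⟩ := Finset.mem_image.mp ha
      obtain ⟨b', hb', rfl⟩ := Finset.mem_image.mp hb
      exact hA.2 a' ha' b' hb' fun e => hne (by rw [e])
  have hsub : F ⊆ A ∪ A.image Neg.neg := by
    intro y hy
    by_contra hno
    simp only [Finset.mem_union, Finset.mem_image, not_or, not_exists, not_and] at hno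
    have horth : ∀ a ∈ A, dotInt (y : GolayPt → ℤ) (a : GolayPt → ℤ) = 0 := by
      intro a ha
      have ha' := hA.1 ha
      simp only [hF, Finset.mem_filter, mem_layer] at ha' hy
      rcases ThreeTransp.short_congr y.2 a.2 (le_of_eq hy.1) (le_of_eq ha'.1)
          (cls_eq_iff.mp (hy.2.trans ha'.2.symm)) with e | e | ⟨-, -, e⟩
      · exact absurd ha (by rw [← (Subtype.ext e : y = a)]; exact hno.1)
      · exact absurd (Subtype.ext e : y = -a) fun e' => hno.2 a ha e'.symm
      · exact e
    have := hmax (insert y A) (by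
      simp only [Finset.mem_filter, Finset.mem_powerset]
      refine ⟨Finset.insert_subset hy hA.1, fun a ha b hb hne => ?_⟩
      rcases Finset.mem_insert.mp ha with rfl | ha' <;> rcases Finset.mem_insert.mp hb with rfl | hb'
      · exact absurd rfl hne
      · exact horth b hb'
      · have := horth a ha'
        rw [dotInt] at this ⊢
        simpa [mul_comm] using this
      · exact hA.2 a ha' b hb' hne)
    rw [Finset.card_insert_of_notMem hno.1] at this
    omega
  calc F.card ≤ (A ∪ A.image Neg.neg).card := Finset.card_le_card hsub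
    _ ≤ A.card + (A.image Neg.neg).card := Finset.card_union_le _ _
    _ ≤ A.card + A.card := Nat.add_le_add_left Finset.card_image_le _
    _ ≤ 48 := by omega

theorem card_eq_mul_of_fibres {α β : Type*} [DecidableEq β] (S : Finset α) (f : α → β) (k : ℕ)
    (hle : ∀ q, (S.filter fun x => f x = q).card ≤ k) (hexact : S.card = k * (S.image f).card) :
    ∀ q ∈ S.image f, (S.filter fun x => f x = q).card = k := by
  have h : ∑ q ∈ S.image f, (S.filter fun x => f x = q).card = ∑ _q ∈ S.image f, k := by
    rw [← Finset.card_eq_sum_card_image, Finset.sum_const, smul_eq_mul, hexact, mul_comm]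
  intro q hq
  exact (Finset.sum_eq_sum_iff_of_le fun a _ => hle a).mp h q hq

/-- Every class has a short member, and crosses have 48 members. -/
theorem classes_covered :
    (∀ q : ModTwo, ∃ y : ↥leechLattice, sqNorm (y : GolayPt → ℤ) ≤ 64 ∧ cls y = q) ∧
      ∀ x ∈ layer 64, ((layer 64).filter fun y => cls y = cls x).card = 48 := by
  classical
  haveI : Finite ModTwo := Nat.finite_of_card_ne_zero (by rw [card_modTwo]; norm_num)
  haveI := Fintype.ofFinite ModTwo
  set I : ℕ → Finset ModTwo := fun n => (layer n).image cls with hI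
  have c0 : 1 ≤ (I 0).card := Finset.card_pos.mpr
    ⟨cls 0, Finset.mem_image_of_mem _ (mem_layer.mpr (by simp [sqNorm]))⟩
  have l32 : (layer 32).card = 196560 := by rw [card_layer]; exact ncard_min
  have l48 : (layer 48).card = 16773120 := by rw [card_layer]; exact ncard_three
  have l64 : (layer 64).card = 398034000 := by rw [card_layer]; exact ncard_four
  have c32 : 98280 ≤ (I 32).card := by
    have := Finset.card_le_mul_card_image (f := cls) (layer 32) 2 (fun q _ => fibre_le (n := 32) (by norm_num) q)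
    simp only [hI]; omega
  have c48 : 8386560 ≤ (I 48).card := by
    have := Finset.card_le_mul_card_image (f := cls) (layer 48) 2 (fun q _ => fibre_le (n := 48) le_rfl q)
    simp only [hI]; omega
  have c64 : 8292375 ≤ (I 64).card := by
    have := Finset.card_le_mul_card_image (f := cls) (layer 64) 48 (fun q _ => fibre_four_le q)
    simp only [hI]; omega
  have hdisj : ∀ a ∈ ({0, 32, 48, 64} : Finset ℕ), ∀ b ∈ ({0, 32, 48, 64} : Finset ℕ), a ≠ b →
      Disjoint (I a) (I b) := by
    intro a ha b hb hne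
    rw [Finset.disjoint_left]
    intro q hqa hqb
    obtain ⟨x, hx, rfl⟩ := Finset.mem_image.mp hqa
    obtain ⟨y, hy, hyq⟩ := Finset.mem_image.mp hqb
    rw [mem_layer] at hx hy
    have ha' : (a : ℤ) ≤ 64 := by simp at ha; omega
    have hb' : (b : ℤ) ≤ 64 := by simp at hb; omega
    rcases ThreeTransp.short_congr x.2 y.2 (by omega) (by omega) (cls_eq_iff.mp hyq.symm) with e | e | e
    · rw [e] at hx; omega
    · rw [e, ThreeTransp.sqNorm_neg'] at hx; omega
    · omega
  have hsum : ∑ n ∈ ({0, 32, 48, 64} : Finset ℕ), (I n).card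
      = (({0, 32, 48, 64} : Finset ℕ).biUnion I).card := (Finset.card_biUnion hdisj).symm
  have huniv : (({0, 32, 48, 64} : Finset ℕ).biUnion I).card ≤ 16777216 := by
    refine le_trans (Finset.card_le_univ _) ?_
    rw [← Nat.card_eq_fintype_card, card_modTwo]
    norm_num
  rw [Finset.sum_insert (by simp), Finset.sum_insert (by simp), Finset.sum_insert (by simp),
    Finset.sum_singleton] at hsum
  have hall : (({0, 32, 48, 64} : Finset ℕ).biUnion I) = Finset.univ := by
    refine Finset.eq_univ_of_card _ ?_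
    rw [← Nat.card_eq_fintype_card, card_modTwo]
    omega
  refine ⟨fun q => ?_, ?_⟩
  · have hq : q ∈ ({0, 32, 48, 64} : Finset ℕ).biUnion I := by rw [hall]; exact Finset.mem_univ q
    obtain ⟨n, hn, hqn⟩ := Finset.mem_biUnion.mp hq
    obtain ⟨y, hy, rfl⟩ := Finset.mem_image.mp hqn
    rw [mem_layer] at hy
    refine ⟨y, ?_, rfl⟩
    rw [hy]
    simp at hn
    omega
  · intro x hx
    refine card_eq_mul_of_fibres (layer 64) cls 48 fibre_four_le ?_ _ (Finset.mem_image_of_mem _ hx)
    simp only [hI] at *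
    omega

theorem ncard_cross (x : GolayPt → ℤ) (hx : x ∈ leechLattice) (hxn : sqNorm x = 64) :
    (cross x).ncard = 48 := by
  classical
  rw [← classes_covered.2 ⟨x, hx⟩ (mem_layer.mpr hxn), ← Set.ncard_coe_finset]
  refine Set.ncard_congr (fun y hy => (⟨y, hy.1⟩ : ↥leechLattice)) (fun y hy => ?_)
    (fun y y' _ _ h => congrArg Subtype.val h) fun y hy => ⟨(y : GolayPt → ℤ), ?_, rfl⟩
  · simp only [Finset.coe_filter, Set.mem_ofPred_eq, mem_layer]
    exact ⟨by rw [hy.2.1, hxn]; rfl, (cls_eq_iff.mpr hy.2.2).symm⟩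
  · simp only [Finset.coe_filter, Set.mem_ofPred_eq, mem_layer] at hy
    exact ⟨y.2, by rw [hy.1, hxn]; rfl, cls_eq_iff.mp hy.2.symm⟩

theorem exists_short_rep (x : GolayPt → ℤ) (hx : x ∈ leechLattice) :
    ∃ y ∈ leechLattice, sqNorm y ≤ 64 ∧ ∃ z ∈ leechLattice, x - y = 2 • z := by
  obtain ⟨y, hy, hc⟩ := classes_covered.1 (cls ⟨x, hx⟩)
  exact ⟨(y : GolayPt → ℤ), y.2, hy, cls_eq_iff.mp hc.symm⟩

theorem sqNorm_sub (x y : GolayPt → ℤ) : sqNorm (x - y) = sqNorm x - 2 * dotInt x y + sqNorm y := by
  simp only [sqNorm, dotInt, Pi.sub_apply, Finset.mul_sum, ← Finset.sum_sub_distrib, ← Finset.sum_add_distrib]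
  exact Finset.sum_congr rfl fun i _ => by ring

theorem dot_add_right (x y z : GolayPt → ℤ) : dotInt x (y + z) = dotInt x y + dotInt x z := by
  simp only [dotInt, Pi.add_apply, mul_add, Finset.sum_add_distrib]

theorem dot_comm (x y : GolayPt → ℤ) : dotInt x y = dotInt y x := by
  simp only [dotInt, mul_comm]

/-- Every vector of squared length 64 is the sum of two orthogonal shortest vectors. -/
theorem exists_decomp (y : ↥leechLattice) (hy : sqNorm (y : GolayPt → ℤ) = 64) :
    ∃ v w : ↥leechLattice, sqNorm (v : GolayPt → ℤ) = 32 ∧ sqNorm (w : GolayPt → ℤ) = 32 ∧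
      dotInt (v : GolayPt → ℤ) (w : GolayPt → ℤ) = 0 ∧ y = v + w := by
  classical
  set P := (layer 32).sigma fun v : ↥leechLattice => (layer 32).filter fun w : ↥leechLattice =>
    dotInt (v : GolayPt → ℤ) (w : GolayPt → ℤ) = 0 with hP
  let s : (Σ _ : ↥leechLattice, ↥leechLattice) → ↥leechLattice := fun p => p.1 + p.2
  have hmemP : ∀ p ∈ P, sqNorm (p.1 : GolayPt → ℤ) = 32 ∧ sqNorm (p.2 : GolayPt → ℤ) = 32 ∧
      dotInt (p.1 : GolayPt → ℤ) (p.2 : GolayPt → ℤ) = 0 := fun p hp => by
    simp only [hP, Finset.mem_sigma, Finset.mem_filter, mem_layer] at hp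
    exact ⟨hp.1, hp.2.1, hp.2.2⟩
  have hcard : P.card = 196560 * 93150 := by
    rw [hP, Finset.card_sigma]
    have hfib : ∀ v ∈ layer 32, ((layer 32).filter fun w : ↥leechLattice =>
        dotInt (v : GolayPt → ℤ) (w : GolayPt → ℤ) = 0).card = 93150 := by
      intro v hv
      rw [← (ncard_dot (v : GolayPt → ℤ) v.2 (mem_layer.mp hv)).2.2, ← Set.ncard_coe_finset]
      refine Set.ncard_congr (fun w _ => (w : GolayPt → ℤ))
        (fun w hw => ?_) (fun a b _ _ h => Subtype.ext h) fun b hb => ⟨⟨b, hb.1⟩, ?_, rfl⟩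
      · simp only [Finset.coe_filter, Set.mem_ofPred_eq, mem_layer] at hw
        exact ⟨w.2, hw.1, hw.2⟩
      · simp only [Finset.coe_filter, Set.mem_ofPred_eq, mem_layer]
        exact ⟨hb.2.1, hb.2.2⟩
    rw [Finset.sum_congr rfl hfib, Finset.sum_const, card_layer, smul_eq_mul]
    rw [show ((32 : ℕ) : ℤ) = 32 from rfl, ncard_min]
  have himg : P.image s ⊆ layer 64 := by
    intro z hz
    obtain ⟨p, hp, rfl⟩ := Finset.mem_image.mp hz
    obtain ⟨h1, h2, h3⟩ := hmemP p hp
    rw [mem_layer]
    show sqNorm ((p.1 : GolayPt → ℤ) + (p.2 : GolayPt → ℤ)) = 64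
    rw [sqNorm_add, h1, h2, h3]; norm_num
  have hfib : ∀ z ∈ P.image s, (P.filter fun p => s p = z).card ≤ 46 := by
    intro z hz
    have hz64 := mem_layer.mp (himg hz)
    set F := (layer 64).filter fun a => cls a = cls z with hF
    have hzF : z ∈ F := by simp [hF, mem_layer, hz64]
    have hzneg : -z ∈ F := by
      simp only [hF, Finset.mem_filter, mem_layer, AddSubgroup.coe_neg, ThreeTransp.sqNorm_neg']
      refine ⟨hz64, cls_eq_iff.mpr ⟨-(z : GolayPt → ℤ), neg_mem z.2, ?_⟩⟩
      rw [AddSubgroup.coe_neg, two_nsmul]; abel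
    have hne : z ≠ -z := by
      intro e
      have e' : (z : GolayPt → ℤ) = -(z : GolayPt → ℤ) := congrArg Subtype.val e
      have : (z : GolayPt → ℤ) = 0 := funext fun i => by
        have := congrFun e' i
        simp only [Pi.neg_apply] at this
        simp only [Pi.zero_apply]
        omega
      rw [this, sqNorm_zero] at hz64
      norm_num at hz64
    have hcard48 : F.card = 48 := classes_covered.2 z (mem_layer.mpr hz64)
    have h46 : (F \ {z, -z}).card = 46 := by
      rw [Finset.card_sdiff_of_subset (Finset.insert_subset hzF (Finset.singleton_subset_iff.mpr hzneg)),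
        hcard48, Finset.card_pair hne]
    rw [← h46]
    refine Finset.card_le_card_of_injOn (fun p => p.1 - p.2) (fun p hp => ?_) ?_
    · simp only [Finset.coe_filter, Set.mem_ofPred_eq] at hp
      obtain ⟨h1, h2, h3⟩ := hmemP p hp.1
      have hz' : z = p.1 + p.2 := hp.2.symm
      simp only [Finset.mem_coe, Finset.mem_sdiff, hF, Finset.mem_filter, mem_layer, Finset.mem_insert,
        Finset.mem_singleton, AddSubgroup.coe_sub]
      refine ⟨⟨by rw [sqNorm_sub, h1, h2, h3]; norm_num, cls_eq_iff.mpr ⟨-(p.2 : GolayPt → ℤ), neg_mem p.2.2, ?_⟩⟩, ?_⟩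
      · rw [hz', AddSubgroup.coe_sub, AddSubgroup.coe_add, two_nsmul]; abel
      · rintro (e | e)
        · have e' : ∀ i, (p.2 : GolayPt → ℤ) i = 0 := fun i => by
            have := congrFun (congrArg (Subtype.val : ↥leechLattice → GolayPt → ℤ) (e.trans hz')) i
            simp only [AddSubgroup.coe_sub, AddSubgroup.coe_add, Pi.sub_apply, Pi.add_apply] at this
            omega
          rw [show (p.2 : GolayPt → ℤ) = 0 from funext e', sqNorm_zero] at h2
          norm_num at h2
        · have e' : ∀ i, (p.1 : GolayPt → ℤ) i = 0 := fun i => by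
            have := congrFun (congrArg (Subtype.val : ↥leechLattice → GolayPt → ℤ) e) i
            simp only [hz', AddSubgroup.coe_sub, AddSubgroup.coe_neg, AddSubgroup.coe_add, Pi.sub_apply,
              Pi.neg_apply, Pi.add_apply] at this
            omega
          rw [show (p.1 : GolayPt → ℤ) = 0 from funext e', sqNorm_zero] at h1
          norm_num at h1
    · intro p hp q hq he
      simp only [Finset.coe_filter, Set.mem_ofPred_eq] at hp hq
      have hs : p.1 + p.2 = q.1 + q.2 := hp.2.trans hq.2.symm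
      have e1 : p.1 = q.1 := Subtype.ext (funext fun i => by
        have a := congrFun (congrArg (Subtype.val : ↥leechLattice → GolayPt → ℤ) hs) i
        have b := congrFun (congrArg (Subtype.val : ↥leechLattice → GolayPt → ℤ) he) i
        simp only [AddSubgroup.coe_add, AddSubgroup.coe_sub, Pi.add_apply, Pi.sub_apply] at a b
        omega)
      have e2 : p.2 = q.2 := add_left_cancel (a := p.1) (by rw [hs, e1])
      exact Sigma.ext e1 (heq_of_eq e2)
  have hall : P.image s = layer 64 := by
    refine Finset.eq_of_subset_of_card_le himg ?_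
    have h1 := Finset.card_le_mul_card_image (f := s) P 46 hfib
    have h2 : (layer 64).card = 398034000 := by rw [card_layer]; exact ncard_four
    omega
  have hyP : y ∈ P.image s := by rw [hall, mem_layer]; exact_mod_cast hy
  obtain ⟨p, hp, hps⟩ := Finset.mem_image.mp hyP
  obtain ⟨h1, h2, h3⟩ := hmemP p hp
  exact ⟨p.1, p.2, h1, h2, h3, hps.symm⟩

/-- Transitivity on the vectors of squared length 64 up to congruence. -/
theorem exists_co0_cross (y y' : ↥leechLattice) (hy : sqNorm (y : GolayPt → ℤ) = 64)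
    (hy' : sqNorm (y' : GolayPt → ℤ) = 64) : ∃ g : ↥Co0, cls (g • y) = cls y' := by
  obtain ⟨v, w, hv, hw, hvw, rfl⟩ := exists_decomp y hy
  obtain ⟨v', w', hv', hw', hvw', rfl⟩ := exists_decomp y' hy'
  obtain ⟨k, hk⟩ := exists_co0_min v v' hv hv'
  obtain ⟨g, hg1, hg2⟩ := exists_co0_zero v' (k • w) w' hv' (by rw [co0_sqNorm]; exact hw) hw'
    (by rw [← hk, co0_dot]; exact hvw) hvw'
  refine ⟨g * k, congrArg cls ?_⟩
  rw [mul_smul, show k • (v + w) = k • v + k • w from k.2.1 v w, hk,
    show g • (v' + k • w) = g • v' + g • k • w from g.2.1 _ _, hg1, hg2]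

end Cfsg.Agent.Lib.Leech
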