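import Cfsg.Agent.Lib.Leech.Count
import Cfsg.Agent.Lib.Compute.GolayFacts
import Cfsg.Agent.Lib.ThreeTransp.LeechXi
import Cfsg.Prelude.Def_SporadicCombinatorics

/-!
Monomial automorphisms and the sextet automorphism of the rank 24 lattice, acting on coordinate
lists, for use in certificates.
-/

set_option autoImplicit false

namespace Cfsg.Agent.Lib.Leech

open Cfsg
open Cfsg.Agent.Lib.Compute

/-- The vector with the given coordinate list. -/
def vecOf (l : List ℤ) : GolayPt → ℤ := fun q => l.getD (enc q) 0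

/-- The coordinate list of a vector. -/
def listOf (x : GolayPt → ℤ) : List ℤ := (List.finRange 24).map fun i => x (enc.symm i)

theorem listOf_getD (x : GolayPt → ℤ) (i : Fin 24) : (listOf x).getD i 0 = x (enc.symm i) := by
  rw [listOf, List.getD_eq_getElem?_getD, List.getElem?_map,
    List.getElem?_eq_getElem (by simp [i.isLt]), Option.map_some, Option.getD_some,
    List.getElem_finRange]
  congr 2

theorem vecOf_listOf (x : GolayPt → ℤ) : vecOf (listOf x) = x := funext fun q => by
  rw [vecOf, listOf_getD, Equiv.symm_apply_apply]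

/-- Polarisation. -/
theorem dotInt_eq {x y : GolayPt → ℤ} :
    2 * dotInt x y = sqNorm (x + y) - sqNorm x - sqNorm y := by
  rw [sqNorm_add]; ring

theorem co0_dot (g : ↥Co0) (v w : ↥leechLattice) :
    dotInt ((g • v : ↥leechLattice) : GolayPt → ℤ) ((g • w : ↥leechLattice) : GolayPt → ℤ)
      = dotInt (v : GolayPt → ℤ) (w : GolayPt → ℤ) := by
  have hadd : g • (v + w) = g • v + g • w := g.2.1 v w
  have h1 : sqNorm ((g • (v + w) : ↥leechLattice) : GolayPt → ℤ) = sqNorm ((v : GolayPt → ℤ) + (w : GolayPt → ℤ)) :=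
    g.2.2 (v + w)
  rw [hadd, AddSubgroup.coe_add] at h1
  have h2 : sqNorm ((g • v : ↥leechLattice) : GolayPt → ℤ) = sqNorm (v : GolayPt → ℤ) := g.2.2 v
  have h3 : sqNorm ((g • w : ↥leechLattice) : GolayPt → ℤ) = sqNorm (w : GolayPt → ℤ) := g.2.2 w
  have e1 := dotInt_eq (x := ((g • v : ↥leechLattice) : GolayPt → ℤ))
    (y := ((g • w : ↥leechLattice) : GolayPt → ℤ))
  have e2 := dotInt_eq (x := (v : GolayPt → ℤ)) (y := (w : GolayPt → ℤ))
  omega

theorem co0_sqNorm (g : ↥Co0) (v : ↥leechLattice) :
    sqNorm ((g • v : ↥leechLattice) : GolayPt → ℤ) = sqNorm (v : GolayPt → ℤ) := g.2.2 v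

theorem co0_neg (g : ↥Co0) (v : ↥leechLattice) : g • -v = -(g • v) := by
  have h0 : g • (0 : ↥leechLattice) = 0 := by
    have h : g • ((0 : ↥leechLattice) + 0) = g • 0 + g • (0 : ↥leechLattice) := g.2.1 0 0
    rw [add_zero] at h
    exact left_eq_add.mp h
  have h : g • (v + -v) = g • v + g • -v := g.2.1 v (-v)
  rw [add_neg_cancel, h0] at h
  exact eq_neg_of_add_eq_zero_right h.symm

/-- The signed coordinate permutation as a lattice automorphism. -/
theorem exists_mono (σ : Equiv.Perm GolayPt) (hσ : σ ∈ M24) (c : Finset GolayPt)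
    (hc : c ∈ supports (golayCode : Set (GolayPt → ZMod 2))) :
    ∃ g : ↥Co0, ∀ v : ↥leechLattice,
      ((g • v : ↥leechLattice) : GolayPt → ℤ) = signedPerm σ c (v : GolayPt → ℤ) := by
  have hmem : ∀ v : ↥leechLattice, signedPerm σ c (v : GolayPt → ℤ) ∈ leechLattice := fun v =>
    sign_mem_leechLattice hc (perm_mem_leechLattice (inv_mem hσ) v.2)
  let f : ↥leechLattice → ↥leechLattice := fun v => ⟨_, hmem v⟩
  have hinj : Function.Injective f := fun v w h => by
    refine Subtype.ext (funext fun i => ?_)
    have h' := congrFun (congrArg (Subtype.val : ↥leechLattice → GolayPt → ℤ) h) (σ i)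
    simp only [f, signedPerm, Equiv.symm_apply_apply] at h'
    split_ifs at h' with hh <;> linarith
  have hsurj : Function.Surjective f := fun w => by
    have h1 := perm_mem_leechLattice hσ (sign_mem_leechLattice hc w.2)
    refine ⟨⟨_, h1⟩, Subtype.ext (funext fun i => ?_)⟩
    show signedPerm σ c (fun j => if σ j ∈ c then -(w : GolayPt → ℤ) (σ j) else (w : GolayPt → ℤ) (σ j)) i = _
    simp only [signedPerm, Equiv.apply_symm_apply]
    split_ifs <;> simp
  refine ⟨⟨Equiv.ofBijective f ⟨hinj, hsurj⟩, ⟨fun v w => ?_, fun v => ?_⟩⟩, fun v => rfl⟩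
  · refine Subtype.ext (funext fun i => ?_)
    show signedPerm σ c ((v : GolayPt → ℤ) + (w : GolayPt → ℤ)) i
      = signedPerm σ c (v : GolayPt → ℤ) i + signedPerm σ c (w : GolayPt → ℤ) i
    simp only [signedPerm, Pi.add_apply]
    split_ifs <;> ring
  · show sqNorm (signedPerm σ c (v : GolayPt → ℤ)) = _
    simp only [sqNorm]
    rw [← Equiv.sum_comp σ.symm fun i => (v : GolayPt → ℤ) i ^ 2]
    refine Finset.sum_congr rfl fun i _ => ?_
    simp only [signedPerm]
    split_ifs <;> ring

/-- A monomial element: a packed permutation, its packed inverse, and the mask of negated points. -/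
abbrev MGen : Type := ℕ × ℕ × ℕ

/-- Validity of a monomial element. -/
def genGood (e : MGen) : Bool :=
  genOk 24 (e.1, e.2.1) && genOk 24 (e.2.1, e.1) && presOk e.1 && inCode e.2.2

/-- The action on coordinate lists. -/
def actMono (e : MGen) (l : List ℤ) : List ℤ :=
  (List.finRange 24).map fun i : Fin 24 =>
    if e.2.2.testBit i then -l.getD (app e.2.1 i) 0 else l.getD (app e.2.1 i) 0

theorem exists_gen {e : MGen} (h : genGood e = true) :
    ∃ g : ↥Co0, ∀ v : ↥leechLattice, ((g • v : ↥leechLattice) : GolayPt → ℤ)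
      = vecOf (actMono e (listOf (v : GolayPt → ℤ))) := by
  simp only [genGood, Bool.and_eq_true] at h
  obtain ⟨⟨⟨h1, h1'⟩, h2⟩, h3⟩ := h
  have hr := repr_toPerm_of_genOk h1
  have hr' := repr_toPerm_of_genOk h1'
  have hσ : toGP (toPerm 24 e.1) ∈ M24 := toGP_mem_M24_of_presOk hr h2
  have hc : setOf24 e.2.2 ∈ supports (golayCode : Set (GolayPt → ZMod 2)) := by
    rw [supports_golayCode]
    exact ⟨e.2.2, mem_codeList_of_inCode h3, rfl⟩
  obtain ⟨g, hg⟩ := exists_mono _ hσ _ hc
  refine ⟨g, fun v => ?_⟩
  rw [hg v]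
  funext q
  have hinv : (toGP (toPerm 24 e.1)).symm q = toGP (toPerm 24 e.2.1) q := by
    rw [Equiv.symm_apply_eq]
    apply enc.injective
    apply Fin.ext
    rw [enc_toGP, hr, enc_toGP, hr']
    simp only [genOk, List.all_eq_true, List.mem_range, Bool.and_eq_true, decide_eq_true_eq,
      beq_iff_eq] at h1'
    exact ((h1' (enc q) (enc q).isLt).2).symm
  have hl : (listOf (v : GolayPt → ℤ)).getD (app e.2.1 (enc q)) 0
      = (v : GolayPt → ℤ) (toGP (toPerm 24 e.2.1) q) := by
    rw [← hr' (enc q), listOf_getD, toGP_apply]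
  show signedPerm _ _ _ q = (actMono e (listOf (v : GolayPt → ℤ))).getD (enc q) 0
  rw [actMono, List.getD_eq_getElem?_getD, List.getElem?_map,
    List.getElem?_eq_getElem (by simp [(enc q).isLt]), Option.map_some, Option.getD_some,
    List.getElem_finRange]
  simp only [signedPerm, mem_setOf24, hinv, Fin.cast_mk, Fin.eta, hl]

/-- The sextet map on coordinate lists. -/
def actXi (l : List ℤ) : List ℤ := listOf (Cfsg.Agent.Lib.ThreeTransp.xiFun (vecOf l))

/-- A word in the monomial elements and the sextet map, applied right to left. -/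
def actWord (gens : List MGen) : List (Option ℕ) → List ℤ → List ℤ
  | [], l => l
  | none :: w, l => actXi (actWord gens w l)
  | some j :: w, l => actMono (gens.getD j (0, 0, 0)) (actWord gens w l)

/-- All letters of a word name valid elements. -/
def wordGood (gens : List MGen) (w : List (Option ℕ)) : Bool :=
  w.all fun o => match o with
    | none => true
    | some j => decide (j < gens.length)

theorem exists_word {gens : List MGen} (hg : gens.all genGood = true) :
    ∀ {w : List (Option ℕ)}, wordGood gens w = true →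
    ∃ g : ↥Co0, ∀ v : ↥leechLattice, listOf ((g • v : ↥leechLattice) : GolayPt → ℤ)
      = actWord gens w (listOf (v : GolayPt → ℤ))
  | [], _ => ⟨1, fun v => by rw [one_smul]; rfl⟩
  | none :: w, h => by
    simp only [wordGood, List.all_cons, Bool.true_and] at h
    obtain ⟨g, hgw⟩ := exists_word hg (w := w) h
    obtain ⟨ξ, hξ⟩ := Cfsg.Agent.Lib.ThreeTransp.exists_co0_xi
    refine ⟨ξ * g, fun v => ?_⟩
    show _ = actXi (actWord gens w _)
    rw [mul_smul, hξ (g • v), ← hgw v, actXi, vecOf_listOf]
    rfl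
  | some j :: w, h => by
    simp only [wordGood, List.all_cons, Bool.and_eq_true, decide_eq_true_eq] at h
    obtain ⟨g, hgw⟩ := exists_word hg (w := w) h.2
    have hj : genGood (gens.getD j (0, 0, 0)) = true := by
      rw [List.getD_eq_getElem _ _ h.1]
      exact List.all_eq_true.mp hg _ (List.getElem_mem h.1)
    obtain ⟨e, he⟩ := exists_gen hj
    refine ⟨e * g, fun v => ?_⟩
    show _ = actMono _ (actWord gens w _)
    rw [mul_smul, he (g • v), ← hgw v]
    have hlen : ∀ (e : MGen) (l : List ℤ), listOf (vecOf (actMono e l)) = actMono e l := fun e l => by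
      refine List.ext_getElem (by simp [listOf, actMono]) fun i h1 h2 => ?_
      have hi : i < 24 := by simpa [listOf] using h1
      simp only [listOf, List.getElem_map, List.getElem_finRange, vecOf, Equiv.apply_symm_apply,
        Fin.cast_mk]
      rw [List.getD_eq_getElem _ _ h2]
    exact hlen _ _

end Cfsg.Agent.Lib.Leech
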