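import Cfsg.Agent.Lib.Leech.Elem

/-!
Counting lattice vectors of given squared length with several prescribed additive invariants, by a
pruned search in one code word of each kind.
-/

set_option autoImplicit false

namespace Cfsg.Agent.Lib.Leech

open Cfsg
open Cfsg.Agent.Lib.Compute

/-- The state after choosing one coordinate value. -/
def dec (ds : List ℤ) (g : List ℤ) : List ℤ := List.zipWith (fun d a => d - a) ds g

/-- The search without pruning. -/
def cntRef : List (List (ℤ × List ℤ)) → ℤ → List ℤ → ℤ → ℕ
  | [], q, ds, s => if q = 0 ∧ (∀ d ∈ ds, d = 0) ∧ s % 8 = 0 then 1 else 0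
  | a :: l, q, ds, s => (a.map fun e => cntRef l (q - e.1 * e.1) (dec ds e.2) (s - e.1)).sum

/-- A lower bound for the squares still to be spent. -/
def minRest : List (List (ℤ × List ℤ)) → ℤ
  | [] => 0
  | a :: l => (if a.any (fun e => e.1 == 0) then 0 else 1) + minRest l

/-- The pruned search. -/
def cntFast : List (List (ℤ × List ℤ)) → ℤ → List ℤ → ℤ → ℕ
  | [], q, ds, s => if q == 0 && ds.all (fun d => d == 0) && s % 8 == 0 then 1 else 0
  | a :: l, q, ds, s =>
    if q < minRest (a :: l) then 0
    else (a.map fun e => cntFast l (q - e.1 * e.1) (dec ds e.2) (s - e.1)).sum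

theorem cntRef_eq_zero : ∀ (l : List (List (ℤ × List ℤ))) (q : ℤ) (ds : List ℤ) (s : ℤ),
    q < minRest l → cntRef l q ds s = 0
  | [], q, ds, s, h => by
    simp only [minRest] at h
    rw [cntRef, if_neg (fun hh => by omega)]
  | a :: l, q, ds, s, h => by
    rw [cntRef]
    refine List.sum_eq_zero fun n hn => ?_
    obtain ⟨e, he, rfl⟩ := List.mem_map.mp hn
    refine cntRef_eq_zero l _ _ _ ?_
    simp only [minRest] at h
    split_ifs at h with hz
    · nlinarith
    · have hne : e.1 ≠ 0 := fun e0 => hz (List.any_eq_true.mpr ⟨e, he, by rw [e0]; rfl⟩)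
      have : 1 ≤ e.1 * e.1 := by
        rcases Int.lt_or_gt_of_ne hne with h1 | h1 <;> nlinarith
      omega

theorem cntFast_eq : ∀ (l : List (List (ℤ × List ℤ))) (q : ℤ) (ds : List ℤ) (s : ℤ),
    cntFast l q ds s = cntRef l q ds s
  | [], q, ds, s => by
    simp only [cntFast, cntRef, Bool.and_eq_true, beq_iff_eq, List.all_eq_true, and_assoc]
  | a :: l, q, ds, s => by
    rw [cntFast]
    split_ifs with h
    · exact (cntRef_eq_zero _ _ _ _ h).symm
    · rw [cntRef]
      exact congrArg List.sum (List.map_congr_left fun e _ => cntFast_eq l _ _ _)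

theorem dec_comm : ∀ ds a b : List ℤ, dec (dec ds a) b = dec (dec ds b) a
  | [], a, b => by simp [dec]
  | d :: ds, a, b => by
    rcases a with _ | ⟨x, a⟩ <;> rcases b with _ | ⟨y, b⟩ <;> simp [dec]
    exact ⟨by ring, dec_comm ds a b⟩

theorem cntRef_perm {l l' : List (List (ℤ × List ℤ))} (h : l.Perm l') :
    ∀ q ds s, cntRef l q ds s = cntRef l' q ds s := by
  induction h with
  | nil => intros; rfl
  | cons a _ ih =>
    intro q ds s
    exact congrArg List.sum (List.map_congr_left fun e _ => ih _ _ _)
  | swap a b l =>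
    intro q ds s
    simp only [cntRef]
    induction b with
    | nil => simp
    | cons e b ih =>
      simp only [List.map_cons, List.sum_cons, ih]
      rw [← List.sum_map_add]
      refine congrArg List.sum (List.map_congr_left fun f _ => ?_)
      rw [dec_comm, sub_right_comm q, sub_right_comm s]
  | trans _ _ ih₁ ih₂ => intro q ds s; rw [ih₁, ih₂]

/-- The invariants of a coordinate function. -/
def invSum (k : ℕ) {ι : Type*} [Fintype ι] (G : ι → List ℤ) : List ℤ :=
  (List.range k).map fun j => ∑ i, (G i).getD j 0

theorem cntRef_card : ∀ (n : ℕ) (A : Fin n → List ℤ) (G : Fin n → ℤ → List ℤ)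
    (_ : ∀ i, (A i).Nodup) (q : ℤ) (ds : List ℤ) (s : ℤ)
    (_ : ∀ i, ∀ a ∈ A i, (G i a).length = ds.length),
    cntRef (List.ofFn fun i => (A i).map fun a => (a, G i a)) q ds s
      = ((Fintype.piFinset fun i => (A i).toFinset).filter fun f =>
          (∑ i, f i * f i) = q ∧ invSum ds.length (fun i => G i (f i)) = ds ∧ (∑ i, f i) % 8 = s % 8).card := by
  intro n
  induction n with
  | zero =>
    intro A G _ q ds s _
    rw [List.ofFn_zero, cntRef]
    have e : (Fintype.piFinset fun i : Fin 0 => (A i).toFinset) = Finset.univ := by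
      ext f; simp only [Fintype.mem_piFinset, Finset.mem_univ, iff_true]; exact fun i => i.elim0
    have e2 : invSum ds.length (fun i : Fin 0 => G i 0) = List.replicate ds.length 0 := by
      simp [invSum, List.map_const']
    rw [e]
    by_cases h : q = 0 ∧ (∀ d ∈ ds, d = 0) ∧ s % 8 = 0
    · rw [if_pos h, Finset.filter_true_of_mem]
      · rfl
      · intro f _
        refine ⟨by simp [h.1], ?_, by simp [h.2.2]⟩
        rw [show (fun i : Fin 0 => G i (f i)) = fun i => G i 0 from funext fun i => i.elim0, e2]
        exact (List.eq_replicate_iff.mpr ⟨rfl, h.2.1⟩).symm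
    · rw [if_neg h, Finset.filter_false_of_mem]
      · rfl
      · rintro f - ⟨h1, h2, h3⟩
        rw [show (fun i : Fin 0 => G i (f i)) = fun i => G i 0 from funext fun i => i.elim0, e2] at h2
        refine h ⟨by simpa using h1.symm, fun d hd => (List.eq_replicate_iff.mp h2.symm).2 d hd, ?_⟩
        simpa using h3.symm
  | succ n ih =>
    intro A G hA q ds s hG
    rw [List.ofFn_succ, cntRef, List.map_map]
    have hstep : ∀ a ∈ A 0, (dec ds (G 0 a)).length = ds.length := fun a ha => by
      simp [dec, hG 0 a ha]
    rw [List.map_congr_left (g := fun a =>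
      ((Fintype.piFinset fun i : Fin n => (A i.succ).toFinset).filter fun f =>
        (∑ i, f i * f i) = q - a * a ∧
          invSum ds.length (fun i => G i.succ (f i)) = dec ds (G 0 a) ∧ (∑ i, f i) % 8 = (s - a) % 8).card)
      (fun a ha => by
        simp only [Function.comp_apply]
        rw [ih (fun i => A i.succ) (fun i => G i.succ) (fun i => hA _) _ _ _
          (fun i b hb => by rw [hstep a ha]; exact hG _ b hb), hstep a ha]),
      ← List.sum_toFinset _ (hA 0), ← Finset.card_sigma]
    refine Finset.card_bij' (fun p _ => Fin.cons p.1 p.2) (fun f _ => ⟨f 0, Fin.tail f⟩) ?_ ?_ ?_ ?_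
    · rintro ⟨a, f⟩ hp
      simp only [Finset.mem_sigma, Finset.mem_filter, Fintype.mem_piFinset, List.mem_toFinset] at hp ⊢
      obtain ⟨ha, hf, h1, h2, h3⟩ := hp
      refine ⟨Fin.cases (by simpa using ha) (fun i => by simpa using hf i), ?_, ?_, ?_⟩
      · simp [Fin.sum_univ_succ, h1]
      · have hl := hG 0 a ha
        refine List.ext_getElem (by simp [invSum]) fun j hj1 hj2 => ?_
        have hj : j < ds.length := by simpa [invSum] using hj1
        have hj0 : j < (G 0 a).length := by rw [hl]; exact hj
        have hg : (G 0 a)[j]? = some (G 0 a)[j] := List.getElem?_eq_getElem hj0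
        have := congrArg (fun l => l.getD j 0) h2
        simp only [invSum, dec, List.getD_eq_getElem?_getD, List.getElem?_map, List.getElem?_range hj,
          Option.map_some, Option.getD_some, List.getElem?_zipWith, List.getElem?_eq_getElem hj, hg] at this
        simp only [invSum, List.getElem_map, List.getElem_range, Fin.sum_univ_succ, Fin.cons_zero, Fin.cons_succ,
          List.getD_eq_getElem?_getD, hg, Option.getD_some]
        linarith
      · simp [Fin.sum_univ_succ]
        omega
    · intro f hf
      simp only [Finset.mem_sigma, Finset.mem_filter, Fintype.mem_piFinset, List.mem_toFinset] at hf ⊢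
      obtain ⟨hf, h1, h2, h3⟩ := hf
      refine ⟨hf 0, fun i => hf i.succ, ?_, ?_, ?_⟩
      · rw [Fin.sum_univ_succ] at h1
        simp only [Fin.tail]
        linarith
      · have hl := hG 0 _ (hf 0)
        refine List.ext_getElem (by simp [invSum, dec, hl]) fun j hj1 hj2 => ?_
        have hj : j < ds.length := by simpa [invSum] using hj1
        have := congrArg (fun l => l.getD j 0) h2
        simp only [invSum, List.getD_eq_getElem?_getD, List.getElem?_map, List.getElem?_range hj,
          Option.map_some, Option.getD_some, List.getElem?_eq_getElem hj, Fin.sum_univ_succ] at this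
        simp only [invSum, dec, List.getElem_map, List.getElem_range, List.getElem_zipWith, Fin.tail,
          List.getD_eq_getElem?_getD]
        rw [List.getElem?_eq_getElem (l := G 0 (f 0)) (by omega), Option.getD_some] at this
        linarith
      · rw [Fin.sum_univ_succ] at h3
        simp only [Fin.tail]
        omega
    · rintro ⟨a, f⟩ -
      simp
    · intro f _
      exact Fin.cons_self_tail f

/-- The search input for one parity and one word. -/
def coordsOf (G : ℕ → ℤ → List ℤ) (p : ℕ) (l : List (ℕ × Bool)) : List (List (ℤ × List ℤ)) :=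
  l.map fun jb => ((vals p jb.2).map fun a => (a, G jb.1 a))

/-- The number of vectors for the representative words. -/
def enumTotal (G : ℕ → ℤ → List ℤ) (cl : Fin 24 → ℕ) (N : ℤ) (ds : List ℤ) (hist : List (ℕ × ℕ)) : ℕ :=
  (hist.map fun e => e.2 * (cntFast (coordsOf G 0 (pairs cl e.1)) N ds 0
    + cntFast (coordsOf G 1 (pairs cl e.1)) N ds 4)).sum

/-- The invariants have the stated length. -/
def lenOk (G : ℕ → ℤ → List ℤ) (cl : Fin 24 → ℕ) (k : ℕ) : Bool :=
  (List.finRange 24).all fun i : Fin 24 => [0, 1].all fun p => [true, false].all fun b =>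
    (vals p b).all fun a => (G (cl i) a).length == k

theorem ncard_eq_enum (G : ℕ → ℤ → List ℤ) (cl : Fin 24 → ℕ) (nc : ℕ) (N : ℕ) (hN : N ≤ 64) (ds : List ℤ)
    (hist : List (ℕ × ℕ)) (hok : histOk cl nc hist = true) (hlen : lenOk G cl ds.length = true) :
    {x : GolayPt → ℤ | x ∈ leechLattice ∧ sqNorm x = N ∧
      invSum ds.length (fun q => G (cl (enc q)) (x q)) = ds}.ncard = enumTotal G cl N ds hist := by
  classical
  simp only [histOk, Bool.and_eq_true, decide_eq_true_eq, List.all_eq_true, beq_iff_eq,
    List.contains_iff_mem] at hok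
  obtain ⟨⟨⟨hcl0, hn⟩, hc⟩, hcov⟩ := hok
  have hcl : ∀ i, cl i < nc := fun i => hcl0 i (List.mem_finRange i)
  simp only [lenOk, List.all_eq_true, beq_iff_eq] at hlen
  let piece2 : ℕ → ℕ → Finset (GolayPt → ℤ) := fun p m =>
    (Fintype.piFinset fun q => (vals p (m.testBit (enc q))).toFinset).filter fun x =>
      (∑ q, x q * x q) = N ∧ invSum ds.length (fun q => G (cl (enc q)) (x q)) = ds ∧
        (∑ q, x q) % 8 = 4 * (p : ℤ)
  have hpiece : ∀ p < 2, ∀ m, (piece2 p m).card
      = cntFast (coordsOf G p (pairs cl m)) N ds (4 * (p : ℤ)) := by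
    intro p hp m
    rw [cntFast_eq]
    have e : coordsOf G p (pairs cl m) = List.ofFn fun i : Fin 24 =>
        (vals p (m.testBit i)).map fun a => (a, G (cl i) a) := by
      rw [coordsOf, pairs, List.map_map, ← List.ofFn_eq_map]
      rfl
    rw [e, cntRef_card 24 (fun i => vals p (m.testBit i)) (fun i => G (cl i)) (fun i => vals_nodup _ _) _ _ _
      (fun i a ha => hlen i (List.mem_finRange i) p (by interval_cases p <;> simp) (m.testBit i)
        (by cases m.testBit i <;> simp) a ha)]
    refine Finset.card_bij' (fun x _ => fun i => x (enc.symm i)) (fun f _ => fun q => f (enc q)) ?_ ?_ ?_ ?_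
    · intro x hx
      simp only [piece2, Finset.mem_filter, Fintype.mem_piFinset] at hx ⊢
      obtain ⟨hA, h1, h2, h3⟩ := hx
      refine ⟨fun i => by simpa using hA (enc.symm i), ?_, ?_, ?_⟩
      · rw [← h1, ← Equiv.sum_comp enc.symm]
      · refine Eq.trans ?_ h2
        refine List.map_congr_left fun j _ => ?_
        rw [← Equiv.sum_comp enc.symm (fun q => (G (cl (enc q)) (x q)).getD j 0)]
        simp only [Equiv.apply_symm_apply]
      · rw [← Equiv.sum_comp enc.symm] at h3
        omega
    · intro f hf
      simp only [piece2, Finset.mem_filter, Fintype.mem_piFinset] at hf ⊢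
      obtain ⟨hA, h1, h2, h3⟩ := hf
      refine ⟨fun q => hA (enc q), ?_, ?_, ?_⟩
      · rw [← h1, ← Equiv.sum_comp enc]
      · refine Eq.trans ?_ h2
        refine List.map_congr_left fun j _ => ?_
        exact Equiv.sum_comp enc (fun i => (G (cl i) (f i)).getD j 0)
      · rw [← Equiv.sum_comp enc] at h3
        omega
    · intro x _; funext q; simp
    · intro f _; funext i; simp
  have hset : {x : GolayPt → ℤ | x ∈ leechLattice ∧ sqNorm x = N ∧
      invSum ds.length (fun q => G (cl (enc q)) (x q)) = ds}
        = ↑((Finset.range 2 ×ˢ codeList.toFinset).biUnion fun pm => piece2 pm.1 pm.2) := by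
    ext x
    have hsq : (∑ q, x q * x q) = sqNorm x := Finset.sum_congr rfl fun q _ => (pow_two _).symm
    simp only [Set.mem_ofPred_eq, Finset.mem_coe, Finset.mem_biUnion, Finset.mem_product, Finset.mem_range,
      List.mem_toFinset, piece2, Finset.mem_filter, Fintype.mem_piFinset, Prod.exists, hsq]
    constructor
    · rintro ⟨hx, hs, hI⟩
      obtain ⟨p, hp, m, hm, h4, h8⟩ := form_of_lattice hx
      exact ⟨p, m, ⟨hp, hm⟩, fun q => (mem_vals hp).mpr ⟨coord_sq_le hs (by exact_mod_cast hN) q, h4 q⟩,
        hs, hI, h8⟩
    · rintro ⟨p, m, ⟨hp, hm⟩, hv, hs, hI, h8⟩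
      exact ⟨lattice_of_form hp hm (fun q => ((mem_vals hp).mp (hv q)).2) h8, hs, hI⟩
  rw [hset, Set.ncard_coe_finset, Finset.card_biUnion]
  · rw [Finset.sum_product, Finset.sum_range_succ, Finset.sum_range_one, ← Finset.sum_add_distrib,
      List.sum_toFinset _ (nodup_of_incr codeList_incr)]
    have hperm : ∀ m m', classKey cl nc m = classKey cl nc m' → ∀ p s,
        cntFast (coordsOf G p (pairs cl m)) N ds s = cntFast (coordsOf G p (pairs cl m')) N ds s :=
      fun m m' h p s => by
        rw [cntFast_eq, cntFast_eq]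
        exact cntRef_perm ((pairs_perm hcl h).map _) _ _ _
    rw [sum_hist (classKey cl nc)
      (fun k => match hist.find? (fun e => classKey cl nc e.1 == k) with
        | some e => cntFast (coordsOf G 0 (pairs cl e.1)) N ds 0 + cntFast (coordsOf G 1 (pairs cl e.1)) N ds 4
        | none => 0) _ codeList hist ?_ hn hc hcov]
    · refine congrArg List.sum (List.map_congr_left fun e he => ?_)
      obtain ⟨e', he'⟩ := Option.isSome_iff_exists.mp
        (List.find?_isSome (p := fun d => classKey cl nc d.1 == classKey cl nc e.1) (xs := hist) |>.mpr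
          ⟨e, he, beq_self_eq_true _⟩)
      simp only [he']
      have hk : classKey cl nc e'.1 = classKey cl nc e.1 := by
        have h1 := List.find?_some he'
        exact beq_iff_eq.mp h1
      rw [hperm _ _ hk, hperm _ _ hk]
    · intro m hm
      rw [hpiece 0 (by norm_num) m, hpiece 1 (by norm_num) m]
      obtain ⟨e, he, hk⟩ := List.mem_map.mp (hcov m hm)
      obtain ⟨e', he'⟩ := Option.isSome_iff_exists.mp
        (List.find?_isSome (p := fun d => classKey cl nc d.1 == classKey cl nc m) (xs := hist) |>.mpr
          ⟨e, he, beq_iff_eq.mpr hk⟩)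
      simp only [he']
      have hk' : classKey cl nc e'.1 = classKey cl nc m := by
        have h1 := List.find?_some he'
        exact beq_iff_eq.mp h1
      rw [hperm _ _ hk', hperm _ _ hk']
      norm_num
  · rintro ⟨p, m⟩ hpm ⟨p', m'⟩ hpm' hne
    simp only [Finset.mem_coe, Finset.mem_product, Finset.mem_range, List.mem_toFinset] at hpm hpm'
    refine Finset.disjoint_left.mpr fun x h1 h2 => hne ?_
    simp only [piece2, Finset.mem_filter, Fintype.mem_piFinset, List.mem_toFinset] at h1 h2
    obtain rfl : p = p' := by
      have := h1.2.2.2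
      have := h2.2.2.2
      omega
    refine Prod.ext rfl (setOf24_injOn (lt_of_mem_codeList hpm.2) (lt_of_mem_codeList hpm'.2) ?_)
    ext q
    have e1 := ((mem_vals hpm.1).mp (h1.1 q)).2
    have e2 := ((mem_vals hpm'.1).mp (h2.1 q)).2
    rw [mem_setOf24, mem_setOf24]
    have hp := hpm.1
    interval_cases p <;> cases hb : m.testBit (enc q) <;> cases hb' : m'.testBit (enc q) <;>
      simp_all [res]

/-- The invariants given by inner products with fixed coordinate lists. -/
theorem invSum_dots (G : ℕ → ℤ → List ℤ) (cl : Fin 24 → ℕ) (F : List (List ℤ))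
    (h : ∀ (i : Fin 24) (a : ℤ), G (cl i) a = F.map fun f => f.getD i 0 * a) (x : GolayPt → ℤ) :
    invSum F.length (fun q => G (cl (enc q)) (x q)) = F.map fun f => dotInt (vecOf f) x := by
  refine List.ext_getElem (by simp [invSum]) fun j h1 h2 => ?_
  have hj : j < F.length := by simpa [invSum] using h1
  simp only [invSum, List.getElem_map, List.getElem_range, dotInt, vecOf, h]
  refine Finset.sum_congr rfl fun q _ => ?_
  rw [List.getD_eq_getElem _ _ (by simpa using hj), List.getElem_map]

end Cfsg.Agent.Lib.Leech
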