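import Cfsg.Agent.Lib.Leech.CrossSub

/-!
# The three shapes of shortest vectors are the orbits of the frame group
-/

set_option autoImplicit false

namespace Cfsg.Agent.Lib.Leech

open Cfsg Equiv Cfsg.Agent.Lib.Compute
open scoped Pointwise

/-- The last point. -/
abbrev pA : GolayPt := enc.symm 23

/-- The first point. -/
abbrev pB : GolayPt := enc.symm 0

/-- The points of the base octad. -/
def octPts : List ℕ := [0, 2, 4, 5, 6, 10, 11, 23]

theorem octPts_ok : octPts.length = 8 ∧ inCode 0x800c75 = true ∧ pop 0x800c75 = 8 ∧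
    ((List.range 24).all fun i => (0x800c75 : ℕ).testBit i == octPts.contains i) = true := by
  decide +kernel

/-- The points of the base octad, indexed. -/
def octIdx : Fin 8 → Fin 24 := ![0, 2, 4, 5, 6, 10, 11, 23]

/-- Code words realising all patterns on two points. -/
def pairWords : List ℕ := [0x0, 0xffffff, 0x6fdd, 0xff9022, 0x39cf3, 0xfc630c, 0x1ca17b, 0xe35e84, 0x241a1a, 0x5241a1, 0x89a444]

/-- Code words realising the patterns on the base octad. -/
def signWords : List ℕ := [0x0, 0x149f, 0x293e, 0x3da1, 0x46e3, 0x527c, 0x6fdd, 0x7b42, 0x8dc6, 0x9959, 0xa4f8, 0xb067, 0xcb25, 0xdfba, 0xe21b, 0xf684, 0x10f13, 0x11b8c, 0x1262d, 0x132b2, 0x149f0, 0x15d6f, 0x160ce, 0x17451, 0x182d5, 0x1964a, 0x1abeb, 0x1bf74, 0x1c436, 0x1d0a9, 0x1ed08, 0x1f997, 0x20ab9, 0x21e26, 0x22387, 0x23718, 0x24c5a, 0x258c5, 0x26564, 0x271fb, 0x2877f, 0x293e0, 0x2ae41, 0x2bade, 0x2c19c, 0x2d503, 0x2e8a2, 0x2fc3d, 0x305aa, 0x31135, 0x32c94, 0x3380b, 0x34349, 0x357d6, 0x36a77, 0x37ee8, 0x3886c,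 0x39cf3, 0x3a152, 0x3b5cd, 0x3ce8f, 0x3da10, 0x3e7b1, 0x3f32e, 0x800c75, 0x8018ea, 0x80254b, 0x8031d4, 0x804a96, 0x805e09, 0x8063a8, 0x807737, 0x8081b3, 0x80952c, 0x80a88d, 0x80bc12, 0x80c750, 0x80d3cf, 0x80ee6e, 0x80faf1, 0x810366, 0x8117f9, 0x812a58, 0x813ec7, 0x814585, 0x81511a, 0x816cbb, 0x817824, 0x818ea0, 0x819a3f, 0x81a79e, 0x81b301, 0x81c843, 0x81dcdc, 0x81e17d, 0x81f5e2, 0x8206cc, 0x821253, 0x822ff2, 0x823b6d, 0x82402f, 0x8254b0, 0x826911, 0x827d8e, 0x828b0a, 0x829f95, 0x82a234, 0x82b6ab, 0x82cde9, 0x82d976, 0x82e4d7, 0x82f048, 0x8309df, 0x831d40, 0x8320e1, 0x83347e, 0x834f3c, 0x835ba3, 0x836602, 0x83729d, 0x838419, 0x839086, 0x83ad27, 0x83b9b8, 0x83c2fa, 0x83d665, 0x83ebc4, 0x83ff5b]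

theorem words_inCode : (pairWords ++ signWords).all inCode = true := by decide +kernel

theorem mem_code_of_words {m : ℕ} (h : m ∈ pairWords ∨ m ∈ signWords) : m ∈ codeList :=
  mem_codeList_of_inCode (List.all_eq_true.1 words_inCode m (List.mem_append.2 h))

theorem pair_patterns : ∀ i j : Fin 24, i ≠ j → ∀ x y : Bool,
    pairWords.any (fun m => (m.testBit i == x) && (m.testBit j == y)) = true := by
  decide +kernel

theorem sign_pattern : ∀ f : Fin 8 → Bool, (∑ i, if f i then (-2 : ℤ) else 2) % 8 = 0 →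
    signWords.any (fun m => decide (∀ i : Fin 8, m.testBit (octIdx i) = f i)) = true := by
  decide +kernel

/-- A monomial element lies in the frame group. -/
theorem exists_mono_crossGrp {π : Perm GolayPt} (hπ : π ∈ M24) {c : Finset GolayPt}
    (hc : c ∈ supports (golayCode : Set (GolayPt → ZMod 2))) :
    ∃ g ∈ crossGrp, ∀ v : ↥leechLattice,
      ((g • v : ↥leechLattice) : GolayPt → ℤ) = signedPerm π c (v : GolayPt → ℤ) := by
  obtain ⟨g, hg⟩ := exists_mono π hπ c hc
  exact ⟨g, mem_crossGrp.2 fun i => preserves_of_signedPerm g π c hg (eightAt i) ⟨i, 8, Or.inl rfl, rfl⟩, hg⟩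

/-- The shortest vectors. -/
def minVecs : Set ↥leechLattice := {v | sqNorm (v : GolayPt → ℤ) = 32}

/-- Those with all entries divisible by four. -/
def minFour : Set ↥leechLattice := {v | v ∈ minVecs ∧ ∀ q, (4 : ℤ) ∣ (v : GolayPt → ℤ) q}

/-- Those with odd entries. -/
def minOdd : Set ↥leechLattice := {v | v ∈ minVecs ∧ ∀ q, (v : GolayPt → ℤ) q % 2 = 1}

/-- The others. -/
def minTwo : Set ↥leechLattice :=
  {v | v ∈ minVecs ∧ (∀ q, (2 : ℤ) ∣ (v : GolayPt → ℤ) q) ∧ ∃ q, (v : GolayPt → ℤ) q % 4 = 2}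

theorem finite_minVecs : minVecs.Finite := finite_norm' 32

theorem ncard_minVecs : minVecs.ncard = 196560 := by
  rw [← ncard_min, ← Set.ncard_image_of_injective minVecs Subtype.val_injective]
  congr 1
  ext x
  exact ⟨fun ⟨y, hy, e⟩ => e ▸ ⟨y.2, hy⟩, fun h => ⟨⟨x, h.1⟩, h.2, rfl⟩⟩

theorem min_cases {v : ↥leechLattice} (hv : v ∈ minVecs) : v ∈ minFour ∨ v ∈ minOdd ∨ v ∈ minTwo := by
  obtain ⟨p, hp, m, -, h4, -⟩ := form_of_lattice v.2
  interval_cases p
  · by_cases h : ∃ q, (v : GolayPt → ℤ) q % 4 = 2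
    · refine Or.inr (Or.inr ⟨hv, fun q => ?_, h⟩)
      have := h4 q
      unfold res at this
      split_ifs at this <;> omega
    · refine Or.inl ⟨hv, fun q => ?_⟩
      push Not at h
      have := h4 q
      have := h q
      unfold res at *
      split_ifs at * <;> omega
  · refine Or.inr (Or.inl ⟨hv, fun q => ?_⟩)
    have := h4 q
    unfold res at this
    split_ifs at this <;> omega

theorem minFour_not_odd {v : ↥leechLattice} (h : v ∈ minFour) : v ∉ minOdd := fun h' => by
  have := h.2 pA; have := h'.2 pA; omega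

theorem minTwo_not {v : ↥leechLattice} (h : v ∈ minTwo) : v ∉ minFour ∧ v ∉ minOdd :=
  ⟨fun h' => by
    obtain ⟨q, hq⟩ := h.2.2
    have := h'.2 q; omega,
  fun h' => by have := h.2.1 pA; have := h'.2 pA; omega⟩

/-- Vectors `±4` on two points. -/
theorem fourPair_mem {a b : GolayPt} (hab : a ≠ b) {s t : ℤ} (hs : s = 4 ∨ s = -4) (ht : t = 4 ∨ t = -4) :
    (Pi.single a s + Pi.single b t : GolayPt → ℤ) ∈ leechLattice := by
  refine lattice_of_form (p := 0) (m := 0) (by norm_num) (mem_codeList_of_inCode (by decide +kernel))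
    (fun q => ?_) ?_
  · rw [Nat.zero_testBit, Pi.add_apply]
    unfold res
    simp only [Pi.single_apply, Bool.false_eq_true, if_false]
    split_ifs <;> omega
  · simp only [Pi.add_apply, Finset.sum_add_distrib, Finset.sum_pi_single', Finset.mem_univ, if_true]
    omega

theorem sqNorm_fourPair {a b : GolayPt} (hab : a ≠ b) {s t : ℤ} (hs : s = 4 ∨ s = -4) (ht : t = 4 ∨ t = -4) :
    sqNorm (Pi.single a s + Pi.single b t : GolayPt → ℤ) = 32 := by
  have h : ∀ q, (Pi.single a s + Pi.single b t : GolayPt → ℤ) q ^ 2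
      = (Pi.single a (s ^ 2) : GolayPt → ℤ) q + (Pi.single b (t ^ 2) : GolayPt → ℤ) q := fun q => by
    simp only [Pi.add_apply, Pi.single_apply]
    split_ifs with h1 h2 <;> first | (exact absurd (h1.symm.trans h2) hab) | ring
  simp only [sqNorm, h, Finset.sum_add_distrib, Finset.sum_pi_single', Finset.mem_univ, if_true]
  rcases hs with rfl | rfl <;> rcases ht with rfl | rfl <;> norm_num

/-- A vector of shape four is supported on two points. -/
theorem minFour_shape {v : ↥leechLattice} (h : v ∈ minFour) : ∃ (a b : GolayPt) (s t : ℤ), a ≠ b ∧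
    (s = 4 ∨ s = -4) ∧ (t = 4 ∨ t = -4) ∧ (v : GolayPt → ℤ) = Pi.single a s + Pi.single b t := by
  classical
  choose w hw using h.2
  have hs : ∑ q, w q ^ 2 = 2 := by
    have e : sqNorm (v : GolayPt → ℤ) = ∑ q, 16 * w q ^ 2 :=
      Finset.sum_congr rfl fun q _ => by rw [hw q]; ring
    rw [h.1, ← Finset.mul_sum] at e
    linarith
  have hval : ∀ q, w q = 0 ∨ w q = 1 ∨ w q = -1 := fun q => by
    have := Finset.single_le_sum (fun i _ => sq_nonneg (w i)) (Finset.mem_univ q)
    rw [hs] at this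
    have : -1 ≤ w q ∧ w q ≤ 1 := ⟨by nlinarith, by nlinarith⟩
    omega
  have hcard : (Finset.univ.filter fun q => w q ≠ 0).card = 2 := by
    have e : ∀ q, w q ^ 2 = if w q ≠ 0 then (1 : ℤ) else 0 := fun q => by
      rcases hval q with e | e | e <;> simp [e]
    simp only [e, Finset.sum_boole] at hs
    exact_mod_cast hs
  obtain ⟨a, b, hab, hab'⟩ := Finset.card_eq_two.1 hcard
  have hz : ∀ q, w q ≠ 0 ↔ q = a ∨ q = b := fun q => by
    simpa using Finset.ext_iff.1 hab' q
  refine ⟨a, b, 4 * w a, 4 * w b, hab, ?_, ?_, funext fun q => ?_⟩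
  · have := (hz a).2 (Or.inl rfl); rcases hval a with e | e | e <;> omega
  · have := (hz b).2 (Or.inr rfl); rcases hval b with e | e | e <;> omega
  · rw [Pi.add_apply, hw q]
    by_cases ha : q = a
    · subst ha; simp [hab]
    by_cases hb : q = b
    · subst hb; simp [Ne.symm hab]
    have : w q = 0 := by
      by_contra hne
      rcases (hz q).1 hne with e | e <;> contradiction
    simp [ha, hb, this]

theorem ncard_minFour : minFour.ncard = 1104 := by
  classical
  let P := {p : Fin 24 × Fin 24 // p.1 < p.2} × Bool × Bool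
  have hne : ∀ p : P, enc.symm p.1.1.1 ≠ enc.symm p.1.1.2 := fun p e => (ne_of_lt p.1.2) (enc.symm.injective e)
  have hsg : ∀ x : Bool, (if x then (4 : ℤ) else -4) = 4 ∨ (if x then (4 : ℤ) else -4) = -4 := fun x => by
    cases x <;> simp
  let f : P → ↥leechLattice := fun p => ⟨_, fourPair_mem (hne p) (hsg p.2.1) (hsg p.2.2)⟩
  have hrange : minFour = Set.range f := by
    ext v
    constructor
    · intro hv
      obtain ⟨a, b, s, t, hab, hs, ht, e⟩ := minFour_shape hv
      have hb : ∀ u : ℤ, u = 4 ∨ u = -4 → (if decide (u = 4) then (4 : ℤ) else -4) = u := fun u hu => by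
        rcases hu with rfl | rfl <;> decide
      rcases lt_or_gt_of_ne (enc.injective.ne hab) with hlt | hlt
      · exact ⟨(⟨(enc a, enc b), hlt⟩, decide (s = 4), decide (t = 4)), Subtype.ext (by
          simp only [f, Equiv.symm_apply_apply, hb s hs, hb t ht, e])⟩
      · exact ⟨(⟨(enc b, enc a), hlt⟩, decide (t = 4), decide (s = 4)), Subtype.ext (by
          simp only [f, Equiv.symm_apply_apply, hb s hs, hb t ht, e, add_comm])⟩
    · rintro ⟨p, rfl⟩
      refine ⟨sqNorm_fourPair (hne p) (hsg _) (hsg _), fun q => ?_⟩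
      show (4 : ℤ) ∣ (Pi.single _ _ + Pi.single _ _ : GolayPt → ℤ) q
      simp only [Pi.add_apply, Pi.single_apply]
      split_ifs <;> decide
  have hinj : Function.Injective f := by
    rintro ⟨⟨⟨i, j⟩, hij⟩, s, t⟩ ⟨⟨⟨i', j'⟩, hij'⟩, s', t'⟩ e
    have e' : ∀ q, _ = _ := fun q => congrFun (congrArg Subtype.val e) q
    have h1 := e' (enc.symm i)
    have h2 := e' (enc.symm j)
    simp only [f, Pi.add_apply, Pi.single_apply, EmbeddingLike.apply_eq_iff_eq] at h1 h2
    simp only [Fin.lt_def] at hij hij'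
    have hi : i = i' ∧ j = j' := by
      simp only [Fin.ext_iff] at h1 h2 ⊢
      split_ifs at h1 h2 <;> omega
    obtain ⟨rfl, rfl⟩ := hi
    have hne' : i ≠ j := by simp [Fin.ext_iff]; omega
    simp [hne', Ne.symm hne'] at h1 h2
    cases s <;> cases s' <;> cases t <;> cases t' <;> simp_all
  rw [hrange, Set.ncard_range_of_injective hinj, Nat.card_prod, Nat.card_prod, Nat.card_eq_fintype_card,
    Nat.card_eq_fintype_card, Fintype.card_bool, show Fintype.card {p : Fin 24 × Fin 24 // p.1 < p.2} = 276 by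
      decide +kernel]

/-- The sum of a frame pair. -/
noncomputable def vFour : ↥leechLattice :=
  ⟨_, fourPair_mem (show pA ≠ pB by decide) (Or.inl rfl : (4 : ℤ) = 4 ∨ _) (Or.inl rfl : (4 : ℤ) = 4 ∨ _)⟩

theorem vFour_mem : vFour ∈ minFour := by
  refine ⟨sqNorm_fourPair (by decide) (Or.inl rfl) (Or.inl rfl), fun q => ?_⟩
  show (4 : ℤ) ∣ (Pi.single pA 4 + Pi.single pB 4 : GolayPt → ℤ) q
  simp only [Pi.add_apply, Pi.single_apply]
  split_ifs <;> decide

theorem exists_smul_vFour {v : ↥leechLattice} (h : v ∈ minFour) : ∃ g ∈ crossGrp, g • vFour = v := by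
  obtain ⟨a, b, s, t, hab, hs, ht, e⟩ := minFour_shape h
  obtain ⟨π, hπ, hπa, hπb⟩ : ∃ π ∈ M24, π pA = a ∧ π pB = b := by
    have := Cfsg.Agent.Lib.Compute.M24_multiplyPretransitive
    have h2 : MulAction.IsMultiplyPretransitive ↥M24 GolayPt 2 :=
      MulAction.isMultiplyPretransitive_of_le (n := 5) (by norm_num) (by rw [Nat.card_eq_fintype_card]; decide)
    obtain ⟨g, h1, h2'⟩ := MulAction.is_two_pretransitive_iff.1 h2 (show pA ≠ pB by decide) hab
    exact ⟨g, g.2, h1, h2'⟩
  obtain ⟨m, hm, hb⟩ := List.any_eq_true.1 (pair_patterns (enc a) (enc b) (enc.injective.ne hab)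
    (decide (s = -4)) (decide (t = -4)))
  simp only [Bool.and_eq_true, beq_iff_eq] at hb
  obtain ⟨g, hg, hga⟩ := exists_mono_crossGrp hπ (c := setOf24 m) (by rw [supports_golayCode]; exact ⟨m, mem_code_of_words (Or.inl hm), rfl⟩)
  refine ⟨g, hg, Subtype.ext (funext fun q => ?_)⟩
  rw [hga, e]
  show signedPerm π (setOf24 m) (Pi.single pA 4 + Pi.single pB 4) q = _
  have hsy : ∀ x : GolayPt, π.symm q = x ↔ q = π x := fun x => Equiv.symm_apply_eq π
  simp only [signedPerm, Pi.add_apply, Pi.single_apply, mem_setOf24, hsy, hπa, hπb]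
  rcases eq_or_ne q a with rfl | ha
  · rcases hs with rfl | rfl <;> simp [hab, hb.1]
  rcases eq_or_ne q b with rfl | hb'
  · rcases ht with rfl | rfl <;> simp [Ne.symm hab, hb.2]
  simp [ha, hb']

/-- The odd vector with the given signs and special point. -/
def oddFun (c : Finset GolayPt) (a q : GolayPt) : ℤ :=
  if q ∈ c then -(if q = a then -3 else 1) else (if q = a then -3 else 1)

theorem oddBase_mem : oddFun ∅ pA ∈ leechLattice := by
  refine lattice_of_form (p := 1) (m := 0) (by norm_num) (mem_codeList_of_inCode (by decide +kernel))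
    (fun q => ?_) ?_
  · revert q; decide +kernel
  · decide +kernel

/-- The odd base vector. -/
noncomputable def vOdd : ↥leechLattice := ⟨oddFun ∅ pA, oddBase_mem⟩

theorem signedPerm_oddFun (π : Perm GolayPt) (c : Finset GolayPt) :
    signedPerm π c (oddFun ∅ pA) = oddFun c (π pA) := by
  funext q
  simp only [signedPerm, oddFun, Finset.notMem_empty, if_false, Equiv.symm_apply_eq]

theorem sqNorm_oddFun (c : Finset GolayPt) (a : GolayPt) : sqNorm (oddFun c a) = 32 := by
  have e : ∀ q, oddFun c a q ^ 2 = 1 + (Pi.single a 8 : GolayPt → ℤ) q := fun q => by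
    simp only [oddFun, Pi.single_apply]
    split_ifs <;> norm_num
  simp [sqNorm, e, Finset.sum_add_distrib]

theorem minOdd_shape {v : ↥leechLattice} (h : v ∈ minOdd) : ∃ c ∈ supports (golayCode : Set (GolayPt → ZMod 2)),
    ∃ a, (v : GolayPt → ℤ) = oddFun c a := by
  classical
  set x : GolayPt → ℤ := (v : GolayPt → ℤ) with hx
  have hs : ∑ q, (x q ^ 2 - 1) = 8 := by
    have : sqNorm x = 32 := h.1
    rw [sqNorm] at this
    simp [Finset.sum_sub_distrib, this]
  have hnn : ∀ q, 0 ≤ x q ^ 2 - 1 := fun q => by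
    have : x q ≠ 0 := fun e => by have := h.2 q; rw [← hx, e] at this; omega
    have : 1 ≤ x q ^ 2 := by nlinarith [Int.one_le_abs this, sq_abs (x q), abs_nonneg (x q)]
    omega
  have hval : ∀ q, x q = 1 ∨ x q = -1 ∨ x q = 3 ∨ x q = -3 := fun q => by
    have h1 := Finset.single_le_sum (fun i _ => hnn i) (Finset.mem_univ q)
    rw [hs] at h1
    have h2 : -3 ≤ x q ∧ x q ≤ 3 := ⟨by nlinarith, by nlinarith⟩
    have := h.2 q
    rw [← hx] at this
    omega
  have hcard : (Finset.univ.filter fun q => x q ^ 2 ≠ 1).card = 1 := by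
    have e : ∀ q, x q ^ 2 - 1 = 8 * if x q ^ 2 ≠ 1 then 1 else 0 := fun q => by
      rcases hval q with e | e | e | e <;> simp [e]
    rw [Finset.sum_congr rfl fun q _ => e q, ← Finset.mul_sum, Finset.sum_boole] at hs
    omega
  obtain ⟨a, ha⟩ := Finset.card_eq_one.1 hcard
  have hc := v.2
  rw [← SetLike.mem_coe, coe_leechLattice] at hc
  obtain ⟨k, -, -, hcl⟩ := hc
  refine ⟨Finset.univ.filter fun q => x q ≡ 3 [ZMOD 4], hcl 3, a, funext fun q => ?_⟩
  have hq : q = a ↔ x q ^ 2 ≠ 1 := by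
    have := Finset.ext_iff.1 ha q
    simpa using this.symm
  simp only [oddFun, Finset.mem_filter, Finset.mem_univ, true_and, hq, ← hx]
  rcases hval q with e | e | e | e <;> simp [e, Int.ModEq]

theorem vOdd_mem : vOdd ∈ minOdd :=
  ⟨show sqNorm (oddFun ∅ pA) = 32 from sqNorm_oddFun _ _, fun q => by show oddFun ∅ pA q % 2 = 1; simp only [oddFun]; split_ifs <;> decide⟩

theorem exists_smul_vOdd {v : ↥leechLattice} (h : v ∈ minOdd) : ∃ g ∈ crossGrp, g • vOdd = v := by
  obtain ⟨c, hc, a, e⟩ := minOdd_shape h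
  obtain ⟨π, hπ, hπa⟩ := m24_transitive pA a
  obtain ⟨g, hg, hga⟩ := exists_mono_crossGrp hπ hc
  refine ⟨g, hg, Subtype.ext ?_⟩
  rw [hga, e, show ((vOdd : ↥leechLattice) : GolayPt → ℤ) = oddFun ∅ pA from rfl, signedPerm_oddFun, hπa]

theorem ncard_minOdd : minOdd.ncard = 98304 := by
  classical
  let P := {c : Finset GolayPt // c ∈ supports (golayCode : Set (GolayPt → ZMod 2))} × GolayPt
  have hmem : ∀ p : P, oddFun p.1.1 p.2 ∈ leechLattice := fun p => by
    obtain ⟨π, hπ, hπa⟩ := m24_transitive pA p.2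
    obtain ⟨g, -, hga⟩ := exists_mono_crossGrp hπ p.1.2
    rw [← hπa, ← signedPerm_oddFun]
    exact (hga vOdd) ▸ (g • vOdd).2
  let f : P → ↥leechLattice := fun p => ⟨_, hmem p⟩
  have hrange : minOdd = Set.range f := by
    ext v
    constructor
    · intro hv
      obtain ⟨c, hc, a, e⟩ := minOdd_shape hv
      exact ⟨(⟨c, hc⟩, a), Subtype.ext e.symm⟩
    · rintro ⟨p, rfl⟩
      exact ⟨sqNorm_oddFun _ _, fun q => by show oddFun _ _ q % 2 = 1; simp only [oddFun]; split_ifs <;> decide⟩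
  have hinj : Function.Injective f := by
    rintro ⟨⟨c, hc⟩, a⟩ ⟨⟨c', hc'⟩, a'⟩ e
    have e' : ∀ q, oddFun c a q = oddFun c' a' q := fun q => congrFun (congrArg Subtype.val e) q
    have ha : a = a' := by
      by_contra hne
      have := e' a
      simp [oddFun, hne] at this
      split_ifs at this <;> omega
    subst ha
    refine Prod.ext (Subtype.ext (Finset.ext fun q => ?_)) rfl
    have := e' q
    by_cases h1 : q ∈ c <;> by_cases h2 : q ∈ c' <;> simp [oddFun, h1, h2] at this ⊢ <;> split_ifs at this <;> omega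
  rw [hrange, Set.ncard_range_of_injective hinj, Nat.card_prod, Nat.card_eq_fintype_card (α := GolayPt),
    show Fintype.card GolayPt = 24 by decide, show 98304 = 4096 * 24 from rfl, ← card_golayCode]
  congr 1
  refine (Nat.card_eq_of_bijective
    (fun w : ↥golayCode => (⟨support₂ (w : GolayPt → ZMod 2), ⟨w, w.2, rfl⟩⟩ :
      {c : Finset GolayPt // c ∈ supports (golayCode : Set (GolayPt → ZMod 2))})) ⟨?_, ?_⟩).symm
  · intro a b h
    exact Subtype.ext (support₂_injective (congrArg Subtype.val h))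
  · rintro ⟨c, w, hw, rfl⟩
    exact ⟨⟨w, hw⟩, rfl⟩

theorem ncard_minTwo : minTwo.ncard = 97152 := by
  have hf := finite_minVecs
  have e : minVecs = (minFour ∪ minOdd) ∪ minTwo := by
    ext v
    constructor
    · intro h; rcases min_cases h with h | h | h <;> simp [h]
    · rintro ((h | h) | h) <;> exact h.1
  have h1 := ncard_minVecs
  rw [e, Set.ncard_union_eq (Set.disjoint_right.2 fun v h h' => by
      rcases h' with h' | h'
      · exact (minTwo_not h).1 h'
      · exact (minTwo_not h).2 h')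
      ((hf.subset fun v h => h.1).union (hf.subset fun v h => h.1)) (hf.subset fun v h => h.1),
    Set.ncard_union_eq (Set.disjoint_left.2 fun v h => minFour_not_odd h) (hf.subset fun v h => h.1)
      (hf.subset fun v h => h.1), ncard_minFour, ncard_minOdd] at h1
  omega

/-- The base octad. -/
abbrev baseOct : Finset GolayPt := setOf24 0x800c75

theorem baseOct_mem : baseOct ∈ octads := setOf24_mem_octads octPts_ok.2.1 octPts_ok.2.2.1

theorem mem_baseOct {q : GolayPt} : q ∈ baseOct ↔ ∃ i : Fin 8, q = enc.symm (octIdx i) := by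
  revert q
  decide +kernel

theorem octPts_inj : Function.Injective fun i : Fin 8 => enc.symm (octIdx i) := by
  unfold Function.Injective
  decide +kernel

theorem octPts_val : ∀ i : Fin 8, ((octIdx i) : ℕ) = octPts.getD i 0 := by decide +kernel

theorem sum_baseOct (f : GolayPt → ℤ) :
    ∑ q ∈ baseOct, f q = ∑ i : Fin 8, f (enc.symm (octIdx i)) := by
  rw [show baseOct = Finset.univ.image (fun i : Fin 8 => enc.symm (octIdx i)) from
    Finset.ext fun q => by
      rw [mem_baseOct, Finset.mem_image]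
      exact ⟨fun ⟨i, e⟩ => ⟨i, Finset.mem_univ _, e.symm⟩, fun ⟨i, _, e⟩ => ⟨i, e.symm⟩⟩,
    Finset.sum_image fun a _ b _ e => octPts_inj e]

/-- The even base vector. -/
noncomputable def vTwo : ↥leechLattice := ⟨_, two_ind_leech baseOct_mem⟩

theorem minTwo_shape {v : ↥leechLattice} (h : v ∈ minTwo) : ∃ o ∈ octads,
    (∀ q ∈ o, (v : GolayPt → ℤ) q = 2 ∨ (v : GolayPt → ℤ) q = -2) ∧ (∀ q ∉ o, (v : GolayPt → ℤ) q = 0) ∧
    (∑ q ∈ o, (v : GolayPt → ℤ) q) % 8 = 0 := by
  classical
  set x : GolayPt → ℤ := (v : GolayPt → ℤ) with hx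
  obtain ⟨p, hp, m, hm, h4, h8⟩ := form_of_lattice v.2
  rw [← hx] at h4 h8
  obtain ⟨q0, hq0⟩ := h.2.2
  rw [← hx] at hq0
  have hp0 : p = 0 := by
    interval_cases p
    · rfl
    · have := h4 q0; unfold res at this; split_ifs at this <;> omega
  subst hp0
  set o := setOf24 m with ho
  have hq4 : ∀ q, x q % 4 = if q ∈ o then 2 else 0 := fun q => by
    have := h4 q
    unfold res at this
    simp only [ho, mem_setOf24]
    split_ifs at this ⊢ <;> omega
  have hnn : ∀ q, 0 ≤ x q ^ 2 - (if q ∈ o then 4 else 0) := fun q => by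
    have := hq4 q
    split_ifs at this ⊢
    · have : x q ≤ -2 ∨ 2 ≤ x q := by omega
      rcases this with e | e <;> nlinarith
    · nlinarith [sq_nonneg (x q)]
  have hsum : ∑ q, (x q ^ 2 - (if q ∈ o then 4 else 0)) = 32 - 4 * (pop m : ℤ) := by
    have hn : sqNorm x = 32 := h.1
    rw [sqNorm] at hn
    rw [Finset.sum_sub_distrib, hn, Finset.sum_ite_mem, Finset.univ_inter, Finset.sum_const, ho,
      card_setOf24, nsmul_eq_mul]
    ring
  have hpop : pop m = 8 := by
    have h1 := Finset.sum_nonneg fun q (_ : q ∈ Finset.univ) => hnn q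
    rw [hsum] at h1
    have h2 : 0 < pop m := by
      rw [← card_setOf24, Finset.card_pos]
      exact ⟨q0, by
        have := hq4 q0
        rw [← ho]
        split_ifs at this with hh
        · exact hh
        · omega⟩
    rcases pop_of_mem_codeList hm with e | e | e | e | e <;> omega
  have hzero : ∀ q, x q ^ 2 - (if q ∈ o then 4 else 0) = 0 := fun q =>
    (Finset.sum_eq_zero_iff_of_nonneg fun i _ => hnn i).1 (by rw [hsum, hpop]; norm_num) q (Finset.mem_univ q)
  refine ⟨o, ⟨by rw [supports_golayCode]; exact ⟨m, hm, rfl⟩, by rw [ho, card_setOf24, hpop]⟩, fun q hq => ?_, fun q hq => ?_, ?_⟩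
  · have := hzero q
    rw [if_pos hq] at this
    exact sq_eq_sq_iff_eq_or_eq_neg.1 (by linarith : x q ^ 2 = 2 ^ 2)
  · have := hzero q
    rw [if_neg hq, sub_zero] at this
    exact pow_eq_zero_iff (n := 2) (by norm_num) |>.1 this
  · have e : ∑ q ∈ o, x q = ∑ q, x q := Finset.sum_subset (Finset.subset_univ _) fun q _ hq => by
      have := hzero q
      rw [if_neg hq, sub_zero] at this
      exact pow_eq_zero_iff (n := 2) (by norm_num) |>.1 this
    rw [e]
    simpa using h8

theorem vTwo_mem : vTwo ∈ minTwo := by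
  have hcoe : ∀ q, (vTwo : GolayPt → ℤ) q = if q ∈ baseOct then 2 else 0 := fun q => rfl
  refine ⟨?_, fun q => ?_, ?_⟩
  · show sqNorm (vTwo : GolayPt → ℤ) = 32
    rw [sqNorm]
    simp only [hcoe]
    decide +kernel
  · rw [hcoe]; split_ifs <;> decide
  · obtain ⟨q, hq⟩ := Finset.card_pos.1 (show 0 < baseOct.card by rw [baseOct_mem.2]; norm_num)
    exact ⟨q, by rw [hcoe, if_pos hq]; rfl⟩

theorem exists_smul_vTwo {v : ↥leechLattice} (h : v ∈ minTwo) : ∃ g ∈ crossGrp, g • vTwo = v := by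
  obtain ⟨o, ho, hpm, hzero, hsum⟩ := minTwo_shape h
  obtain ⟨π, hπo⟩ := exists_smul_octad baseOct_mem ho
  have hmem : ∀ q, q ∈ o ↔ (π : Perm GolayPt).symm q ∈ baseOct := fun q => by
    rw [← hπo]
    exact Finset.mem_smul_finset.trans ⟨fun ⟨r, hr, e⟩ => by
      rw [← e]; show (π : Perm GolayPt).symm ((π : Perm GolayPt) r) ∈ _; rwa [Equiv.symm_apply_apply],
      fun hr => ⟨_, hr, Equiv.apply_symm_apply _ _⟩⟩
  set f : Fin 8 → Bool := fun i =>
    decide ((v : GolayPt → ℤ) ((π : Perm GolayPt) (enc.symm (octIdx i))) = -2) with hf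
  have hsum' : (∑ i, if f i then (-2 : ℤ) else 2) % 8 = 0 := by
    rw [← hsum, ← hπo]
    congr 1
    rw [show π • baseOct = baseOct.image fun x => (π : Perm GolayPt) x from rfl,
      Finset.sum_image fun a _ b _ e => (π : Perm GolayPt).injective e, sum_baseOct]
    refine Finset.sum_congr rfl fun i _ => ?_
    have hq : (π : Perm GolayPt) (enc.symm (octIdx i)) ∈ o := by
      rw [hmem, Equiv.symm_apply_apply, mem_baseOct]; exact ⟨i, rfl⟩
    show _ = (v : GolayPt → ℤ) ((π : Perm GolayPt) _)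
    rcases hpm _ hq with e | e <;> simp [hf, e]
  obtain ⟨m, hm, hb⟩ := List.any_eq_true.1 (sign_pattern f hsum')
  simp only [decide_eq_true_eq] at hb
  obtain ⟨d, hd, hda⟩ := exists_mono_crossGrp (one_mem _) (c := setOf24 m)
    (by rw [supports_golayCode]; exact ⟨m, mem_code_of_words (Or.inr hm), rfl⟩)
  obtain ⟨g, hg, hga⟩ := exists_mono_crossGrp π.2 (c := ∅) empty_mem_supports
  refine ⟨g * d, mul_mem hg hd, Subtype.ext (funext fun q => ?_)⟩
  rw [mul_smul, hga]
  simp only [signedPerm, Finset.notMem_empty, if_false, hda, Equiv.Perm.one_symm, Equiv.Perm.one_apply]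
  show (if (π : Perm GolayPt).symm q ∈ setOf24 m then -(if _ then (2 : ℤ) else 0) else (if _ then (2 : ℤ) else 0)) = _
  by_cases hq : q ∈ o
  · have hq' := (hmem q).1 hq
    obtain ⟨i, hi⟩ := mem_baseOct.1 hq'
    simp only [hq', if_true]
    have hbit : (π : Perm GolayPt).symm q ∈ setOf24 m ↔ (v : GolayPt → ℤ) q = -2 := by
      rw [mem_setOf24, hi, Equiv.apply_symm_apply, hb i, hf]
      simp [← hi]
    rcases hpm q hq with e | e
    · rw [if_neg (by rw [hbit, e]; decide), e]
    · rw [if_pos (hbit.2 e), e]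
  · rw [hzero q hq, if_neg ((hmem q).not.1 hq)]
    simp

end Cfsg.Agent.Lib.Leech
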