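import Cfsg.Agent.Lib.Leech.OrbitCert

/-!
Orbit certificates that list every vector of a small set: each node is a packed vector and is the
image of its parent under a monomial automorphism fixing the given vectors.
-/

set_option autoImplicit false

namespace Cfsg.Agent.Lib.Leech

open Cfsg
open Cfsg.Agent.Lib.Compute
open Cfsg.Agent.Lib.CosetEnum (Arr allUpTo of_allUpTo)

/-- Packing of a coordinate list: absolute value and sign of each entry. -/
def packL (l : List ℤ) : ℕ := sKey (List.replicate 24 1) l

/-- Sign change of a digit. -/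
def flipDig (d : ℕ) : ℕ := if d % 16 = 0 then d else (d + 16) % 32

/-- The key after a monomial element, with signs. -/
noncomputable def permKeyS (e : MGen) (K : ℕ) : ℕ :=
  force K fun K => force e.2.1 fun P => force e.2.2 fun m => keyFn fun j =>
    force (Nat.mod (Nat.div K (Nat.pow 2 (Nat.mul 5 (Nat.mod (Nat.shiftRight P (Nat.mul 16 j)) 65536)))) 32) fun d =>
      Bool.rec (motive := fun _ => ℕ) d
        (Bool.rec (motive := fun _ => ℕ) (Nat.mod (Nat.add d 16) 32) d (Nat.beq (Nat.mod d 16) 0))
        (Nat.beq (Nat.mod (Nat.shiftRight m j) 2) 1)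

theorem permKeyS_eq (e : MGen) (K : ℕ) :
    permKeyS e K = keyList ((List.finRange 24).map fun i : Fin 24 =>
      if e.2.2.testBit i then flipDig (digit K (app e.2.1 i)) else digit K (app e.2.1 i)) := by
  simp only [permKeyS, force_eq, keyFn_eq]
  refine congrArg keyList (List.map_congr_left fun i _ => ?_)
  show Bool.rec (motive := fun _ => ℕ) (digit K (app e.2.1 i))
    (Bool.rec (motive := fun _ => ℕ) ((digit K (app e.2.1 i) + 16) % 32) (digit K (app e.2.1 i))
      (Nat.beq (digit K (app e.2.1 i) % 16) 0)) (Nat.beq (e.2.2 >>> (i : ℕ) % 2) 1) = _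
  have hbeq : ∀ a b : ℕ, Nat.beq a b = decide (a = b) := fun a b => by
    by_cases h : a = b
    · subst h; simp
    · simp only [h, decide_false]
      exact Bool.eq_false_iff.mpr fun hh => h (Nat.eq_of_beq_eq_true hh)
  rw [hbeq, hbeq, Nat.testBit_eq_decide_div_mod_eq, Nat.shiftRight_eq_div_pow]
  by_cases h1 : e.2.2 / 2 ^ (i : ℕ) % 2 = 1
  · by_cases h2 : digit K (app e.2.1 i) % 16 = 0 <;> simp [h1, h2, flipDig]
  · simp [h1]

theorem dig_neg {a : ℤ} (h : a.natAbs < 16) : dig (-a) 1 = flipDig (dig a 1) := by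
  simp only [dig, flipDig, mul_one, Int.natAbs_neg]
  split_ifs <;> omega

theorem packL_actMono {x : GolayPt → ℤ} (hx : ∀ q, (x q).natAbs < 16) {e : MGen} (he : genGood e = true) :
    packL (actMono e (listOf x)) = permKeyS e (packL (listOf x)) := by
  have hlt : ∀ i : Fin 24, app e.2.1 i < 24 := fun i => by
    simp only [genGood, genOk, Bool.and_eq_true, List.all_eq_true, List.mem_range, decide_eq_true_eq] at he
    exact (he.1.1.2 i i.2).1
  have hone : ∀ j, j < 24 → (List.replicate 24 (1 : ℤ)).getD j 0 = 1 := fun j hj => by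
    rw [List.getD_eq_getElem _ _ (by simpa using hj), List.getElem_replicate]
  simp only [packL, sKey, permKeyS_eq]
  refine congrArg keyList (List.map_congr_left fun i _ => ?_)
  have hb : ∀ a ∈ (List.finRange 24).map (fun j : Fin 24 =>
      dig ((listOf x).getD j 0) ((List.replicate 24 (1 : ℤ)).getD j 0)), a < 32 := by
    intro a ha
    obtain ⟨j, -, rfl⟩ := List.mem_map.mp ha
    exact dig_lt (by rw [listOf_getD]; exact hx _)
  rw [digit_keyList _ hb, List.getD_eq_getElem (n := app e.2.1 i) _ _ (by simpa using hlt i)]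
  simp only [List.getElem_map, List.getElem_finRange, Fin.cast_mk, hone _ i.2, hone _ (hlt i)]
  rw [actMono, List.getD_eq_getElem _ _ (by simp [i.isLt])]
  simp only [List.getElem_map, List.getElem_finRange, Fin.cast_mk, Fin.eta]
  split_ifs
  · refine dig_neg ?_
    have := hx (enc.symm ⟨app e.2.1 i, hlt i⟩)
    rwa [← listOf_getD x ⟨app e.2.1 i, hlt i⟩] at this
  · rfl

/-- The signed value of a digit. -/
def sdig (d : ℕ) : ℤ := if d < 16 then (d : ℤ) else -((d % 16 : ℕ) : ℤ)

theorem sdig_dig {a : ℤ} (h : a.natAbs < 16) : sdig (dig a 1) = a := by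
  simp only [sdig, dig, mul_one]
  split_ifs <;> omega

/-- The inner product of a coordinate list with the digits of a packed vector from position `j` on. -/
noncomputable def dotKeyAt (f : List ℤ) (K : ℕ) : ℕ → ℤ :=
  List.rec (motive := fun _ => ℕ → ℤ) (fun _ => 0)
    (fun a _ ih j => Bool.rec (motive := fun _ => ℤ)
      (a * sdig (Nat.mod (Nat.div K (Nat.pow 32 j)) 32) + ih (Nat.add j 1)) (ih (Nat.add j 1))
      (decide (a = 0))) f

theorem dotKeyAt_eq (K : ℕ) : ∀ (f : List ℤ) (j : ℕ),
    dotKeyAt f K j = ∑ i ∈ Finset.range f.length, f.getD i 0 * sdig (digit K (j + i))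
  | [], _ => by simp [dotKeyAt]
  | a :: f, j => by
    rw [List.length_cons, Finset.sum_range_succ']
    simp only [List.getD_cons_succ, List.getD_cons_zero, Nat.add_zero]
    show Bool.rec (motive := fun _ => ℤ) (a * sdig (K / 32 ^ j % 32) + dotKeyAt f K (j + 1))
      (dotKeyAt f K (j + 1)) (decide (a = 0)) = _
    rw [dotKeyAt_eq K f (j + 1), Finset.sum_congr rfl fun i _ => by rw [show j + 1 + i = j + (i + 1) by omega]]
    have hd : digit K j = K / 32 ^ j % 32 := by rw [digit, pow_mul]; norm_num
    by_cases h : a = 0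
    · simp [h]
    · simp only [h, decide_false, hd]
      ring

/-- The inner product of a coordinate list with a packed vector. -/
noncomputable def dotKey (f : List ℤ) (K : ℕ) : ℤ := force K fun K => dotKeyAt f K 0

theorem dotKey_packL {x : GolayPt → ℤ} (hx : ∀ q, (x q).natAbs < 16) {f : List ℤ} (hf : f.length = 24) :
    dotKey f (packL (listOf x)) = dotInt (vecOf f) x := by
  rw [dotKey, force_eq, dotKeyAt_eq, hf, ← vecOf_listOf x, ← dotL_eq, vecOf_listOf, dotL, ← List.ofFn_eq_map,
    List.sum_ofFn, Finset.sum_range]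
  refine Finset.sum_congr rfl fun i _ => ?_
  have hb : ∀ a ∈ (List.finRange 24).map (fun j : Fin 24 =>
      dig ((listOf x).getD j 0) ((List.replicate 24 (1 : ℤ)).getD j 0)), a < 32 := by
    intro a ha
    obtain ⟨j, -, rfl⟩ := List.mem_map.mp ha
    exact dig_lt (by rw [listOf_getD]; exact hx _)
  rw [Nat.zero_add, packL, sKey, digit_keyList _ hb, List.getD_eq_getElem (n := (i : ℕ)) _ (0 : ℕ) (by simp)]
  simp only [List.getElem_map, List.getElem_finRange, Fin.cast_mk, Fin.eta]
  rw [listOf_getD, List.getD_eq_getElem (n := (i : ℕ)) (List.replicate 24 (1 : ℤ)) 0 (by simp),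
    List.getElem_replicate, sdig_dig (hx _)]

/-- All inner products agree. -/
noncomputable def hasDots : List (List ℤ) → List ℤ → ℕ → Bool
  | [], [], _ => true
  | f :: F, d :: ds, K => decide (dotKey f K = d) && hasDots F ds K
  | _, _, _ => false

theorem hasDots_eq : ∀ (F : List (List ℤ)) (ds : List ℤ) (K : ℕ),
    hasDots F ds K = decide ((F.map fun f => dotKey f K) = ds)
  | [], [], _ => by simp [hasDots]
  | [], _ :: _, _ => by simp [hasDots]
  | _ :: _, [], _ => by simp [hasDots]
  | f :: F, d :: ds, K => by simp [hasDots, hasDots_eq F ds K]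

/-- A certificate listing all vectors. -/
structure VCert where
  N : ℕ
  fixed : List (List ℤ)
  dots : List ℤ
  gens : List MGen
  lgens : List MGen
  classes : List OClass
  size : ℕ
  nodes : Arr

namespace VCert

variable (C : VCert)

/-- The underlying orbit data, for the shared checks. -/
def base : OCert := ⟨C.N, C.fixed, [], C.dots, C.gens, C.lgens, C.classes, C.size, C.nodes⟩

/-- The class record of a node. -/
noncomputable def clsAt (i : ℕ) : OClass := C.base.clsAt i

/-- Check of one node. -/
noncomputable def nodeOk (i : ℕ) : Bool :=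
  force i fun i =>
  force (C.base.nKey i) fun k =>
  decide (C.base.nCls i < C.classes.length) &&
    (decide (i + 1 = C.size) || decide (k < C.base.nKey (i + 1))) &&
    (if C.base.nDep i = 0 then k == packL (C.clsAt i).x0
      else force (C.base.nPar i) fun p => force (C.base.nGen i) fun g =>
        decide (p < C.size) && decide (C.base.nDep p < C.base.nDep i) &&
        (C.base.nCls p == C.base.nCls i) && decide (g < C.gens.length) &&
        (k == permKeyS (C.gens.getD g (0, 0, 0)) (C.base.nKey p)))

/-- Check of one class. -/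
def classOk (c : OClass) : Bool := C.base.classOk c

/-- Static checks. -/
def baseOk : Bool :=
  decide (C.N < 256) && C.gens.all genGood && C.lgens.all genGood &&
    C.gens.all (fun e => C.base.fixesAll (actMono e)) &&
    C.fixed.all (fun F => F.length == 24) &&
    C.classes.all C.classOk

/-- All checks. -/
noncomputable def ok : Bool :=
  C.baseOk && allUpTo C.nodeOk 0 C.size && decide (C.size < 2 ^ 23)

/-- The set described by the certificate. -/
def target : Set (GolayPt → ℤ) :=
  {x | x ∈ leechLattice ∧ sqNorm x = C.N ∧ C.fixed.map (fun F => dotInt (vecOf F) x) = C.dots}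

/-- **Enumeration theorem.** -/
theorem enum (hok : C.ok = true) (hFmem : ∀ F ∈ C.fixed, vecOf F ∈ leechLattice)
    (hcount : C.target.ncard = C.size) :
    ∃ E : Fin C.size → GolayPt → ℤ, Function.Injective E ∧ Set.range E = C.target ∧
      (∀ i, packL (listOf (E i)) = C.base.nKey i) ∧
      ∀ i, ∀ x : ↥leechLattice, (x : GolayPt → ℤ) = E i →
        ∃ g : ↥Co0, C.base.Fixes g ∧ ∃ c ∈ C.classes,
          ((g • x : ↥leechLattice) : GolayPt → ℤ) = vecOf c.tgt := by
  classical
  simp only [ok, Bool.and_eq_true, decide_eq_true_eq] at hok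
  obtain ⟨⟨hbase, hnodes⟩, hsize⟩ := hok
  simp only [baseOk, Bool.and_eq_true, List.all_eq_true, decide_eq_true_eq, beq_iff_eq] at hbase
  obtain ⟨⟨⟨⟨⟨hN, hgens⟩, hlgens⟩, hgfix⟩, hlenF⟩, hclasses⟩ := hbase
  have hnode : ∀ i < C.size, C.nodeOk i = true := fun i hi =>
    of_allUpTo hnodes i (Nat.zero_le _) (by omega)
  have hcls : ∀ i < C.size, C.clsAt i ∈ C.classes := fun i hi => by
    have := hnode i hi
    simp only [nodeOk, force_eq, Bool.and_eq_true, decide_eq_true_eq] at this
    rw [clsAt, OCert.clsAt]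
    show C.classes.getD (C.base.nCls i) OCert.dflt ∈ C.classes
    rw [List.getD_eq_getElem _ _ this.1.1]
    exact List.getElem_mem _
  have htarget : C.target = C.base.target := rfl
  have habs : ∀ {y : GolayPt → ℤ}, y ∈ C.target → ∀ q, (y q).natAbs < 16 := fun hy q =>
    C.base.natAbs_lt hN (htarget ▸ hy) q
  have hx0 : ∀ c ∈ C.classes, vecOf c.x0 ∈ C.target := fun c hc =>
    C.base.mem_lattice_of_class (hclasses c hc)
  have hlen : ∀ c ∈ C.classes, listOf (vecOf c.x0) = c.x0 := fun c hc => by
    have := hclasses c hc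
    simp only [classOk, OCert.classOk, Bool.and_eq_true, beq_iff_eq] at this
    exact OCert.vec_fixed this.1.1.1.1.1.1.1.1.1.1.1.1.1
  -- each node is an image of the representative of its class
  have hreach : ∀ d i, ∀ (hi : i < C.size), C.base.nDep i = d → ∃ g : ↥Co0, C.base.Fixes g ∧
      packL (listOf ((g • (⟨vecOf (C.clsAt i).x0, (hx0 _ (hcls i hi)).1⟩ : ↥leechLattice) : ↥leechLattice)
        : GolayPt → ℤ)) = C.base.nKey i := by
    intro d
    induction d using Nat.strong_induction_on with
    | _ d ih =>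
      intro i hi hd
      have := hnode i hi
      simp only [nodeOk, force_eq, Bool.and_eq_true, decide_eq_true_eq] at this
      by_cases h0 : C.base.nDep i = 0
      · rw [if_pos h0, beq_iff_eq] at this
        refine ⟨1, fun F _ v _ => one_smul _ v, ?_⟩
        rw [one_smul, hlen _ (hcls i hi), this.2]
      · simp only [if_neg h0, Bool.and_eq_true, decide_eq_true_eq, beq_iff_eq] at this
        obtain ⟨-, ⟨⟨⟨hp, hdep⟩, hc⟩, hg⟩, hk⟩ := this
        obtain ⟨g₀, hg₀, hg₀k⟩ := ih _ (hd ▸ hdep) (C.base.nPar i) hp rfl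
        obtain ⟨e, he⟩ := exists_gen (hgens _ (List.getElem_mem hg))
        have hef : C.base.Fixes e := C.base.fixes_of_list hlenF (f := actMono C.gens[C.base.nGen i])
          (fun v => by rw [he, OCert.vec_fixed (by simp [actMono])]) (hgfix _ (List.getElem_mem hg))
        have hcc : C.clsAt (C.base.nPar i) = C.clsAt i := by simp only [clsAt, OCert.clsAt, hc]
        refine ⟨e * g₀, hef.mul C.base hg₀, ?_⟩
        simp only [hcc] at hg₀k
        have hb := C.base.target_smul hg₀ hFmem (v := ⟨vecOf (C.clsAt i).x0, (hx0 _ (hcls i hi)).1⟩)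
          (hx0 _ (hcls i hi))
        rw [mul_smul, he, OCert.vec_fixed (by simp [actMono]), hk, List.getD_eq_getElem _ _ hg, ← hg₀k,
          ← packL_actMono (habs (htarget ▸ hb)) (hgens _ (List.getElem_mem hg))]
  choose gn hgnfix hgnkey using fun i (hi : i < C.size) => hreach _ i hi rfl
  let E : Fin C.size → GolayPt → ℤ := fun i =>
    ((gn i.1 i.2 • (⟨vecOf (C.clsAt i.1).x0, (hx0 _ (hcls i.1 i.2)).1⟩ : ↥leechLattice) : ↥leechLattice)
      : GolayPt → ℤ)
  have hmem : ∀ i, E i ∈ C.target := fun i =>
    htarget ▸ C.base.target_smul (hgnfix i.1 i.2) hFmem (hx0 _ (hcls i.1 i.2))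
  have hinj : Function.Injective E := by
    intro i j he
    have hk : C.base.nKey i = C.base.nKey j := by rw [← hgnkey i.1 i.2, ← hgnkey j.1 j.2]; exact congrArg (fun y => packL (listOf y)) he
    have hmono : StrictMonoOn C.base.nKey (Set.Iio C.size) := by
      refine strictMonoOn_of_lt_succ Set.ordConnected_Iio fun a _ ha ha' => ?_
      rw [Order.succ_eq_add_one] at ha' ⊢
      simp only [Set.mem_Iio] at ha ha'
      have := hnode a ha
      simp only [nodeOk, force_eq, Bool.and_eq_true, Bool.or_eq_true, decide_eq_true_eq] at this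
      rcases this.1.2 with h | h
      · omega
      · exact h
    exact Fin.ext (hmono.injOn (Set.mem_Iio.mpr i.2) (Set.mem_Iio.mpr j.2) hk)
  have hfin : C.target.Finite := by
    refine (Set.Finite.pi fun _ : GolayPt => Set.finite_Icc (-15 : ℤ) 15).subset fun y hy q _ => ?_
    have := habs hy q
    exact ⟨by omega, by omega⟩
  have heq : Set.range E = C.target :=
    Set.eq_of_subset_of_ncard_le (by rintro _ ⟨i, rfl⟩; exact hmem i)
      (by rw [Set.ncard_range_of_injective hinj, Nat.card_fin, hcount]) hfin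
  refine ⟨E, hinj, heq, fun i => hgnkey i.1 i.2, fun i x hix => ?_⟩
  have hc := hcls i.1 i.2
  have hco := hclasses _ hc
  simp only [classOk, OCert.classOk, Bool.and_eq_true, beq_iff_eq] at hco
  obtain ⟨⟨⟨-, hw⟩, hlink⟩, hlfix⟩ := hco
  obtain ⟨w, hwg⟩ := exists_word (List.all_eq_true.mpr hlgens) hw
  refine ⟨w * (gn i.1 i.2)⁻¹, (C.base.fixes_of_list hlenF hwg hlfix).mul C.base ((hgnfix i.1 i.2).inv C.base),
    C.clsAt i.1, hc, ?_⟩
  have hxe : x = gn i.1 i.2 • (⟨vecOf (C.clsAt i.1).x0, (hx0 _ hc).1⟩ : ↥leechLattice) := Subtype.ext hix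
  rw [mul_smul, hxe, inv_smul_smul, ← vecOf_listOf ((w • _ : ↥leechLattice) : GolayPt → ℤ), hwg]
  rw [show listOf (vecOf (C.clsAt i.1).x0) = (C.clsAt i.1).x0 from hlen _ hc]
  exact congrArg vecOf hlink

/-- **Covering theorem.** -/
theorem cover (hok : C.ok = true) (hFmem : ∀ F ∈ C.fixed, vecOf F ∈ leechLattice)
    (hcount : C.target.ncard = C.size) (x : ↥leechLattice) (hx : (x : GolayPt → ℤ) ∈ C.target) :
    ∃ g : ↥Co0, C.base.Fixes g ∧ ∃ c ∈ C.classes,
      ((g • x : ↥leechLattice) : GolayPt → ℤ) = vecOf c.tgt := by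
  obtain ⟨E, -, hrange, -, hmove⟩ := C.enum hok hFmem hcount
  rw [← hrange] at hx
  obtain ⟨i, hi⟩ := hx
  exact hmove i x hi.symm

/-- The inner products of a node with some coordinate lists are the given ones. -/
noncomputable def keyHas (F : List (List ℤ)) (ds : List ℤ) (i : ℕ) : ℕ :=
  force i fun i => force (C.base.nKey i) fun k => Bool.rec (motive := fun _ => ℕ) 0 1 (hasDots F ds k)

/-- The number of nodes with given inner products. -/
noncomputable def countSub (F : List (List ℤ)) (ds : List ℤ) : ℕ :=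
  OCert.sumHalf (C.keyHas F ds) 24 0 C.size

theorem ncard_sub (hok : C.ok = true) (hFmem : ∀ F ∈ C.fixed, vecOf F ∈ leechLattice)
    (hcount : C.target.ncard = C.size) (F : List (List ℤ)) (hlen : ∀ f ∈ F, f.length = 24) (ds : List ℤ) :
    {x ∈ C.target | F.map (fun f => dotInt (vecOf f) x) = ds}.ncard = C.countSub F ds := by
  classical
  obtain ⟨E, hinj, hrange, hkey, -⟩ := C.enum hok hFmem hcount
  have hN : C.N < 256 := by
    simp only [ok, baseOk, Bool.and_eq_true, decide_eq_true_eq] at hok
    exact hok.1.1.1.1.1.1.1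
  have hsize : C.size < 2 ^ 23 := by
    simp only [ok, Bool.and_eq_true, decide_eq_true_eq] at hok
    exact hok.2
  have hdot : ∀ (i : Fin C.size), F.map (fun f => dotKey f (C.base.nKey i))
      = F.map fun f => dotInt (vecOf f) (E i) := fun i => by
    refine List.map_congr_left fun f hf => ?_
    have hm : E i ∈ C.base.target := (show E i ∈ C.target from hrange ▸ Set.mem_range_self i)
    rw [← hkey i, dotKey_packL (fun q => C.base.natAbs_lt hN hm q) (hlen f hf)]
  have hset : {x ∈ C.target | F.map (fun f => dotInt (vecOf f) x) = ds}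
      = E '' {i | F.map (fun f => dotInt (vecOf f) (E i)) = ds} := by
    ext x
    simp only [← hrange, Set.mem_ofPred_eq, Set.mem_range, Set.mem_image]
    constructor
    · rintro ⟨⟨i, rfl⟩, h⟩; exact ⟨i, h, rfl⟩
    · rintro ⟨i, h, rfl⟩; exact ⟨⟨i, rfl⟩, h⟩
  rw [hset, Set.ncard_image_of_injective _ hinj, countSub, OCert.sumHalf_eq _ _ _ _ (by omega),
    ← Finset.range_eq_Ico, Nat.zero_add, Finset.sum_range, Set.ncard_eq_toFinset_card']
  have hk : ∀ i : Fin C.size, C.keyHas F ds i = if F.map (fun f => dotInt (vecOf f) (E i)) = ds then 1 else 0 :=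
    fun i => by
      rw [keyHas, force_eq, force_eq, hasDots_eq, hdot]
      by_cases h : F.map (fun f => dotInt (vecOf f) (E i)) = ds <;> simp [h]
  simp only [hk, Finset.sum_boole, Nat.cast_id]
  congr 1
  ext i
  simp

end VCert

end Cfsg.Agent.Lib.Leech
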