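import Cfsg.Agent.Lib.Leech.Pairs
import Cfsg.Agent.Lib.Leech.VecCert

/-!
Sets of shortest lattice vectors with prescribed inner products against several given vectors:
their sizes and the transitivity of the joint stabiliser.
-/

set_option autoImplicit false

namespace Cfsg.Agent.Lib.Leech

open Cfsg
open Cfsg.Agent.Lib.Compute

/-- Shortest vectors with prescribed inner products against the coordinate lists. -/
def dotSet (F : List (List ℤ)) (ds : List ℤ) : Set (GolayPt → ℤ) :=
  {x | x ∈ leechLattice ∧ sqNorm x = 32 ∧ F.map (fun f => dotInt (vecOf f) x) = ds}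

/-- Shortest vectors with prescribed inner products against lattice vectors. -/
def subSet (vs : List ↥leechLattice) (ds : List ℤ) : Set ↥leechLattice :=
  {x | sqNorm (x : GolayPt → ℤ) = 32 ∧
    vs.map (fun v : ↥leechLattice => dotInt (v : GolayPt → ℤ) (x : GolayPt → ℤ)) = ds}

/-- An element sends the given vectors to the listed ones. -/
def Moves (k : ↥Co0) (vs : List ↥leechLattice) (F : List (List ℤ)) : Prop :=
  vs.map (fun v : ↥leechLattice => ((k • v : ↥leechLattice) : GolayPt → ℤ)) = F.map vecOf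

/-- The set has `n` members and the stabiliser of the fixed lists moves each of them to `t`. -/
def Trans (F : List (List ℤ)) (ds : List ℤ) (t : List ℤ) (n : ℕ) : Prop :=
  (dotSet F ds).ncard = n ∧ ∀ x : ↥leechLattice, (x : GolayPt → ℤ) ∈ dotSet F ds →
    ∃ g : ↥Co0, (∀ f ∈ F, ∀ v : ↥leechLattice, (v : GolayPt → ℤ) = vecOf f → g • v = v) ∧
      ((g • x : ↥leechLattice) : GolayPt → ℤ) = vecOf t

theorem dotSet_sub {F G : List (List ℤ)} {ds es : List ℤ} (C : VCert) (hok : C.ok = true) (hN : C.N = 32)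
    (hF : C.fixed = F) (hd : C.dots = ds) (hmem : ∀ f ∈ F, vecOf f ∈ leechLattice)
    (hn : (dotSet F ds).ncard = C.size) (hlen : ∀ g ∈ G, g.length = 24) (m : ℕ) (hm : C.countSub G es = m) :
    {x ∈ dotSet F ds | G.map (fun g => dotInt (vecOf g) x) = es}.ncard = m := by
  subst hF hd
  have hset : C.target = dotSet C.fixed C.dots := by
    ext x
    simp [VCert.target, dotSet, hN]
  rw [← hset] at hn ⊢
  rw [C.ncard_sub hok hmem hn G hlen es, hm]

theorem trans_of_ocert (C : OCert) (hok : C.ok = true) {F : List (List ℤ)} {ds t : List ℤ} {n : ℕ}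
    (hN : C.N = 32) (hF : C.fixed = F) (hd : C.dots = ds) (hmem : ∀ f ∈ F, vecOf f ∈ leechLattice)
    (hn : (dotSet F ds).ncard = n) (hsize : C.total = n) (ht : C.classes.all (fun c => c.tgt == t) = true) :
    Trans F ds t n := by
  subst hF hd
  have hset : C.target = dotSet C.fixed C.dots := by
    ext x
    simp [OCert.target, dotSet, hN]
  refine ⟨hn, fun x hx => ?_⟩
  obtain ⟨g, hg, c, hc, hgx⟩ := C.cover hok hmem (by rw [hset, hn, hsize]) x (by rw [hset]; exact hx)
  simp only [List.all_eq_true, beq_iff_eq] at ht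
  exact ⟨g, hg, by rw [hgx, ht c hc]⟩

theorem trans_of_vcert (C : VCert) (hok : C.ok = true) {F : List (List ℤ)} {ds t : List ℤ} {n : ℕ}
    (hN : C.N = 32) (hF : C.fixed = F) (hd : C.dots = ds) (hmem : ∀ f ∈ F, vecOf f ∈ leechLattice)
    (hn : (dotSet F ds).ncard = n) (hsize : C.size = n) (ht : C.classes.all (fun c => c.tgt == t) = true) :
    Trans F ds t n := by
  subst hF hd
  have hset : C.target = dotSet C.fixed C.dots := by
    ext x
    simp [VCert.target, dotSet, hN]
  refine ⟨hn, fun x hx => ?_⟩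
  obtain ⟨g, hg, c, hc, hgx⟩ := C.cover hok hmem (by rw [hset, hn, hsize]) x (by rw [hset]; exact hx)
  simp only [List.all_eq_true, beq_iff_eq] at ht
  exact ⟨g, hg, by rw [hgx, ht c hc]⟩

namespace Trans

variable {F : List (List ℤ)} {ds t : List ℤ} {n : ℕ} {k : ↥Co0} {vs : List ↥leechLattice}

theorem mem_iff (hk : Moves k vs F) (x : ↥leechLattice) :
    ((k • x : ↥leechLattice) : GolayPt → ℤ) ∈ dotSet F ds ↔ x ∈ subSet vs ds := by
  have h1 : F.map (fun f => dotInt (vecOf f) ((k • x : ↥leechLattice) : GolayPt → ℤ))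
      = vs.map (fun v : ↥leechLattice => dotInt (v : GolayPt → ℤ) (x : GolayPt → ℤ)) := by
    have := congrArg (List.map fun y => dotInt y ((k • x : ↥leechLattice) : GolayPt → ℤ)) hk
    simp only [List.map_map] at this
    refine this.symm.trans (List.map_congr_left fun v _ => ?_)
    exact co0_dot k v x
  simp only [dotSet, subSet, Set.mem_ofPred_eq, h1, co0_sqNorm, (k • x).2, true_and]

theorem ncard_sub (h : Trans F ds t n) (hk : Moves k vs F) : (subSet vs ds).ncard = n := by
  rw [← h.1]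
  refine Set.ncard_congr (fun x _ => ((k • x : ↥leechLattice) : GolayPt → ℤ))
    (fun x hx => (mem_iff hk x).mpr hx)
    (fun x y _ _ e => smul_left_cancel k (Subtype.ext e)) fun y hy => ?_
  refine ⟨k⁻¹ • (⟨y, hy.1⟩ : ↥leechLattice), (mem_iff hk _).mp ?_, ?_⟩
  · rw [smul_inv_smul]; exact hy
  · rw [smul_inv_smul]

theorem fixes (h : Moves k vs F) {g : ↥Co0}
    (hg : ∀ f ∈ F, ∀ v : ↥leechLattice, (v : GolayPt → ℤ) = vecOf f → g • v = v) :
    ∀ v ∈ vs, g • k • v = k • v := by
  intro v hv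
  have : ((k • v : ↥leechLattice) : GolayPt → ℤ) ∈ F.map vecOf := by
    rw [← show vs.map (fun v : ↥leechLattice => ((k • v : ↥leechLattice) : GolayPt → ℤ)) = F.map vecOf from h]
    exact List.mem_map.mpr ⟨v, hv, rfl⟩
  obtain ⟨f, hf, hfv⟩ := List.mem_map.mp this
  exact hg f hf _ hfv.symm

theorem extend (h : Trans F ds t n) (hk : Moves k vs F) {x : ↥leechLattice} (hx : x ∈ subSet vs ds) :
    ∃ k' : ↥Co0, Moves k' (vs ++ [x]) (F ++ [t]) := by
  obtain ⟨g, hg, hgt⟩ := h.2 _ ((mem_iff hk x).mpr hx)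
  refine ⟨g * k, ?_⟩
  simp only [Moves, List.map_append, List.map_cons, List.map_nil, mul_smul, hgt]
  rw [← show vs.map (fun v : ↥leechLattice => ((k • v : ↥leechLattice) : GolayPt → ℤ)) = F.map vecOf from hk]
  congr 1
  refine List.map_congr_left fun v hv => ?_
  rw [fixes hk hg v hv]

theorem transitive (h : Trans F ds t n) (hk : Moves k vs F) {x y : ↥leechLattice} (hx : x ∈ subSet vs ds)
    (hy : y ∈ subSet vs ds) : ∃ g : ↥Co0, (∀ v ∈ vs, g • v = v) ∧ g • x = y := by
  obtain ⟨a, ha, hax⟩ := h.2 _ ((mem_iff hk x).mpr hx)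
  obtain ⟨b, hb, hby⟩ := h.2 _ ((mem_iff hk y).mpr hy)
  refine ⟨k⁻¹ * b⁻¹ * a * k, fun v hv => ?_, ?_⟩
  · rw [mul_smul, mul_smul, mul_smul, fixes hk ha v hv,
      inv_smul_eq_iff.mpr (fixes hk hb v hv).symm, inv_smul_smul]
  · rw [mul_smul, mul_smul, mul_smul, show a • k • x = b • k • y from Subtype.ext (hax.trans hby.symm),
      inv_smul_smul, inv_smul_smul]

end Trans

theorem moves_one {v : ↥leechLattice} {k : ↥Co0} {f : List ℤ}
    (h : ((k • v : ↥leechLattice) : GolayPt → ℤ) = vecOf f) : Moves k [v] [f] := by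
  simp [Moves, h]

theorem subSet_one {u x : ↥leechLattice} {d : ℤ} :
    x ∈ subSet [u] [d] ↔ sqNorm (x : GolayPt → ℤ) = 32 ∧
      dotInt (u : GolayPt → ℤ) (x : GolayPt → ℤ) = d := by
  simp [subSet]

theorem subSet_two {u v x : ↥leechLattice} {d e : ℤ} :
    x ∈ subSet [u, v] [d, e] ↔ sqNorm (x : GolayPt → ℤ) = 32 ∧
      dotInt (u : GolayPt → ℤ) (x : GolayPt → ℤ) = d ∧ dotInt (v : GolayPt → ℤ) (x : GolayPt → ℤ) = e := by
  simp [subSet]

theorem subSet_three {u v w x : ↥leechLattice} {d e c : ℤ} :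
    x ∈ subSet [u, v, w] [d, e, c] ↔ sqNorm (x : GolayPt → ℤ) = 32 ∧
      dotInt (u : GolayPt → ℤ) (x : GolayPt → ℤ) = d ∧ dotInt (v : GolayPt → ℤ) (x : GolayPt → ℤ) = e ∧
      dotInt (w : GolayPt → ℤ) (x : GolayPt → ℤ) = c := by
  simp [subSet, and_assoc]

/-- If the fibres over the listed values use up a finite set, every member has a listed value. -/
theorem value_mem_of_count {α β : Type*} [DecidableEq β] {S : Set α} (φ : α → β) (vals : Finset β) {n : ℕ}
    (hn : S.ncard = n) (hn0 : n ≠ 0) (hsum : ∑ d ∈ vals, {x ∈ S | φ x = d}.ncard = n) :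
    ∀ x ∈ S, φ x ∈ vals := by
  classical
  have hfin : S.Finite := Set.finite_of_ncard_ne_zero (hn ▸ hn0)
  have h1 : ∀ d, {x ∈ S | φ x = d}.ncard = (hfin.toFinset.filter fun x => φ x = d).card := by
    intro d
    rw [← Set.ncard_coe_finset]
    congr 1
    ext x
    simp
  simp only [h1] at hsum
  rw [Finset.sum_card_fiberwise_eq_card_filter] at hsum
  have h2 : hfin.toFinset.filter (fun x => φ x ∈ vals) = hfin.toFinset :=
    Finset.eq_of_subset_of_card_le (Finset.filter_subset _ _)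
      (by rw [hsum, ← Set.ncard_eq_toFinset_card S hfin, hn])
  intro x hx
  exact (Finset.mem_filter.mp (h2.symm ▸ hfin.mem_toFinset.mpr hx :
    x ∈ hfin.toFinset.filter (fun x => φ x ∈ vals))).2

/-- The orbit of a member is the whole set, for a subgroup acting transitively on it. -/
theorem orbit_eq {S : Set ↥leechLattice} {H : Subgroup ↥Co0} {y : ↥leechLattice} (hy : y ∈ S)
    (hinv : ∀ g ∈ H, ∀ x ∈ S, g • x ∈ S) (htrans : ∀ x ∈ S, ∃ g ∈ H, g • y = x) :
    MulAction.orbit ↥H y = S := by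
  ext x
  constructor
  · rintro ⟨g, rfl⟩
    exact hinv _ g.2 _ hy
  · intro hx
    obtain ⟨g, hg, rfl⟩ := htrans x hx
    exact ⟨⟨g, hg⟩, rfl⟩

theorem subSet_smul {vs : List ↥leechLattice} {ds : List ℤ} {g : ↥Co0} (hg : ∀ v ∈ vs, g • v = v)
    {x : ↥leechLattice} (hx : x ∈ subSet vs ds) : g • x ∈ subSet vs ds := by
  refine ⟨by rw [co0_sqNorm]; exact hx.1, ?_⟩
  rw [← hx.2]
  refine List.map_congr_left fun v hv => ?_
  have := co0_dot g v x
  rwa [hg v hv] at this

end Cfsg.Agent.Lib.Leech
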