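import Cfsg.Agent.Lib.Leech.Elem
import Cfsg.Agent.Lib.CosetEnum.Arr

/-!
Orbit certificates for a set of lattice vectors of given length with given inner products against
fixed vectors.  The set is split into orbits of monomial automorphisms fixing those vectors; an
orbit is described by its absolute value patterns and by sign changes, and words in monomial
automorphisms and the sextet map join the orbit representatives.  If the sizes add up to the size
of the set, every vector of the set is moved to one of the stated targets.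
-/

set_option autoImplicit false

namespace Cfsg.Agent.Lib.Leech

open Cfsg
open Cfsg.Agent.Lib.Compute
open Cfsg.Agent.Lib.CosetEnum (Arr allUpTo of_allUpTo)

/-- Packing of small digits. -/
def keyList : List ℕ → ℕ
  | [] => 0
  | a :: l => a + 32 * keyList l

/-- A digit of a key. -/
def digit (K j : ℕ) : ℕ := K / 2 ^ (5 * j) % 32

theorem digit_keyList : ∀ (l : List ℕ), (∀ a ∈ l, a < 32) → ∀ j, digit (keyList l) j = l.getD j 0
  | [], _, j => by simp [digit, keyList]
  | a :: l, h, 0 => by
    have := h a (List.mem_cons_self ..)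
    simp only [digit, keyList, Nat.mul_zero, pow_zero, Nat.div_one, List.getD_cons_zero]
    omega
  | a :: l, h, j + 1 => by
    have := h a (List.mem_cons_self ..)
    have ih := digit_keyList l (fun b hb => h b (List.mem_cons_of_mem _ hb)) j
    simp only [digit, keyList, List.getD_cons_succ] at ih ⊢
    rw [show 5 * (j + 1) = 5 + 5 * j by ring, pow_add, ← Nat.div_div_eq_div_mul]
    rw [show (a + 32 * keyList l) / 2 ^ 5 = keyList l by norm_num; omega]
    exact ih

/-- The digit of a value against a reference value: absolute value and relative sign. -/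
def dig (a b : ℤ) : ℕ := a.natAbs + if a * b < 0 then 16 else 0

theorem dig_lt {a b : ℤ} (h : a.natAbs < 16) : dig a b < 32 := by
  rw [dig]; split_ifs <;> omega

/-- The key of a coordinate list against a reference list. -/
def sKey (r l : List ℤ) : ℕ :=
  keyList ((List.finRange 24).map fun i : Fin 24 => dig (l.getD i 0) (r.getD i 0))

/-- Evaluation of the argument before use. -/
noncomputable def force {α : Type} (n : ℕ) (f : ℕ → α) : α :=
  Nat.rec (motive := fun _ => α) (f 0) (fun k _ => f (Nat.add k 1)) n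

theorem force_eq {α : Type} (n : ℕ) (f : ℕ → α) : force n f = f n := by cases n <;> rfl

/-- The key made from `n` digits given by a function of the position, from position `j` on. -/
noncomputable def keyRec (f : ℕ → ℕ) (n : ℕ) : ℕ → ℕ :=
  Nat.rec (motive := fun _ => ℕ → ℕ) (fun _ => 0)
    (fun _ ih j => Nat.add (f j) (Nat.mul 32 (ih (Nat.add j 1)))) n

theorem keyRec_range' (f : ℕ → ℕ) : ∀ n j, keyRec f n j = keyList ((List.range' j n).map f)
  | 0, _ => rfl
  | n + 1, j => by
    rw [List.range'_succ, List.map_cons, keyList, ← keyRec_range' f n (j + 1)]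
    rfl

theorem keyRec_finRange (f : ℕ → ℕ) (n : ℕ) :
    keyRec f n 0 = keyList ((List.finRange n).map fun i : Fin n => f i) := by
  rw [keyRec_range', ← List.range_eq_range', ← List.map_coe_finRange_eq_range, List.map_map]
  rfl

/-- The key made from 24 digits given by a function of the position. -/
noncomputable def keyFn (f : ℕ → ℕ) : ℕ := keyRec f 24 0

theorem keyFn_eq (f : ℕ → ℕ) : keyFn f = keyList ((List.finRange 24).map fun i : Fin 24 => f i) :=
  keyRec_finRange f 24

/-- The key after a monomial element. -/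
noncomputable def permKey (e : MGen) (K : ℕ) : ℕ :=
  force K fun K => force e.2.1 fun P => keyFn fun j =>
    Nat.mod (Nat.div K (Nat.pow 2 (Nat.mul 5 (Nat.mod (Nat.shiftRight P (Nat.mul 16 j)) 65536)))) 32

theorem permKey_eq (e : MGen) (K : ℕ) :
    permKey e K = keyList ((List.finRange 24).map fun i : Fin 24 => digit K (app e.2.1 i)) := by
  simp only [permKey, force_eq]
  rw [keyFn_eq]
  refine congrArg keyList (List.map_congr_left fun i _ => ?_)
  simp only [digit, app]
  rfl

/-- The sum of squares of a coordinate list. -/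
def normL (l : List ℤ) : ℤ := ((List.finRange 24).map fun i : Fin 24 => l.getD i 0 * l.getD i 0).sum

/-- The inner product of two coordinate lists. -/
def dotL (a b : List ℤ) : ℤ := ((List.finRange 24).map fun i : Fin 24 => a.getD i 0 * b.getD i 0).sum

theorem sum_enc (f : Fin 24 → ℤ) : ((List.finRange 24).map f).sum = ∑ q, f (enc q) := by
  rw [← List.ofFn_eq_map, List.sum_ofFn, Equiv.sum_comp enc f]

theorem normL_eq (l : List ℤ) : normL l = sqNorm (vecOf l) := by
  rw [normL, sum_enc, sqNorm]
  exact Finset.sum_congr rfl fun q _ => (pow_two _).symm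

theorem dotL_eq (a b : List ℤ) : dotL a b = dotInt (vecOf a) (vecOf b) := by
  rw [dotL, sum_enc]; rfl

/-- One monomial orbit. -/
structure OClass where
  x0 : List ℤ
  par : ℕ
  word : ℕ
  signs : List ℕ
  pivots : List ℕ
  link : List (Option ℕ)
  tgt : List ℤ

/-- An orbit certificate. -/
structure OCert where
  N : ℕ
  fixed : List (List ℤ)
  ref : List ℤ
  dots : List ℤ
  gens : List MGen
  lgens : List MGen
  classes : List OClass
  size : ℕ
  nodes : Arr

namespace OCert

variable (C : OCert)

/-- A default class. -/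
def dflt : OClass := ⟨[], 0, 0, [], [], [], []⟩

/-- Raw entry of a node. -/
noncomputable def entry (i : ℕ) : ℕ := C.nodes.get 192 i

/-- The key of a node. -/
noncomputable def nKey (i : ℕ) : ℕ := C.entry i % 2 ^ 120
/-- The class of a node. -/
noncomputable def nCls (i : ℕ) : ℕ := C.entry i / 2 ^ 120 % 2 ^ 16
/-- The parent of a node. -/
noncomputable def nPar (i : ℕ) : ℕ := C.entry i / 2 ^ 136 % 2 ^ 24
/-- The generator of a node. -/
noncomputable def nGen (i : ℕ) : ℕ := C.entry i / 2 ^ 160 % 2 ^ 8
/-- The depth of a node. -/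
noncomputable def nDep (i : ℕ) : ℕ := C.entry i / 2 ^ 168

/-- The class record of a node. -/
noncomputable def clsAt (i : ℕ) : OClass := C.classes.getD (C.nCls i) dflt

/-- Check of one node. -/
noncomputable def nodeOk (i : ℕ) : Bool :=
  force i fun i =>
  force (C.nKey i) fun k =>
  decide (C.nCls i < C.classes.length) &&
    (decide (i + 1 = C.size) || decide (k < C.nKey (i + 1))) &&
    (if C.nDep i = 0 then k == sKey C.ref (C.clsAt i).x0
      else force (C.nPar i) fun p => force (C.nGen i) fun g =>
        decide (p < C.size) && decide (C.nDep p < C.nDep i) &&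
        (C.nCls p == C.nCls i) && decide (g < C.gens.length) &&
        (k == permKey (C.gens.getD g (0, 0, 0)) (C.nKey p)))

/-- The fixed vectors are fixed by a list map. -/
def fixesAll (f : List ℤ → List ℤ) : Bool := C.fixed.all fun F => f F == F

/-- Check of one class. -/
def classOk (c : OClass) : Bool :=
  (c.x0.length == 24) && (normL c.x0 == C.N) && ((C.fixed.map fun F => dotL F c.x0) == C.dots) &&
    decide (c.par < 2) && inCode c.word &&
    ((List.finRange 24).all fun i : Fin 24 => c.x0.getD i 0 % 4 == res c.par (c.word.testBit i)) &&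
    ((c.x0.sum % 8) == 4 * (c.par : ℤ)) &&
    (c.signs.length == c.pivots.length) &&
    (c.signs.all fun m => inCode m && (C.ref :: C.fixed).all fun F =>
      (List.finRange 24).all fun i : Fin 24 => (F.getD i 0 == 0) || !m.testBit i) &&
    (c.pivots.all fun p => decide (p < 24) && (c.x0.getD p 0 != 0)) &&
    ((List.range c.signs.length).all fun j => (List.range c.signs.length).all fun k =>
      (c.signs.getD j 0).testBit (c.pivots.getD k 0) == (j == k)) &&
    wordGood C.lgens c.link && (actWord C.lgens c.link c.x0 == c.tgt) &&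
    C.fixesAll (actWord C.lgens c.link)

/-- Static checks. -/
def baseOk : Bool :=
  decide (C.N < 256) && C.gens.all genGood && C.lgens.all genGood &&
    C.gens.all (fun e => C.fixesAll (actMono e) && (actMono e C.ref == C.ref)) &&
    C.fixed.all (fun F => F.length == 24) && (C.fixed.length == C.dots.length) &&
    C.classes.all C.classOk

/-- The number of sign choices at a node. -/
noncomputable def weight (i : ℕ) : ℕ := 2 ^ (C.clsAt i).signs.length

/-- Halving sum with fuel. -/
noncomputable def sumHalf (f : ℕ → ℕ) (fuel : ℕ) : ℕ → ℕ → ℕ :=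
  Nat.rec (motive := fun _ => ℕ → ℕ → ℕ) (fun lo len => Bool.rec (motive := fun _ => ℕ) 0 (f lo) (Nat.beq len 1))
    (fun _ ih lo len => Bool.rec (motive := fun _ => ℕ)
      (ih lo (Nat.div len 2) + ih (lo + Nat.div len 2) (len - Nat.div len 2))
      (Bool.rec (motive := fun _ => ℕ) 0 (f lo) (Nat.beq len 1))
      (Nat.ble len 1)) fuel

/-- The number of vectors produced. -/
noncomputable def total : ℕ := sumHalf C.weight 24 0 C.size

/-- All checks. -/
noncomputable def ok : Bool :=
  C.baseOk && allUpTo C.nodeOk 0 C.size && decide (C.size < 2 ^ 23)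

/-- The set described by the certificate. -/
def target : Set (GolayPt → ℤ) :=
  {x | x ∈ leechLattice ∧ sqNorm x = C.N ∧
    C.fixed.map (fun F => dotInt (vecOf F) x) = C.dots}

theorem sumHalf_eq (f : ℕ → ℕ) : ∀ fuel lo len, len ≤ 2 ^ fuel →
    sumHalf f fuel lo len = ∑ i ∈ Finset.Ico lo (lo + len), f i
  | 0, lo, len, h => by
    rcases Nat.le_one_iff_eq_zero_or_eq_one.mp (by simpa using h) with rfl | rfl
    · simp only [add_zero, Finset.Ico_self, Finset.sum_empty]; rfl
    · simp only [Nat.Ico_succ_singleton, Finset.sum_singleton]; rfl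
  | fuel + 1, lo, len, h => by
    change Bool.rec (motive := fun _ => ℕ) _ _ (Nat.ble len 1) = _
    cases hle : Nat.ble len 1
    · have hlen : 2 ≤ len := by
        by_contra hc
        rw [Nat.ble_eq.mpr (by omega)] at hle
        exact absurd hle (by decide)
      have hd : Nat.div len 2 = len / 2 := rfl
      rw [pow_succ] at h
      show sumHalf f fuel lo (Nat.div len 2) + sumHalf f fuel (lo + Nat.div len 2) (len - Nat.div len 2) = _
      rw [hd, sumHalf_eq f fuel _ _ (by omega), sumHalf_eq f fuel _ _ (by omega),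
        Finset.sum_Ico_consecutive _ (by omega) (by omega)]
      congr 2
      omega
    · have hl := Nat.ble_eq.mp hle
      show Bool.rec (motive := fun _ => ℕ) 0 (f lo) (Nat.beq len 1) = _
      rcases Nat.lt_or_ge len 1 with h0 | h1
      · obtain rfl : len = 0 := by omega
        simp only [add_zero, Finset.Ico_self, Finset.sum_empty]; rfl
      · obtain rfl : len = 1 := by omega
        simp only [Nat.Ico_succ_singleton, Finset.sum_singleton]; rfl

theorem vec_fixed {F : List ℤ} (hF : F.length = 24) : listOf (vecOf F) = F := by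
  refine List.ext_getElem (by simp [listOf, hF]) fun i h1 h2 => ?_
  simp only [listOf, List.getElem_map, List.getElem_finRange, vecOf, Equiv.apply_symm_apply, Fin.cast_mk]
  rw [List.getD_eq_getElem _ _ h2]

theorem mem_lattice_of_class {c : OClass} (h : C.classOk c = true) :
    vecOf c.x0 ∈ C.target := by
  simp only [classOk, Bool.and_eq_true, decide_eq_true_eq, beq_iff_eq, List.all_eq_true] at h
  obtain ⟨⟨⟨⟨⟨⟨⟨⟨⟨⟨⟨⟨⟨hlen, hn⟩, hd⟩, hp⟩, hw⟩, h4⟩, h8⟩, -⟩, -⟩, -⟩, -⟩, -⟩, -⟩, -⟩ := h
  refine ⟨lattice_of_form hp (mem_codeList_of_inCode hw) (fun q => h4 (enc q) (List.mem_finRange _)) ?_,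
    by rw [← normL_eq]; exact hn, ?_⟩
  · have hsum : c.x0.sum = ∑ q, vecOf c.x0 q := by
      conv_lhs => rw [← vec_fixed hlen]
      rw [listOf, ← List.ofFn_eq_map, List.sum_ofFn, ← Equiv.sum_comp enc]
      simp
    rw [← hsum]; exact h8
  · rw [← hd]
    exact List.map_congr_left fun F _ => (dotL_eq F c.x0).symm

/-- Elements fixing all fixed vectors. -/
def Fixes (g : ↥Co0) : Prop :=
  ∀ F ∈ C.fixed, ∀ v : ↥leechLattice, (v : GolayPt → ℤ) = vecOf F → g • v = v

theorem fixes_of_list (hlenF : ∀ F ∈ C.fixed, F.length = 24) {f : List ℤ → List ℤ} {g : ↥Co0}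
    (hg : ∀ v : ↥leechLattice, listOf ((g • v : ↥leechLattice) : GolayPt → ℤ) = f (listOf (v : GolayPt → ℤ)))
    (hf : C.fixesAll f = true) : C.Fixes g := by
  intro F hF v hv
  simp only [fixesAll, List.all_eq_true, beq_iff_eq] at hf
  refine Subtype.ext ?_
  rw [← vecOf_listOf ((g • v : ↥leechLattice) : GolayPt → ℤ), hg, hv, vec_fixed (hlenF F hF), hf F hF]

theorem Fixes.mul {g h : ↥Co0} (hg : C.Fixes g) (hh : C.Fixes h) : C.Fixes (g * h) :=
  fun F hF v hv => by rw [mul_smul, hh F hF v hv, hg F hF v hv]

theorem Fixes.inv {g : ↥Co0} (hg : C.Fixes g) : C.Fixes g⁻¹ :=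
  fun F hF v hv => inv_smul_eq_iff.mpr (hg F hF v hv).symm

theorem target_smul {g : ↥Co0} (hg : C.Fixes g) (hFmem : ∀ F ∈ C.fixed, vecOf F ∈ leechLattice)
    {v : ↥leechLattice} (hv : (v : GolayPt → ℤ) ∈ C.target) :
    ((g • v : ↥leechLattice) : GolayPt → ℤ) ∈ C.target := by
  obtain ⟨-, hn, hd⟩ := hv
  refine ⟨(g • v).2, by rw [co0_sqNorm]; exact hn, ?_⟩
  rw [← hd]
  refine List.map_congr_left fun F hF => ?_
  have h := co0_dot g ⟨vecOf F, hFmem F hF⟩ v
  rw [hg F hF ⟨vecOf F, hFmem F hF⟩ rfl] at h
  exact h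

theorem natAbs_lt {x : GolayPt → ℤ} (hN : C.N < 256) (hx : x ∈ C.target) (q : GolayPt) :
    (x q).natAbs < 16 := by
  have h1 : x q ^ 2 ≤ sqNorm x := Finset.single_le_sum (fun i _ => sq_nonneg (x i)) (Finset.mem_univ q)
  rw [hx.2.1] at h1
  have h2 : ((x q).natAbs : ℤ) * (x q).natAbs < 256 := by
    have h3 : (C.N : ℤ) < 256 := by exact_mod_cast hN
    have h5 : ((x q).natAbs : ℤ) * (x q).natAbs = x q * x q := Int.natAbs_mul_self' (x q)
    nlinarith
  have h4 : (x q).natAbs * (x q).natAbs < 16 * 16 := by exact_mod_cast h2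
  exact Nat.mul_self_lt_mul_self_iff.mp h4

/-- The key of a vector. -/
def vKey (x : GolayPt → ℤ) : ℕ := sKey C.ref (listOf x)

theorem vKey_gen (hN : C.N < 256) {e : MGen} (he : genGood e = true)
    (href : actMono e C.ref = C.ref) {g : ↥Co0}
    (hg : ∀ v : ↥leechLattice, ((g • v : ↥leechLattice) : GolayPt → ℤ)
      = vecOf (actMono e (listOf (v : GolayPt → ℤ))))
    {v : ↥leechLattice} (hv : (v : GolayPt → ℤ) ∈ C.target) :
    C.vKey ((g • v : ↥leechLattice) : GolayPt → ℤ) = permKey e (C.vKey (v : GolayPt → ℤ)) := by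
  have hlt : ∀ i, app e.2.1 i < 24 ∨ 24 ≤ i := fun i => by
    simp only [genGood, genOk, Bool.and_eq_true, List.all_eq_true, List.mem_range, decide_eq_true_eq] at he
    by_cases h : i < 24
    · exact Or.inl (he.1.1.2 i h).1
    · exact Or.inr (by omega)
  rw [hg v]
  simp only [vKey, sKey, permKey_eq]
  refine congrArg keyList (List.map_congr_left fun i _ => ?_)
  have hb : ∀ a ∈ (List.finRange 24).map (fun j : Fin 24 =>
      dig ((listOf (v : GolayPt → ℤ)).getD j 0) (C.ref.getD j 0)), a < 32 := by
    intro a ha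
    obtain ⟨j, -, rfl⟩ := List.mem_map.mp ha
    exact dig_lt (by rw [listOf_getD]; exact C.natAbs_lt hN hv _)
  rw [digit_keyList _ hb]
  have hj : app e.2.1 i < 24 := (hlt i).resolve_right (by omega)
  have hr : C.ref.getD i 0 = if e.2.2.testBit i then -C.ref.getD (app e.2.1 i) 0
      else C.ref.getD (app e.2.1 i) 0 := by
    conv_lhs => rw [← href]
    rw [actMono, List.getD_eq_getElem _ _ (by simp [i.isLt])]
    simp only [List.getElem_map, List.getElem_finRange, Fin.cast_mk, Fin.eta]
  rw [listOf_getD, vecOf, Equiv.apply_symm_apply, actMono, List.getD_eq_getElem _ _ (by simp [i.isLt]),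
    List.getD_eq_getElem (n := app e.2.1 i) _ _ (by simpa using hj)]
  simp only [List.getElem_map, List.getElem_finRange, Fin.cast_mk, Fin.eta]
  rw [hr]
  split_ifs
  · rw [dig, dig, Int.natAbs_neg, neg_mul_neg]
  · rfl

/-- The mask of a choice of signs. -/
def maskOf : List ℕ → List Bool → ℕ
  | m :: ms, b :: bs => (if b then m else 0) ^^^ maskOf ms bs
  | _, _ => 0

theorem maskOf_mem : ∀ (ms : List ℕ) (bs : List Bool), (∀ m ∈ ms, inCode m = true) →
    wordOf (maskOf ms bs) ∈ golayCode
  | [], _, _ => by simp [maskOf, wordOf_zero]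
  | _ :: _, [], _ => by simp [maskOf, wordOf_zero]
  | m :: ms, b :: bs, h => by
    rw [maskOf, wordOf_xor]
    refine add_mem ?_ (maskOf_mem ms bs fun a ha => h a (List.mem_cons_of_mem _ ha))
    cases b
    · simp [wordOf_zero]
    · exact wordOf_mem_of_inCode (h m (List.mem_cons_self ..))

theorem maskOf_testBit : ∀ (ms : List ℕ) (bs : List Bool) (p : ℕ),
    (∀ j < ms.length, (ms.getD j 0).testBit p = false) → (maskOf ms bs).testBit p = false
  | [], _, p, _ => by simp [maskOf]
  | _ :: _, [], p, _ => by simp [maskOf]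
  | m :: ms, b :: bs, p, h => by
    rw [maskOf, Nat.testBit_xor, maskOf_testBit ms bs p fun j hj => by
      simpa using h (j + 1) (by simpa using hj)]
    have := h 0 (by simp)
    cases b <;> simp_all

theorem maskOf_pivot : ∀ (ms : List ℕ) (bs : List Bool) (p k : ℕ), bs.length = ms.length →
    k < ms.length → (∀ j < ms.length, (ms.getD j 0).testBit p = decide (j = k)) →
    (maskOf ms bs).testBit p = bs.getD k false
  | [], _, p, k, _, hk, _ => by simp at hk
  | _ :: _, [], p, k, hl, _, _ => by simp at hl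
  | m :: ms, b :: bs, p, 0, hl, _, h => by
    rw [maskOf, Nat.testBit_xor, maskOf_testBit ms bs p fun j hj => by
      simpa using h (j + 1) (by simpa using hj)]
    have := h 0 (by simp)
    cases b <;> simp_all
  | m :: ms, b :: bs, p, k + 1, hl, hk, h => by
    rw [maskOf, Nat.testBit_xor, maskOf_pivot ms bs p k (by simpa using hl) (by simpa using hk)
      fun j hj => by simpa using h (j + 1) (by simpa using hj)]
    have := h 0 (by simp)
    cases b <;> simp_all

/-- **Covering theorem.** -/
theorem cover (hok : C.ok = true) (hFmem : ∀ F ∈ C.fixed, vecOf F ∈ leechLattice)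
    (hcount : C.target.ncard = C.total) (x : ↥leechLattice) (hx : (x : GolayPt → ℤ) ∈ C.target) :
    ∃ g : ↥Co0, C.Fixes g ∧ ∃ c ∈ C.classes,
      ((g • x : ↥leechLattice) : GolayPt → ℤ) = vecOf c.tgt := by
  classical
  simp only [ok, Bool.and_eq_true, decide_eq_true_eq] at hok
  obtain ⟨⟨hbase, hnodes⟩, hsize⟩ := hok
  simp only [baseOk, Bool.and_eq_true, List.all_eq_true, decide_eq_true_eq, beq_iff_eq] at hbase
  obtain ⟨⟨⟨⟨⟨⟨hN, hgens⟩, hlgens⟩, hgfix⟩, hlenF⟩, -⟩, hclasses⟩ := hbase
  have hnode : ∀ i < C.size, C.nodeOk i = true := fun i hi =>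
    of_allUpTo hnodes i (Nat.zero_le _) (by omega)
  have hcls : ∀ i < C.size, C.clsAt i ∈ C.classes := fun i hi => by
    have := hnode i hi
    simp only [nodeOk, force_eq, Bool.and_eq_true, decide_eq_true_eq] at this
    rw [clsAt, List.getD_eq_getElem _ _ this.1.1]
    exact List.getElem_mem _
  -- each node is reached from the representative of its class
  have hreach : ∀ d i, i < C.size → C.nDep i = d → ∃ g : ↥Co0, C.Fixes g ∧
      ∀ v : ↥leechLattice, (v : GolayPt → ℤ) ∈ C.target →
        C.vKey (v : GolayPt → ℤ) = sKey C.ref (C.clsAt i).x0 →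
        C.vKey ((g • v : ↥leechLattice) : GolayPt → ℤ) = C.nKey i := by
    intro d
    induction d using Nat.strong_induction_on with
    | _ d ih =>
      intro i hi hd
      have := hnode i hi
      simp only [nodeOk, force_eq, Bool.and_eq_true, decide_eq_true_eq] at this
      by_cases h0 : C.nDep i = 0
      · rw [if_pos h0, beq_iff_eq] at this
        exact ⟨1, fun F _ v _ => one_smul _ v, fun v _ hk => by rw [one_smul, hk, this.2]⟩
      · simp only [if_neg h0, Bool.and_eq_true, decide_eq_true_eq, beq_iff_eq] at this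
        obtain ⟨-, ⟨⟨⟨hp, hdep⟩, hc⟩, hg⟩, hk⟩ := this
        obtain ⟨g₀, hg₀, hg₀k⟩ := ih _ (hd ▸ hdep) (C.nPar i) hp rfl
        have hgg : genGood (C.gens.getD (C.nGen i) (0, 0, 0)) = true := by
          rw [List.getD_eq_getElem _ _ hg]; exact hgens _ (List.getElem_mem hg)
        obtain ⟨e, he⟩ := exists_gen hgg
        have hef : C.Fixes e := by
          refine C.fixes_of_list hlenF (f := actMono (C.gens.getD (C.nGen i) (0, 0, 0))) (fun v => ?_) ?_
          · rw [he, vec_fixed (by simp [actMono])]
          · rw [List.getD_eq_getElem _ _ hg]; exact (hgfix _ (List.getElem_mem hg)).1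
        refine ⟨e * g₀, hef.mul C hg₀, fun v hv hvk => ?_⟩
        rw [mul_smul, C.vKey_gen hN hgg (by rw [List.getD_eq_getElem _ _ hg]; exact (hgfix _ (List.getElem_mem hg)).2) he
          (C.target_smul hg₀ hFmem hv),
          hg₀k v hv (by rw [hvk]; simp only [clsAt, hc]), hk]
  choose! gn hgnfix hgnkey using fun i (hi : i < C.size) => hreach _ i hi rfl
  -- sign elements
  have hsign : ∀ c ∈ C.classes, ∀ bs : List Bool, ∃ s : ↥Co0, C.Fixes s ∧
      ∀ v : ↥leechLattice, ((s • v : ↥leechLattice) : GolayPt → ℤ)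
        = signedPerm 1 (setOf24 (maskOf c.signs bs)) (v : GolayPt → ℤ) := by
    intro c hc bs
    have hco := hclasses c hc
    simp only [classOk, Bool.and_eq_true, List.all_eq_true] at hco
    have hm : ∀ m ∈ c.signs, inCode m = true := fun m hm => (hco.1.1.1.1.1.2 m hm).1
    obtain ⟨s, hs⟩ := exists_mono 1 (one_mem _) (setOf24 (maskOf c.signs bs))
      ⟨_, maskOf_mem _ _ hm, (support₂_wordOf _)⟩
    refine ⟨s, fun F hF v hv => Subtype.ext ?_, hs⟩
    rw [hs, hv]
    funext q
    simp only [signedPerm, Equiv.Perm.one_symm, Equiv.Perm.coe_one, id_eq, mem_setOf24]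
    split_ifs with hb
    · have hz : vecOf F q = 0 := by
        by_contra hne
        have hf : ∀ j < c.signs.length, (c.signs.getD j 0).testBit (enc q) = false := fun j hj => by
          have h := (hco.1.1.1.1.1.2 _ (List.getElem_mem hj)).2 F (List.mem_cons_of_mem _ hF) (enc q) (List.mem_finRange _)
          rw [List.getD_eq_getElem _ _ hj]
          simp only [vecOf] at hne
          simp only [Bool.or_eq_true, beq_iff_eq, Bool.not_eq_true'] at h
          exact h.resolve_left hne
        rw [maskOf_testBit _ _ _ hf] at hb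
        exact absurd hb (by simp)
      rw [hz, neg_zero]
    · rfl
  choose! sg hsgfix hsg using hsign
  -- the family of vectors
  let rk : ℕ → ℕ := fun i => (C.clsAt i).signs.length
  let D : Finset (Σ i : ℕ, (Fin (rk i) → Bool)) := (Finset.range C.size).sigma fun _ => Finset.univ
  have hx0 : ∀ i < C.size, vecOf (C.clsAt i).x0 ∈ C.target := fun i hi =>
    C.mem_lattice_of_class (hclasses _ (hcls i hi))
  let E : (Σ i : ℕ, (Fin (rk i) → Bool)) → GolayPt → ℤ := fun p =>
    if h : p.1 < C.size then
      ((gn p.1 • (sg (C.clsAt p.1) (List.ofFn p.2) • (⟨vecOf (C.clsAt p.1).x0, (hx0 p.1 h).1⟩ :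
        ↥leechLattice)) : ↥leechLattice) : GolayPt → ℤ)
    else 0
  have hkey : ∀ (i : ℕ) (hi : i < C.size) (bs : List Bool),
      C.vKey ((sg (C.clsAt i) bs • (⟨_, (hx0 i hi).1⟩ : ↥leechLattice) : ↥leechLattice) : GolayPt → ℤ)
        = sKey C.ref (C.clsAt i).x0 := by
    intro i hi bs
    rw [hsg _ (hcls i hi)]
    have hlen : (C.clsAt i).x0.length = 24 := by
      have := hclasses _ (hcls i hi)
      simp only [classOk, Bool.and_eq_true, beq_iff_eq] at this
      exact this.1.1.1.1.1.1.1.1.1.1.1.1.1
    simp only [vKey, sKey]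
    refine congrArg keyList (List.map_congr_left fun j _ => ?_)
    rw [listOf_getD]
    simp only [signedPerm, Equiv.Perm.one_symm, Equiv.Perm.coe_one, id_eq, vecOf, mem_setOf24,
      Equiv.apply_symm_apply]
    split_ifs with hb
    · have hco := hclasses _ (hcls i hi)
      simp only [classOk, Bool.and_eq_true, List.all_eq_true] at hco
      have hz : C.ref.getD j 0 = 0 := by
        by_contra hne
        have hf : ∀ k < (C.clsAt i).signs.length, ((C.clsAt i).signs.getD k 0).testBit j = false := fun k hk => by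
          have h := (hco.1.1.1.1.1.2 _ (List.getElem_mem hk)).2 C.ref (List.mem_cons_self ..) j (List.mem_finRange _)
          rw [List.getD_eq_getElem _ _ hk]
          simp only [Bool.or_eq_true, beq_iff_eq, Bool.not_eq_true'] at h
          exact h.resolve_left hne
        rw [maskOf_testBit _ _ _ hf] at hb
        exact absurd hb (by simp)
      rw [hz, dig, dig, Int.natAbs_neg, mul_zero, mul_zero]
    · rfl
  have hE : ∀ p ∈ D, E p ∈ C.target ∧ C.vKey (E p) = C.nKey p.1 := by
    intro p hp
    have hi : p.1 < C.size := Finset.mem_range.mp (Finset.mem_sigma.mp hp).1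
    have hs := C.target_smul (hsgfix _ (hcls _ hi) (List.ofFn p.2)) hFmem
      (v := ⟨vecOf (C.clsAt p.1).x0, (hx0 p.1 hi).1⟩) (hx0 p.1 hi)
    simp only [E, dif_pos hi]
    exact ⟨C.target_smul (hgnfix _ hi) hFmem hs, hgnkey _ hi _ hs (hkey _ hi _)⟩
  have hinj : Set.InjOn E (D : Set (Σ i : ℕ, (Fin (rk i) → Bool))) := by
    rintro ⟨i, a⟩ hp ⟨j, b⟩ hq he
    have hi : i < C.size := Finset.mem_range.mp (Finset.mem_sigma.mp hp).1
    have hj : j < C.size := Finset.mem_range.mp (Finset.mem_sigma.mp hq).1
    have hk : C.nKey i = C.nKey j := by rw [← (hE _ hp).2, ← (hE _ hq).2, he]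
    have hmono : StrictMonoOn C.nKey (Set.Iio C.size) := by
      refine strictMonoOn_of_lt_succ Set.ordConnected_Iio fun a _ ha ha' => ?_
      rw [Order.succ_eq_add_one] at ha' ⊢
      simp only [Set.mem_Iio] at ha ha'
      have := hnode a ha
      simp only [nodeOk, force_eq, Bool.and_eq_true, Bool.or_eq_true, decide_eq_true_eq] at this
      rcases this.1.2 with h | h
      · omega
      · exact h
    obtain rfl : i = j := hmono.injOn (Set.mem_Iio.mpr hi) (Set.mem_Iio.mpr hj) hk
    simp only [E, dif_pos hi] at he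
    have he' := smul_left_cancel (gn i) (Subtype.ext he)
    have he'' := congrArg (Subtype.val : ↥leechLattice → GolayPt → ℤ) he'
    rw [hsg _ (hcls i hi), hsg _ (hcls i hi)] at he''
    refine Sigma.ext rfl (heq_of_eq (funext fun k => ?_))
    have hco := hclasses _ (hcls i hi)
    simp only [classOk, Bool.and_eq_true, List.all_eq_true, decide_eq_true_eq, beq_iff_eq,
      List.mem_range, bne_iff_ne] at hco
    obtain ⟨⟨⟨⟨⟨⟨⟨-, hlenp⟩, -⟩, hpiv⟩, hech⟩, -⟩, -⟩, -⟩ := hco
    have hkp : (k : ℕ) < (C.clsAt i).pivots.length := hlenp ▸ k.isLt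
    obtain ⟨hp24, hne⟩ := hpiv _ (List.getElem_mem hkp)
    have hbit : ∀ bs : Fin (rk i) → Bool,
        (maskOf (C.clsAt i).signs (List.ofFn bs)).testBit ((C.clsAt i).pivots[(k : ℕ)]) = bs k := by
      intro bs
      rw [maskOf_pivot (C.clsAt i).signs (List.ofFn bs) _ k (by simp [rk]) k.isLt]
      · rw [List.getD_eq_getElem _ _ (by simp [k.isLt]), List.getElem_ofFn]
      · intro j hj
        have := hech j hj k k.isLt
        rw [List.getD_eq_getElem _ _ hkp] at this
        rw [this]
        by_cases hjk : j = (k : ℕ) <;> simp [hjk]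
    have h := congrFun he'' (enc.symm ⟨_, hp24⟩)
    simp only [signedPerm, Equiv.Perm.one_symm, Equiv.Perm.coe_one, id_eq, mem_setOf24,
      Equiv.apply_symm_apply, hbit, vecOf] at h
    cases ha : a k <;> cases hb : b k <;> simp only [ha, hb, if_true, Bool.false_eq_true, if_false] at h ⊢ <;>
      first
      | rfl
      | exact absurd (by linarith) hne
  have hcard : D.card = C.total := by
    rw [total, sumHalf_eq _ _ _ _ (le_of_lt (lt_trans hsize (by norm_num))), Finset.card_sigma, Finset.range_eq_Ico]
    simp only [zero_add]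
    exact Finset.sum_congr rfl fun i _ => by
      simp [weight, rk]
  have hsub : E '' (D : Set (Σ i : ℕ, (Fin (rk i) → Bool))) ⊆ C.target := by
    rintro _ ⟨p, hp, rfl⟩
    exact (hE p hp).1
  have hfin : C.target.Finite := by
    refine (Set.Finite.pi fun _ : GolayPt => Set.finite_Icc (-(C.N : ℤ)) C.N).subset ?_
    intro y hy q _
    have h1 : y q ^ 2 ≤ sqNorm y := Finset.single_le_sum (fun i _ => sq_nonneg (y i)) (Finset.mem_univ q)
    rw [hy.2.1] at h1
    have h2 := Int.le_self_sq (y q)
    have h3 := Int.le_self_sq (-(y q))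
    rw [neg_sq] at h3
    exact ⟨by linarith, by linarith⟩
  have heq : E '' (D : Set (Σ i : ℕ, (Fin (rk i) → Bool))) = C.target :=
    Set.eq_of_subset_of_ncard_le hsub (by
      rw [hinj.ncard_image, Set.ncard_coe_finset, hcard, hcount]) hfin
  rw [← heq] at hx
  obtain ⟨p, hp, hpx⟩ := hx
  have hi : p.1 < C.size := Finset.mem_range.mp (Finset.mem_sigma.mp hp).1
  simp only [E, dif_pos hi] at hpx
  have hc := hcls _ hi
  have hco := hclasses _ hc
  simp only [classOk, Bool.and_eq_true, beq_iff_eq] at hco
  obtain ⟨⟨⟨-, hw⟩, hlink⟩, hlfix⟩ := hco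
  obtain ⟨w, hwg⟩ := exists_word (List.all_eq_true.mpr hlgens) hw
  refine ⟨w * ((sg (C.clsAt p.1) (List.ofFn p.2))⁻¹ * (gn p.1)⁻¹),
    (C.fixes_of_list hlenF hwg hlfix).mul C (((hsgfix _ hc _).inv C).mul C ((hgnfix _ hi).inv C)),
    C.clsAt p.1, hc, ?_⟩
  have hxe : x = gn p.1 • (sg (C.clsAt p.1) (List.ofFn p.2) •
      (⟨vecOf (C.clsAt p.1).x0, (hx0 p.1 hi).1⟩ : ↥leechLattice)) := Subtype.ext hpx.symm
  rw [mul_smul, mul_smul, hxe, inv_smul_smul, inv_smul_smul, ← vecOf_listOf ((w • _ : ↥leechLattice) : GolayPt → ℤ),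
    hwg]
  have hlen : (C.clsAt p.1).x0.length = 24 := by
    have := hclasses _ hc
    simp only [classOk, Bool.and_eq_true, beq_iff_eq] at this
    exact this.1.1.1.1.1.1.1.1.1.1.1.1.1
  rw [show listOf (vecOf (C.clsAt p.1).x0) = (C.clsAt p.1).x0 from vec_fixed hlen, hlink]

end OCert

end Cfsg.Agent.Lib.Leech
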