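import Cfsg.Agent.Lib.Leech.Crosses

/-!
The stabiliser of the standard cross is the monomial group; hence the order and the centre of the
automorphism group.
-/

set_option autoImplicit false

namespace Cfsg.Agent.Lib.Leech

open Cfsg
open Cfsg.Agent.Lib.Compute
open scoped Pointwise

theorem two_ind_leech {s : Finset GolayPt} (hs : s ∈ octads) :
    (fun p : GolayPt => if p ∈ s then (2 : ℤ) else 0) ∈ leechLattice := by
  obtain ⟨hsup, h8⟩ := hs
  rw [supports_golayCode] at hsup
  obtain ⟨m, hm, rfl⟩ := hsup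
  refine lattice_of_form (p := 0) (by norm_num) hm (fun q => ?_) ?_
  · by_cases h : q ∈ setOf24 m
    · rw [if_pos h, mem_setOf24.mp h]; rfl
    · have hb : m.testBit (enc q) = false := by simpa [mem_setOf24] using h
      rw [if_neg h, hb]; rfl
  · rw [Finset.sum_ite_mem, Finset.univ_inter, Finset.sum_const, h8]; rfl

theorem single_eight_mem (i : GolayPt) : (Pi.single i (8 : ℤ) : GolayPt → ℤ) ∈ leechLattice := by
  refine lattice_of_form (p := 0) (m := 0) (by norm_num) (mem_codeList_of_inCode (by decide +kernel))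
    (fun q => ?_) ?_
  · by_cases h : q = i
    · subst h; rw [Pi.single_eq_same, Nat.zero_testBit]; rfl
    · rw [Pi.single_eq_of_ne h, Nat.zero_testBit]; rfl
  · rw [Finset.sum_pi_single']; simp

/-- `8 eᵢ` in the lattice. -/
def eightAt (i : GolayPt) : ↥leechLattice := ⟨Pi.single i 8, single_eight_mem i⟩

/-- An automorphism is additive. -/
def co0Hom (g : ↥Co0) : ↥leechLattice →+ ↥leechLattice :=
  AddMonoidHom.mk' (fun v => g • v) g.2.1

theorem co0_sum (g : ↥Co0) {ι : Type*} (s : Finset ι) (f : ι → ↥leechLattice) :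
    g • (∑ i ∈ s, f i) = ∑ i ∈ s, g • f i := map_sum (co0Hom g) f s

theorem co0_zsmul (g : ↥Co0) (n : ℤ) (v : ↥leechLattice) : g • (n • v) = n • (g • v) :=
  map_zsmul (co0Hom g) n v

theorem signedPerm_single (σ : Equiv.Perm GolayPt) (c : Finset GolayPt) (i : GolayPt) (a : ℤ) :
    signedPerm σ c (Pi.single i a) = Pi.single (σ i) (if σ i ∈ c then -a else a) := by
  funext q
  by_cases h : q = σ i
  · subst h
    simp [signedPerm]
  · have : σ.symm q ≠ i := fun e => h (by rw [← e, Equiv.apply_symm_apply])
    simp [signedPerm, Pi.single_eq_of_ne h, Pi.single_eq_of_ne this]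

/-- The action of an automorphism permuting the frame of `8 eᵢ` up to sign. -/
theorem frame_apply (g : ↥Co0) (π : Equiv.Perm GolayPt) (c : Finset GolayPt)
    (hg : ∀ i, ((g • eightAt i : ↥leechLattice) : GolayPt → ℤ)
      = Pi.single (π i) (if π i ∈ c then (-8 : ℤ) else 8)) (v : ↥leechLattice) :
    ((g • v : ↥leechLattice) : GolayPt → ℤ) = signedPerm π c (v : GolayPt → ℤ) := by
  have h8 : (8 : ℤ) • v = ∑ i, (v : GolayPt → ℤ) i • eightAt i := by
    refine Subtype.ext (funext fun q => ?_)
    simp only [AddSubgroup.coe_zsmul, AddSubgroup.val_finsetSum, Finset.sum_apply, Pi.smul_apply,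
      smul_eq_mul, eightAt]
    rw [Finset.sum_eq_single q (fun i _ hi => by rw [Pi.single_eq_of_ne (Ne.symm hi), mul_zero])
      (fun h => absurd (Finset.mem_univ _) h), Pi.single_eq_same, mul_comm]
  have h := congrArg (fun u : ↥leechLattice => ((g • u : ↥leechLattice) : GolayPt → ℤ)) h8
  simp only [co0_zsmul, co0_sum, AddSubgroup.coe_zsmul, AddSubgroup.val_finsetSum] at h
  funext q
  have hq := congrFun h q
  simp only [Pi.smul_apply, smul_eq_mul, Finset.sum_apply, hg] at hq
  rw [Finset.sum_eq_single (π.symm q) (fun i _ hi => by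
      rw [Pi.single_eq_of_ne (fun e => hi (by rw [e, Equiv.symm_apply_apply])), mul_zero])
    (fun h => absurd (Finset.mem_univ _) h), Equiv.apply_symm_apply, Pi.single_eq_same] at hq
  show _ = if q ∈ c then -(v : GolayPt → ℤ) (π.symm q) else (v : GolayPt → ℤ) (π.symm q)
  split_ifs at hq ⊢ <;> linarith

/-- The permutation of a frame preserving automorphism lies in `M24`, and the negated set is a support. -/
theorem frame_data (g : ↥Co0) (π : Equiv.Perm GolayPt) (c : Finset GolayPt)
    (hg : ∀ v : ↥leechLattice, ((g • v : ↥leechLattice) : GolayPt → ℤ) = signedPerm π c (v : GolayPt → ℤ)) :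
    π ∈ M24 ∧ c ∈ supports (golayCode : Set (GolayPt → ZMod 2)) := by
  have hclass : ∀ {x : GolayPt → ℤ}, x ∈ leechLattice → ∀ k : ℤ,
      (Finset.univ.filter fun i => x i ≡ k [ZMOD 4]) ∈ supports (golayCode : Set (GolayPt → ZMod 2)) := by
    intro x hx
    rw [← SetLike.mem_coe, coe_leechLattice] at hx
    obtain ⟨m, -, -, h⟩ := hx
    exact h
  have hπ : π ∈ M24 := by
    rw [← setSystemAut_octads, MulAction.mem_stabilizer_iff]
    refine Set.eq_of_subset_of_ncard_le ?_ (by rw [Set.ncard_smul_set]) (Set.toFinite _)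
    rintro _ ⟨o, ho, rfl⟩
    have h2 := hclass (g • (⟨_, two_ind_leech ho⟩ : ↥leechLattice)).2 2
    rw [hg] at h2
    have e : (Finset.univ.filter fun i =>
        signedPerm π c (fun p : GolayPt => if p ∈ o then (2 : ℤ) else 0) i ≡ 2 [ZMOD 4]) = π • o := by
      ext q
      rw [Finset.mem_filter, Finset.mem_smul_finset]
      simp only [Finset.mem_univ, true_and, signedPerm, Equiv.Perm.smul_def]
      constructor
      · intro h
        refine ⟨π.symm q, ?_, Equiv.apply_symm_apply _ _⟩
        by_contra hno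
        simp [hno, Int.ModEq] at h
      · rintro ⟨p, hp, rfl⟩
        rw [Equiv.symm_apply_apply, if_pos hp]
        split_ifs <;> decide
    rw [e] at h2
    exact ⟨h2, by rw [Finset.card_smul_finset]; exact ho.2⟩
  refine ⟨hπ, ?_⟩
  have h3 := hclass (g • (⟨_, Cfsg.Agent.Lib.ThreeTransp.oddVec_mem⟩ : ↥leechLattice)).2 3
  rw [hg] at h3
  have e : (Finset.univ.filter fun i =>
      signedPerm π c Cfsg.Agent.Lib.ThreeTransp.oddVec i ≡ 3 [ZMOD 4]) = c := by
    ext q
    rw [Finset.mem_filter]
    simp only [Finset.mem_univ, true_and, signedPerm, Cfsg.Agent.Lib.ThreeTransp.oddVec]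
    by_cases hq : q ∈ c <;> simp only [hq, if_true, if_false] <;> split_ifs <;> decide
  rwa [e] at h3

theorem mem_stdCross_iff {y : GolayPt → ℤ} :
    y ∈ stdCross ↔ ∃ (i : GolayPt) (s : ℤ), (s = 8 ∨ s = -8) ∧ y = Pi.single i s := Iff.rfl

/-- An automorphism preserving the standard cross is monomial. -/
theorem exists_frame (g : ↥Co0) (hg : ∀ v : ↥leechLattice, (v : GolayPt → ℤ) ∈ stdCross →
      ((g • v : ↥leechLattice) : GolayPt → ℤ) ∈ stdCross) :
    ∃ π ∈ M24, ∃ c ∈ supports (golayCode : Set (GolayPt → ZMod 2)),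
      ∀ v : ↥leechLattice, ((g • v : ↥leechLattice) : GolayPt → ℤ) = signedPerm π c (v : GolayPt → ℤ) := by
  classical
  choose p s hs hps using fun i => mem_stdCross_iff.mp (hg (eightAt i) ⟨i, 8, Or.inl rfl, rfl⟩)
  have hinj : Function.Injective p := fun i j hij => by
    have hi := hps i
    have hj := hps j
    rw [hij] at hi
    have key : ∀ (a b : GolayPt) (x y : ℤ), (x = 8 ∨ x = -8) → (y = 8 ∨ y = -8) →
        (Pi.single a x : GolayPt → ℤ) = Pi.single b y → a = b := by
      intro a b x y hx hy h
      by_contra hne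
      have := congrFun h a
      rw [Pi.single_eq_same, Pi.single_eq_of_ne hne] at this
      omega
    rcases hs i with e | e <;> rcases hs j with e' | e'
    · have h' : g • eightAt i = g • eightAt j := Subtype.ext (by rw [hi, hj, e, e'])
      exact key i j 8 8 (Or.inl rfl) (Or.inl rfl) (congrArg Subtype.val (smul_left_cancel g h'))
    · have h' : g • eightAt i = g • (-eightAt j) := Subtype.ext (by
        rw [co0_neg, AddSubgroup.coe_neg, hi, hj, e, e', ← Pi.single_neg]; norm_num)
      refine key i j 8 (-8) (Or.inl rfl) (Or.inr rfl) ?_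
      rw [Pi.single_neg]
      exact congrArg Subtype.val (smul_left_cancel g h')
    · have h' : g • eightAt i = g • (-eightAt j) := Subtype.ext (by
        rw [co0_neg, AddSubgroup.coe_neg, hi, hj, e, e', ← Pi.single_neg])
      refine key i j 8 (-8) (Or.inl rfl) (Or.inr rfl) ?_
      rw [Pi.single_neg]
      exact congrArg Subtype.val (smul_left_cancel g h')
    · have h' : g • eightAt i = g • eightAt j := Subtype.ext (by rw [hi, hj, e, e'])
      exact key i j 8 8 (Or.inl rfl) (Or.inl rfl) (congrArg Subtype.val (smul_left_cancel g h'))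
  let π : Equiv.Perm GolayPt := Equiv.ofBijective p (Finite.injective_iff_bijective.mp hinj)
  let c : Finset GolayPt := Finset.univ.filter fun q => s (π.symm q) = -8
  have happ := frame_apply g π c fun i => by
    rw [hps i]
    show (Pi.single (p i) (s i) : GolayPt → ℤ) = Pi.single (π i) _
    have : π i ∈ c ↔ s i = -8 := by simp [c]
    rcases hs i with e | e
    · rw [if_neg (by rw [this, e]; norm_num), e]; rfl
    · rw [if_pos (this.mpr e), e]; rfl
  obtain ⟨hπ, hc⟩ := frame_data g π c happ
  exact ⟨π, hπ, c, hc, happ⟩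

theorem preserves_of_signedPerm (g : ↥Co0) (π : Equiv.Perm GolayPt) (c : Finset GolayPt)
    (hg : ∀ v : ↥leechLattice, ((g • v : ↥leechLattice) : GolayPt → ℤ) = signedPerm π c (v : GolayPt → ℤ))
    (v : ↥leechLattice) (hv : (v : GolayPt → ℤ) ∈ stdCross) :
    ((g • v : ↥leechLattice) : GolayPt → ℤ) ∈ stdCross := by
  obtain ⟨i, s, hs, hvs⟩ := hv
  rw [hg, hvs, signedPerm_single]
  refine ⟨_, _, ?_, rfl⟩
  split_ifs <;> omega

theorem signedPerm_inj {π π' : Equiv.Perm GolayPt} {c c' : Finset GolayPt}
    (h : ∀ i, signedPerm π c (Pi.single i 8) = signedPerm π' c' (Pi.single i 8)) : π = π' ∧ c = c' := by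
  have hπ : π = π' := Equiv.ext fun i => by
    have := congrFun (h i) (π i)
    rw [signedPerm_single, signedPerm_single, Pi.single_eq_same] at this
    by_contra hne
    rw [Pi.single_eq_of_ne hne] at this
    split_ifs at this <;> omega
  subst hπ
  refine ⟨rfl, Finset.ext fun q => ?_⟩
  have := congrFun (h (π.symm q)) q
  rw [signedPerm_single, signedPerm_single, Equiv.apply_symm_apply, Pi.single_eq_same, Pi.single_eq_same] at this
  by_cases h1 : q ∈ c <;> by_cases h2 : q ∈ c' <;> simp_all

theorem card_frame_stabilizer :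
    Nat.card {g : ↥Co0 // ∀ v : ↥leechLattice, (v : GolayPt → ℤ) ∈ stdCross →
      ((g • v : ↥leechLattice) : GolayPt → ℤ) ∈ stdCross} = 4096 * 244823040 := by
  classical
  let T : Type := {c : Finset GolayPt // c ∈ supports (golayCode : Set (GolayPt → ZMod 2))} × ↥M24
  have hmono : ∀ t : T, ∃ g : ↥Co0, ∀ v : ↥leechLattice,
      ((g • v : ↥leechLattice) : GolayPt → ℤ) = signedPerm (t.2 : Equiv.Perm GolayPt) t.1.1 (v : GolayPt → ℤ) :=
    fun t => exists_mono _ t.2.2 _ t.1.2
  choose mk hmk using hmono
  have hcard : Nat.card T = 4096 * 244823040 := by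
    rw [Nat.card_prod, card_M24]
    congr 1
    rw [← card_golayCode]
    refine (Nat.card_eq_of_bijective
      (fun w : ↥golayCode => (⟨support₂ (w : GolayPt → ZMod 2), ⟨w, w.2, rfl⟩⟩ :
        {c : Finset GolayPt // c ∈ supports (golayCode : Set (GolayPt → ZMod 2))})) ⟨?_, ?_⟩).symm
    · intro a b h
      exact Subtype.ext (support₂_injective (congrArg Subtype.val h))
    · rintro ⟨c, w, hw, rfl⟩
      exact ⟨⟨w, hw⟩, rfl⟩
  rw [← hcard]
  refine (Nat.card_eq_of_bijective (fun t : T => (⟨mk t, preserves_of_signedPerm _ _ _ (hmk t)⟩ :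
    {g : ↥Co0 // ∀ v : ↥leechLattice, (v : GolayPt → ℤ) ∈ stdCross →
      ((g • v : ↥leechLattice) : GolayPt → ℤ) ∈ stdCross})) ⟨?_, ?_⟩).symm
  · intro a b h
    have h' : mk a = mk b := congrArg Subtype.val h
    obtain ⟨e1, e2⟩ := signedPerm_inj (π := (a.2 : Equiv.Perm GolayPt)) (π' := (b.2 : Equiv.Perm GolayPt))
      (c := a.1.1) (c' := b.1.1) fun i => by
        have h1 := hmk a (eightAt i)
        rw [h', hmk b (eightAt i)] at h1
        exact h1.symm
    exact Prod.ext (Subtype.ext e2) (Subtype.ext e1)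
  · rintro ⟨g, hg⟩
    obtain ⟨π, hπ, c, hc, happ⟩ := exists_frame g hg
    refine ⟨(⟨c, hc⟩, ⟨π, hπ⟩), Subtype.ext (Subtype.ext (Equiv.ext fun v => Subtype.ext ?_))⟩
    exact (hmk _ v).trans (happ v).symm

/-- The vectors of squared length 64 in a class. -/
def crossSet (q : ModTwo) : Set ↥leechLattice := {x | sqNorm (x : GolayPt → ℤ) = 64 ∧ cls x = q}

theorem smul_cls {g : ↥Co0} {x y : ↥leechLattice} (h : cls x = cls y) : cls (g • x) = cls (g • y) := by
  obtain ⟨z, hz, e⟩ := cls_eq_iff.mp h
  refine cls_eq_iff.mpr ⟨_, (g • (⟨z, hz⟩ : ↥leechLattice)).2, ?_⟩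
  have hx : x = y + (⟨z, hz⟩ + ⟨z, hz⟩) := Subtype.ext (by
    rw [AddSubgroup.coe_add, AddSubgroup.coe_add]
    rw [two_nsmul] at e
    rw [← e]; abel)
  have := congrArg (fun u : ↥leechLattice => ((co0Hom g u : ↥leechLattice) : GolayPt → ℤ)) hx
  simp only [map_add, AddSubgroup.coe_add] at this
  show ((co0Hom g x : ↥leechLattice) : GolayPt → ℤ) - ((co0Hom g y : ↥leechLattice) : GolayPt → ℤ) = _
  rw [this, two_nsmul]
  show _ = ((co0Hom g ⟨z, hz⟩ : ↥leechLattice) : GolayPt → ℤ) + ((co0Hom g ⟨z, hz⟩ : ↥leechLattice) : GolayPt → ℤ)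
  abel

theorem smul_crossSet (g : ↥Co0) (x : ↥leechLattice) :
    g • crossSet (cls x) = crossSet (cls (g • x)) := by
  ext y
  constructor
  · rintro ⟨u, ⟨hu, huq⟩, rfl⟩
    exact ⟨by show sqNorm ((g • u : ↥leechLattice) : GolayPt → ℤ) = 64; rw [co0_sqNorm]; exact hu,
      smul_cls huq⟩
  · rintro ⟨hy, hyq⟩
    refine ⟨g⁻¹ • y, ⟨by rw [co0_sqNorm]; exact hy, ?_⟩, smul_inv_smul g y⟩
    have := smul_cls (g := g⁻¹) hyq
    rwa [inv_smul_smul] at this

theorem sqNorm_eightAt (i : GolayPt) : sqNorm ((eightAt i : ↥leechLattice) : GolayPt → ℤ) = 64 := by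
  simp [eightAt, sqNorm, Pi.single_apply, ite_pow]

theorem eightAt_congr (i j : GolayPt) : cls (eightAt i) = cls (eightAt j) := by
  have hmem : (Pi.single i (4 : ℤ) - Pi.single j 4 : GolayPt → ℤ) ∈ leechLattice := by
    rcases eq_or_ne i j with rfl | hne
    · rw [sub_self]; exact zero_mem _
    refine lattice_of_form (p := 0) (m := 0) (by norm_num) (mem_codeList_of_inCode (by decide +kernel))
      (fun q => ?_) ?_
    · rw [Nat.zero_testBit, Pi.sub_apply]
      by_cases h : q = i
      · subst h; rw [Pi.single_eq_same, Pi.single_eq_of_ne hne]; rfl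
      · by_cases h' : q = j
        · subst h'; rw [Pi.single_eq_same, Pi.single_eq_of_ne h]; rfl
        · rw [Pi.single_eq_of_ne h, Pi.single_eq_of_ne h']; rfl
    · simp
  refine cls_eq_iff.mpr ⟨_, hmem, ?_⟩
  funext q
  simp only [eightAt, Pi.sub_apply, Pi.smul_apply, Pi.single_apply, nsmul_eq_mul, Nat.cast_ofNat]
  split_ifs <;> ring

theorem crossSet_std :
    crossSet (cls (eightAt none)) = {x : ↥leechLattice | (x : GolayPt → ℤ) ∈ stdCross} := by
  classical
  symm
  refine Set.eq_of_subset_of_ncard_le ?_ ?_ ?_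
  · rintro x ⟨i, s, hs, hxs⟩
    rcases hs with rfl | rfl
    · have : x = eightAt i := Subtype.ext hxs
      rw [this]
      exact ⟨sqNorm_eightAt i, eightAt_congr i none⟩
    · have : x = -eightAt i := Subtype.ext (by rw [hxs, Pi.single_neg]; rfl)
      rw [this]
      refine ⟨by rw [AddSubgroup.coe_neg, ThreeTransp.sqNorm_neg']; exact sqNorm_eightAt i, ?_⟩
      rw [← eightAt_congr i none]
      refine cls_eq_iff.mpr ⟨-(eightAt i : GolayPt → ℤ), neg_mem (eightAt i).2, ?_⟩
      rw [AddSubgroup.coe_neg, two_nsmul]; abel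
  · have e1 : (crossSet (cls (eightAt none))).ncard = 48 := by
      rw [← classes_covered.2 _ (mem_layer.mpr (sqNorm_eightAt none)), ← Set.ncard_coe_finset]
      congr 1
      ext x
      simp [crossSet, mem_layer]
    rw [e1]
    let f : GolayPt × Bool → ↥leechLattice := fun p => if p.2 then eightAt p.1 else -eightAt p.1
    have hf : Function.Injective f := by
      rintro ⟨i, a⟩ ⟨j, b⟩ h
      have := congrFun (congrArg Subtype.val h) i
      cases a <;> cases b <;> simp [f, eightAt, Pi.single_apply] at this ⊢ <;>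
        first
        | assumption
        | exact this.symm
        | (split_ifs at this <;> omega)
    calc 48 = (Set.range f).ncard := by
          rw [Set.ncard_range_of_injective hf, Nat.card_eq_fintype_card]; rfl
      _ ≤ _ := by
        refine Set.ncard_le_ncard ?_ ((finite_norm' 64).subset ?_)
        · rintro _ ⟨⟨i, b⟩, rfl⟩
          cases b
          · exact ⟨i, -8, Or.inr rfl, by simp [f, eightAt, Pi.single_neg]⟩
          · exact ⟨i, 8, Or.inl rfl, rfl⟩
        · rintro x ⟨i, s, hs, hxs⟩
          show sqNorm (x : GolayPt → ℤ) = 64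
          rw [hxs]
          rcases hs with rfl | rfl <;> simp [sqNorm, Pi.single_apply, ite_pow]
  · exact (finite_norm' 64).subset fun x hx => hx.1

/-- The order of the automorphism group. -/
theorem card_co0 : Nat.card Co0 = 8315553613086720000 := by
  classical
  set K : Set ↥leechLattice := crossSet (cls (eightAt none)) with hK
  have hKfin : K.Finite := (finite_norm' 64).subset fun x hx => hx.1
  have hstab : Nat.card (MulAction.stabilizer ↥Co0 K) = 4096 * 244823040 := by
    rw [← card_frame_stabilizer]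
    refine Nat.card_congr (Equiv.subtypeEquivRight fun g => ?_)
    rw [MulAction.mem_stabilizer_iff, hK, crossSet_std]
    constructor
    · intro h v hv
      have : g • v ∈ g • ({x : ↥leechLattice | (x : GolayPt → ℤ) ∈ stdCross}) := Set.smul_mem_smul_set hv
      rwa [h] at this
    · intro h
      refine Set.eq_of_subset_of_ncard_le (fun y hy => ?_) (by rw [Set.ncard_smul_set]) (crossSet_std ▸ hKfin)
      obtain ⟨u, hu, rfl⟩ := hy
      exact h u hu
  have horb : (MulAction.orbit ↥Co0 K).ncard = 8292375 := by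
    have e : MulAction.orbit ↥Co0 K = crossSet '' (((layer 64).image cls : Finset ModTwo) : Set ModTwo) := by
      ext S
      simp only [MulAction.mem_orbit_iff, Set.mem_image, Finset.mem_coe, Finset.mem_image, mem_layer]
      constructor
      · rintro ⟨g, rfl⟩
        exact ⟨_, ⟨g • eightAt none, by rw [co0_sqNorm]; exact sqNorm_eightAt none, rfl⟩,
          (smul_crossSet g _).symm⟩
      · rintro ⟨q, ⟨y, hy, rfl⟩, rfl⟩
        obtain ⟨g, hg⟩ := exists_co0_cross (eightAt none) y (sqNorm_eightAt none) hy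
        exact ⟨g, by rw [hK, smul_crossSet, hg]⟩
    rw [e, Set.InjOn.ncard_image, Set.ncard_coe_finset]
    · have h : ∀ q ∈ (layer 64).image cls, ((layer 64).filter fun x => cls x = q).card = 48 := by
        intro q hq
        obtain ⟨x, hx, rfl⟩ := Finset.mem_image.mp hq
        exact classes_covered.2 x hx
      have h2 := Finset.card_eq_sum_card_image cls (layer 64)
      rw [Finset.sum_congr rfl h, Finset.sum_const, smul_eq_mul] at h2
      have h3 : (layer 64).card = 398034000 := by rw [card_layer]; exact ncard_four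
      omega
    · intro a ha b hb hab
      obtain ⟨x, hx, rfl⟩ := Finset.mem_image.mp ha
      have : x ∈ crossSet b := hab ▸ (⟨mem_layer.mp hx, rfl⟩ : x ∈ crossSet (cls x))
      exact this.2
  rw [← Subgroup.card_mul_index (MulAction.stabilizer ↥Co0 K), MulAction.index_stabilizer, hstab, horb]

theorem separated : ∀ i j : Fin 24, i ≠ j →
    codeList.any (fun m => !m.testBit i && m.testBit j) = true := by decide +kernel

theorem m24_transitive (i j : GolayPt) : ∃ σ ∈ M24, σ i = j := by
  have h1 : MulAction.IsPretransitive ↥M24 GolayPt := by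
    rw [← MulAction.is_one_pretransitive_iff]
    haveI := M24_multiplyPretransitive
    exact MulAction.isMultiplyPretransitive_of_le (n := 5) (by norm_num) (by rw [Nat.card_eq_fintype_card]; decide)
  obtain ⟨σ, hσ⟩ := h1.exists_smul_eq i j
  exact ⟨σ, σ.2, hσ⟩

/-- The centre consists of the two scalars. -/
theorem card_center : Nat.card (Subgroup.center ↥Co0) = 2 := by
  classical
  obtain ⟨n, hn⟩ := exists_mono 1 (one_mem _) Finset.univ Cfsg.Spor.univ_mem_supports_golayCode
  have hneg : ∀ v : ↥leechLattice, n • v = -v := fun v => Subtype.ext (by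
    rw [hn, AddSubgroup.coe_neg]
    funext q
    simp [signedPerm, Equiv.Perm.one_symm])
  have hne : n ≠ 1 := fun e => by
    have := congrFun (congrArg Subtype.val (hneg (eightAt none))) none
    rw [e, one_smul] at this
    simp [eightAt] at this
  have hcenter : ∀ z : ↥Co0, z ∈ Subgroup.center ↥Co0 → z = 1 ∨ z = n := by
    intro z hz
    have hframe : ∀ i, ((z • eightAt i : ↥leechLattice) : GolayPt → ℤ)
        = Pi.single i (((z • eightAt i : ↥leechLattice) : GolayPt → ℤ) i) := by
      intro i
      funext q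
      by_cases hq : q = i
      · subst hq; rw [Pi.single_eq_same]
      rw [Pi.single_eq_of_ne hq]
      obtain ⟨m, hm, hb⟩ := List.any_eq_true.mp (separated (enc i) (enc q)
        fun e => hq (enc.injective e).symm)
      simp only [Bool.and_eq_true, Bool.not_eq_true'] at hb
      obtain ⟨s, hs⟩ := exists_mono 1 (one_mem _) (setOf24 m) (by rw [supports_golayCode]; exact ⟨m, hm, rfl⟩)
      have hfix : s • eightAt i = eightAt i := Subtype.ext (by
        rw [hs]
        show signedPerm 1 (setOf24 m) (Pi.single i 8) = Pi.single i 8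
        rw [signedPerm_single]
        simp [mem_setOf24, hb.1])
      have hcomm : s • (z • eightAt i) = z • eightAt i := by
        rw [← mul_smul, (Subgroup.mem_center_iff.mp hz s), mul_smul, hfix]
      have h1 := congrFun (congrArg Subtype.val hcomm) q
      rw [hs] at h1
      simp only [signedPerm, Equiv.Perm.one_symm, Equiv.Perm.coe_one, id_eq, mem_setOf24, hb.2, if_true] at h1
      omega
    have hval : ∀ i, ((z • eightAt i : ↥leechLattice) : GolayPt → ℤ) i = 8 ∨
        ((z • eightAt i : ↥leechLattice) : GolayPt → ℤ) i = -8 := by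
      intro i
      have h := co0_sqNorm z (eightAt i)
      rw [sqNorm_eightAt, hframe i, sqNorm] at h
      simp [Pi.single_apply, ite_pow] at h
      exact sq_eq_sq_iff_eq_or_eq_neg.mp (by rw [h]; norm_num)
    have hsame : ∀ i j, ((z • eightAt i : ↥leechLattice) : GolayPt → ℤ) i
        = ((z • eightAt j : ↥leechLattice) : GolayPt → ℤ) j := by
      intro i j
      obtain ⟨σ, hσ, hij⟩ := m24_transitive i j
      obtain ⟨g, hg⟩ := exists_mono σ hσ ∅ Cfsg.Spor.empty_mem_supports_golayCode
      have hgi : g • eightAt i = eightAt j := Subtype.ext (by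
        rw [hg]
        show signedPerm σ ∅ (Pi.single i 8) = Pi.single j 8
        rw [signedPerm_single, hij]; simp)
      rw [← hgi, ← mul_smul, ← (Subgroup.mem_center_iff.mp hz g), mul_smul, hg, hframe i,
        signedPerm_single, hij, Pi.single_eq_same]
      simp
    rcases hval none with h0 | h0
    · left
      refine Subtype.ext (Equiv.ext fun v => Subtype.ext ?_)
      show ((z • v : ↥leechLattice) : GolayPt → ℤ) = (v : GolayPt → ℤ)
      rw [frame_apply z 1 ∅ (fun i => by rw [hframe i, hsame i none, h0]; simp) v]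
      funext q; simp [signedPerm, Equiv.Perm.one_symm]
    · right
      refine Subtype.ext (Equiv.ext fun v => ?_)
      show z • v = n • v
      rw [hneg]
      refine Subtype.ext ?_
      rw [frame_apply z 1 Finset.univ (fun i => by rw [hframe i, hsame i none, h0]; simp) v]
      funext q; simp [signedPerm, Equiv.Perm.one_symm]
  have hnmem : n ∈ Subgroup.center ↥Co0 := Subgroup.mem_center_iff.mpr fun g =>
    Subtype.ext (Equiv.ext fun v => by
      show g • (n • v) = n • (g • v)
      rw [hneg, hneg, co0_neg])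
  have hset : (Subgroup.center ↥Co0 : Set ↥Co0) = {1, n} := by
    ext z
    exact ⟨fun hz => (hcenter z hz).elim (fun e => Or.inl e) (fun e => Or.inr e),
      fun hz => hz.elim (fun e => e ▸ one_mem _) (fun e => e ▸ hnmem)⟩
  rw [← SetLike.coe_sort_coe, Nat.card_coe_set_eq, hset, Set.ncard_pair (Ne.symm hne)]

end Cfsg.Agent.Lib.Leech
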