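import Cfsg.Agent.Lib.Leech.StabBase

/-!
# Joint stabilisers of two vectors fixed by an element of order 11
-/

set_option autoImplicit false

namespace Cfsg.Agent.Lib.Leech

open Cfsg Equiv Cfsg.Agent.Lib.Compute Cfsg.Agent.Lib.M24Geom
open scoped Pointwise

/-- The cycle of a point under the element of order 11: its representative. -/
def elevenRep (i : Fin 24) : Fin 24 :=
  if i = 9 then 9 else if i = 23 then 23
  else if ([0, 1, 2, 3, 20, 19, 18, 10, 12, 11, 16] : List (Fin 24)).contains i then 0 else 4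

theorem eleven_reach : ∀ i : Fin 24, i ≠ 9 → i ≠ 23 →
    ((List.range 11).any fun k => (app elevenP)^[k] (elevenRep i : ℕ) == (i : ℕ)) = true := by
  decide +kernel

theorem eleven_coords {u : ↥leechLattice} (h : permHom elevenE • u = u) (i : Fin 24) :
    (u : GolayPt → ℤ) (enc.symm i) = (u : GolayPt → ℤ) (enc.symm (elevenRep i)) := by
  by_cases h9 : i = 9
  · subst h9; rfl
  by_cases h23 : i = 23
  · subst h23; rfl
  obtain ⟨k, -, hk⟩ := List.any_eq_true.1 (eleven_reach i h9 h23)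
  exact const_chain (elemOk_spec (by norm_num) eleven_ok.1).1 _ (apply_eq_of_fixed h) k _ i
    (beq_iff_eq.1 hk)

theorem isSimpleGroup_stab_pair {a b : GolayPt} (h : a ≠ b) :
    IsSimpleGroup ↥(MulAction.stabilizer ↥M24 a ⊓ MulAction.stabilizer ↥M24 b) := by
  obtain ⟨e⟩ := stabilizer_two_equiv h
  have := isSimpleGroup_cert2
  exact e.symm.isSimpleGroup

theorem card_stab_pair {a b : GolayPt} (h : a ≠ b) :
    Nat.card ↥(MulAction.stabilizer ↥M24 a ⊓ MulAction.stabilizer ↥M24 b) = 443520 := by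
  obtain ⟨e⟩ := stabilizer_two_equiv h
  rw [← Nat.card_congr e.toEquiv, card_cert2]

/-- Order of a joint stabiliser from transitivity on the partners. -/
theorem card_pair_stabilizer {N : ℕ} (v w : ↥leechLattice) (P : (GolayPt → ℤ) → Prop)
    (hPw : P w) (hP : ∀ g : ↥Co0, g • v = v → ∀ x : ↥leechLattice, P x → P ((g • x : ↥leechLattice) : GolayPt → ℤ))
    (hcount : {x : GolayPt → ℤ | x ∈ leechLattice ∧ P x}.ncard = N)
    (htrans : ∀ x : ↥leechLattice, P x → ∃ g : ↥Co0, g • v = v ∧ g • w = x) :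
    Nat.card ↥(MulAction.stabilizer ↥Co0 v ⊓ MulAction.stabilizer ↥Co0 w) * N =
      Nat.card (MulAction.stabilizer ↥Co0 v) := by
  set S := MulAction.stabilizer ↥Co0 v
  rw [← Subgroup.card_mul_index ((MulAction.stabilizer ↥Co0 w).subgroupOf S)]
  congr 1
  · refine Nat.card_congr ?_
    exact (Subgroup.subgroupOfEquivOfLe (inf_le_left (b := MulAction.stabilizer ↥Co0 w))).toEquiv.symm.trans
      (Equiv.subtypeEquivRight fun g => by simp [Subgroup.mem_subgroupOf, S])
  · rw [show (MulAction.stabilizer ↥Co0 w).subgroupOf S = MulAction.stabilizer ↥S w from rfl,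
      MulAction.index_stabilizer, ← hcount,
      ← Set.ncard_image_of_injective (MulAction.orbit ↥S w) Subtype.val_injective]
    congr 1
    ext x
    constructor
    · rintro ⟨hx, hxP⟩
      obtain ⟨g, hgv, hgw⟩ := htrans ⟨x, hx⟩ hxP
      exact ⟨⟨x, hx⟩, ⟨⟨g, hgv⟩, hgw⟩, rfl⟩
    · rintro ⟨y, ⟨g, rfl⟩, rfl⟩
      exact ⟨((g : ↥Co0) • w).2, hP g g.2 w hPw⟩

/-- The permutations inside a joint stabiliser. -/
theorem permHom_mem_pair {π : ↥M24} {a b : GolayPt} (hπ : π ∈ MulAction.stabilizer ↥M24 a ⊓ MulAction.stabilizer ↥M24 b)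
    (w : ↥leechLattice) {t : ℤ} (hw : ∀ q, q ≠ a → q ≠ b → (w : GolayPt → ℤ) q = t) :
    permHom π • w = w := by
  have ha : (π : Perm GolayPt) a = a := hπ.1
  have hb : (π : Perm GolayPt) b = b := hπ.2
  refine Subtype.ext (funext fun q => ?_)
  rw [permHom_apply]
  by_cases hqa : q = a
  · rw [hqa, (Equiv.symm_apply_eq (π : Perm GolayPt)).2 ha.symm]
  by_cases hqb : q = b
  · rw [hqb, (Equiv.symm_apply_eq (π : Perm GolayPt)).2 hb.symm]
  rw [hw q hqa hqb, hw _ (fun e => hqa (by rw [← ha, ← e, Equiv.apply_symm_apply]))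
    (fun e => hqb (by rw [← hb, ← e, Equiv.apply_symm_apply]))]

/-- An element of the joint stabiliser fixing the frame vector is a permutation fixing both points. -/
theorem mem_map_pair (g : ↥Co0) {a b : GolayPt} (v w : ↥leechLattice) {s : ℤ} (hs : s ≠ 0)
    (hv : ∀ q, q ≠ a → (v : GolayPt → ℤ) q = s) (hab : b ≠ a)
    (hb : ∀ q, q ≠ a → (w : GolayPt → ℤ) q = (w : GolayPt → ℤ) b → q = b)
    (ha : g • eightAt a = eightAt a) (hgv : g • v = v) (hgw : g • w = w) :
    g ∈ (MulAction.stabilizer ↥M24 a ⊓ MulAction.stabilizer ↥M24 b).map permHom := by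
  obtain ⟨π, hπ, rfl⟩ := perm_of_fix g a v hs hv ha hgv
  refine Subgroup.mem_map_of_mem _ ⟨hπ, hb _ (fun e => hab (π.1.injective (e.trans hπ.symm))) ?_⟩
  have h := congrFun (congrArg Subtype.val hgw) ((π : Perm GolayPt) b)
  rw [permHom_apply, Equiv.symm_apply_apply] at h
  exact h.symm

end Cfsg.Agent.Lib.Leech
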