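import Cfsg.Agent.Lib.Leech.Multi

/-!
Shortest vectors with given inner product against a vector of the second shell, by double counting.
-/

set_option autoImplicit false

namespace Cfsg.Agent.Lib.Leech

open Cfsg
open Cfsg.Agent.Lib.Compute

theorem dotInt_symm (x y : GolayPt → ℤ) : dotInt x y = dotInt y x :=
  Finset.sum_congr rfl fun _ _ => mul_comm _ _

theorem ncard_three_dot (v : ↥leechLattice) (hv : sqNorm (v : GolayPt → ℤ) = 48) (d : ℤ) (hd : -64 ≤ d)
    (hd' : d ≤ 64) (h4 : d % 4 = 0) (m : ℕ)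
    (hm : total wFour clFour (48 * 33 + (d / 4 + 16).toNat) histFour = m) :
    {x : GolayPt → ℤ | x ∈ leechLattice ∧ sqNorm x = 32 ∧ dotInt (v : GolayPt → ℤ) x = d}.ncard * 16773120
      = 196560 * m := by
  classical
  have f3 : {x : GolayPt → ℤ | x ∈ leechLattice ∧ sqNorm x = 48}.Finite :=
    Set.finite_of_ncard_ne_zero (by rw [ncard_three]; norm_num)
  have f2 : {x : GolayPt → ℤ | x ∈ leechLattice ∧ sqNorm x = 32}.Finite :=
    Set.finite_of_ncard_ne_zero (by rw [ncard_min]; norm_num)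
  obtain ⟨S3, hS3, hc3⟩ : ∃ S : Finset (GolayPt → ℤ), (∀ x, x ∈ S ↔ x ∈ leechLattice ∧ sqNorm x = 48) ∧
      S.card = 16773120 :=
    ⟨f3.toFinset, fun _ => f3.mem_toFinset, by rw [← Set.ncard_eq_toFinset_card _ f3, ncard_three]⟩
  obtain ⟨S2, hS2, hc2⟩ : ∃ S : Finset (GolayPt → ℤ), (∀ x, x ∈ S ↔ x ∈ leechLattice ∧ sqNorm x = 32) ∧
      S.card = 196560 :=
    ⟨f2.toFinset, fun _ => f2.mem_toFinset, by rw [← Set.ncard_eq_toFinset_card _ f2, ncard_min]⟩
  generalize (16773120 : ℕ) = T3 at hc3 ⊢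
  generalize (196560 : ℕ) = T2 at hc2 ⊢
  have key : ∑ u ∈ S3, (S2.filter fun x => dotInt u x = d).card
      = ∑ x ∈ S2, (S3.filter fun u => dotInt u x = d).card :=
    Finset.sum_card_bipartiteAbove_eq_sum_card_bipartiteBelow (fun u x => dotInt u x = d)
  have hup : ∀ u ∈ S3, (S2.filter fun x => dotInt u x = d).card
      = {x : GolayPt → ℤ | x ∈ leechLattice ∧ sqNorm x = 32 ∧ dotInt (v : GolayPt → ℤ) x = d}.ncard := by
    intro u hu
    rw [hS3] at hu
    obtain ⟨g, hg⟩ := exists_co0_three v ⟨u, hu.1⟩ hv hu.2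
    rw [ncard_transfer g _ _ hg 32 d, ← Set.ncard_coe_finset]
    refine congrArg Set.ncard (Set.ext fun x => ?_)
    simp [hS2, and_assoc]
  have hdown : ∀ x ∈ S2, (S3.filter fun u => dotInt u x = d).card = m := by
    intro x hx
    rw [hS2] at hx
    obtain ⟨g, hg⟩ := exists_co0_min ⟨x, hx.1⟩ ⟨vecOf baseFour, baseFour_mem⟩ hx.2 (by decide +kernel)
    have h48 := ncard_dot_four 48 (by norm_num) d hd hd' h4
    rw [hm] at h48
    push_cast at h48
    rw [← ncard_transfer g _ _ hg 48 d] at h48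
    rw [← h48, ← Set.ncard_coe_finset]
    refine congrArg Set.ncard (Set.ext fun u => ?_)
    simp [hS3, and_assoc, dotInt_symm x u]
  rw [Finset.sum_congr rfl hup, Finset.sum_congr rfl hdown, Finset.sum_const, Finset.sum_const,
    smul_eq_mul, smul_eq_mul] at key
  rw [hc3, hc2] at key
  rw [mul_comm]; exact key

theorem cancel_count {a b T : ℕ} (hT : T ≠ 0) {c : ℕ} (h : a * T = c) (hc : c = b * T) : a = b :=
  mul_right_cancel₀ hT (h.trans hc)

theorem total_four_48_24 : total wFour clFour (48 * 33 + 22) histFour = 47104 := by decide +kernel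

theorem total_four_48_16 : total wFour clFour (48 * 33 + 12) histFour = 953856 := by decide +kernel

theorem ncard_three_24 (v : ↥leechLattice) (hv : sqNorm (v : GolayPt → ℤ) = 48) :
    {x : GolayPt → ℤ | x ∈ leechLattice ∧ sqNorm x = 32 ∧ dotInt (v : GolayPt → ℤ) x = 24}.ncard = 552 := by
  have h := ncard_three_dot v hv 24 (by norm_num) (by norm_num) (by norm_num) 47104 total_four_48_24
  exact cancel_count (by norm_num) h (by norm_num)

theorem ncard_three_16 (v : ↥leechLattice) (hv : sqNorm (v : GolayPt → ℤ) = 48) :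
    {x : GolayPt → ℤ | x ∈ leechLattice ∧ sqNorm x = 32 ∧ dotInt (v : GolayPt → ℤ) x = -16}.ncard = 11178 := by
  have h := ncard_three_dot v hv (-16) (by norm_num) (by norm_num) (by norm_num) 953856 (by rw [show ((-16 : ℤ) / 4 + 16).toNat = 12 from rfl]; exact total_four_48_16)
  exact cancel_count (by norm_num) h (by norm_num)

end Cfsg.Agent.Lib.Leech
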