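import Cfsg.Agent.Lib.Leech.Pairs
import Cfsg.Agent.Lib.Leech.DotThreeData

/-!
# Shortest vectors with inner product -16 against a vector of the second length
-/

set_option autoImplicit false

namespace Cfsg.Agent.Lib.Leech

open Cfsg
open Cfsg.Agent.Lib.Compute

theorem baseFive_facts : sqNorm (vecOf baseFive) = 48 ∧
    (∀ q : GolayPt, vecOf baseFive q = if enc q = 23 then -5 else -1) := by decide +kernel

theorem baseFive_mem : vecOf baseFive ∈ leechLattice :=
  lattice_of_form (p := 1) (m := 0xffffff) (by norm_num) (mem_codeList_of_inCode (by decide +kernel))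
    (by decide +kernel) (by decide +kernel)

/-- The two classes of coordinates against `baseFive`. -/
def clFive : Fin 24 → ℕ := fun i => if i = 23 then 1 else 0

/-- The weight `2x² + (x + v)²`. -/
def wFive : ℕ → ℤ → ℕ
  | 0, x => (2 * x ^ 2 + (x - 1) ^ 2).toNat
  | _, x => (2 * x ^ 2 + (x - 5) ^ 2).toNat

/-- The histogram of code words against `baseFive`. -/
def histFive : List (ℕ × ℕ) := [(0x0, 1), (0x149f, 506), (0x6fdd, 1288), (0x7dbfd, 253), (0x800c75, 253), (0x807737, 1288), (0x83ff5b, 506), (0xffffff, 1)]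

theorem histFive_ok : histOk clFive 2 histFive = true := by decide +kernel

theorem total_five : total wFive clFive 112 histFive = 11178 := by decide +kernel

theorem sum_wFive (x : GolayPt → ℤ) :
    ((∑ q, wFive (clFive (enc q)) (x q) : ℕ) : ℤ) =
      3 * sqNorm x + 2 * dotInt (vecOf baseFive) x + 48 := by
  have hq : ∀ q, ((wFive (clFive (enc q)) (x q) : ℕ) : ℤ) =
      2 * x q ^ 2 + (x q + vecOf baseFive q) ^ 2 := by
    intro q
    rw [baseFive_facts.2 q]
    simp only [clFive]
    split_ifs <;> simp only [wFive] <;>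
      rw [Int.toNat_of_nonneg (by nlinarith [sq_nonneg (x q)])] <;> ring
  rw [Nat.cast_sum]
  simp only [hq, sqNorm, dotInt, Finset.mul_sum, ← baseFive_facts.1]
  rw [← Finset.sum_add_distrib, ← Finset.sum_add_distrib]
  refine Finset.sum_congr rfl fun q _ => ?_
  ring

theorem ncard_five_sixteen :
    {x : GolayPt → ℤ | x ∈ leechLattice ∧ sqNorm x = 32 ∧ dotInt (vecOf baseFive) x = -16}.ncard = 11178 := by
  rw [← total_five, ← ncard_eq_total wFive clFive 2 112 histFive histFive_ok]
  refine congrArg Set.ncard (Set.ext fun x => ?_)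
  simp only [Set.mem_ofPred_eq]
  have hk := sum_wFive x
  constructor
  · rintro ⟨hx, hs, hd⟩
    exact ⟨hx, coord_sq_le hs (by norm_num), by omega⟩
  · rintro ⟨hx, -, hs⟩
    have hy : x + vecOf baseFive ∈ leechLattice := add_mem hx baseFive_mem
    have e := sqNorm_add x (vecOf baseFive)
    rw [baseFive_facts.1] at e
    have hd : dotInt x (vecOf baseFive) = dotInt (vecOf baseFive) x :=
      Finset.sum_congr rfl fun q _ => mul_comm _ _
    have hx0 : x ≠ 0 := by
      intro h
      subst h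
      have h0 : sqNorm (0 : GolayPt → ℤ) = 0 := by simp [sqNorm]
      have h1 : dotInt (vecOf baseFive) (0 : GolayPt → ℤ) = 0 := by simp [dotInt]
      omega
    have hy0 : x + vecOf baseFive ≠ 0 := by
      intro h
      have h0 : sqNorm (x + vecOf baseFive) = 0 := by rw [h]; simp [sqNorm]
      have : x = -vecOf baseFive := eq_neg_of_add_eq_zero_left h
      have h1 : sqNorm x = 48 := by rw [this, ← baseFive_facts.1]; simp [sqNorm]
      omega
    have := thirtyTwo_le_sqNorm hx hx0
    have := thirtyTwo_le_sqNorm hy hy0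
    obtain ⟨a, ha⟩ := sixteen_dvd_sqNorm hx
    obtain ⟨b, hb⟩ := sixteen_dvd_sqNorm hy
    refine ⟨hx, ?_, ?_⟩ <;> omega

/-- The target of the certificate. -/
def tgtFive : List ℤ := [0, 0, 0, 0, 0, 0, 0, 0, 0, -4, 0, 0, 0, 0, 0, 0, 0, 0, 0, 0, 0, 0, 0, 4]

theorem exists_co0_five_sixteen (u u' : ↥leechLattice) (hu : sqNorm (u : GolayPt → ℤ) = 32)
    (hu' : sqNorm (u' : GolayPt → ℤ) = 32) (hd : dotInt (vecOf baseFive) (u : GolayPt → ℤ) = -16)
    (hd' : dotInt (vecOf baseFive) (u' : GolayPt → ℤ) = -16) :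
    ∃ g : ↥Co0, g • (⟨vecOf baseFive, baseFive_mem⟩ : ↥leechLattice) = ⟨vecOf baseFive, baseFive_mem⟩ ∧
      g • u = u' := by
  have hfix : dotThreeCert.fixed = [baseFive] := rfl
  have hset : dotThreeCert.target =
      {x : GolayPt → ℤ | x ∈ leechLattice ∧ sqNorm x = 32 ∧ dotInt (vecOf baseFive) x = -16} := by
    ext x
    simp [OCert.target, dotThreeCert, baseFive]
  have hcov := dotThreeCert.cover dotThreeCert_ok (by simp [hfix, baseFive_mem])
    (by rw [hset, ncard_five_sixteen, dotThreeCert_total])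
  have ht : dotThreeCert.classes.all (fun c => c.tgt == tgtFive) = true := by decide +kernel
  simp only [List.all_eq_true, beq_iff_eq] at ht
  obtain ⟨g, hgf, c, hc, hg⟩ := hcov (u : ↥leechLattice) (by rw [hset]; exact ⟨u.2, hu, hd⟩)
  obtain ⟨h, hhf, c', hc', hh⟩ := hcov (u' : ↥leechLattice) (by rw [hset]; exact ⟨u'.2, hu', hd'⟩)
  rw [ht c hc] at hg
  rw [ht c' hc'] at hh
  have hbF : baseFive ∈ dotThreeCert.fixed := by simp [hfix]
  refine ⟨h⁻¹ * g, ?_, ?_⟩
  · rw [mul_smul, hgf _ hbF _ rfl, (hhf.inv dotThreeCert) _ hbF _ rfl]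
  · rw [mul_smul, show g • u = h • u' from Subtype.ext (hg.trans hh.symm), inv_smul_smul]

end Cfsg.Agent.Lib.Leech
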