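import Cfsg.Agent.Lib.Leech.Count

/-!
The numbers of lattice vectors of the three smallest lengths.
-/

set_option autoImplicit false

namespace Cfsg.Agent.Lib.Leech

open Cfsg
open Cfsg.Agent.Lib.Compute

/-- The squared length as a weight. -/
def wSq : ℕ → ℤ → ℕ := fun _ x => (x ^ 2).toNat

theorem ncard_norm (n : ℕ) (hn : n ≤ 64) :
    {x : GolayPt → ℤ | x ∈ leechLattice ∧ sqNorm x = n}.ncard = total wSq clOne n histOne := by
  have hok : histOk clOne 1 histOne = true := by decide +kernel
  rw [← ncard_eq_total wSq clOne 1 n histOne hok]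
  refine congrArg Set.ncard (Set.ext fun x => ?_)
  simp only [Set.mem_ofPred_eq, wSq]
  constructor
  · rintro ⟨hx, h⟩
    refine ⟨hx, coord_sq_le h (by exact_mod_cast hn), ?_⟩
    have := sum_natAbs_sq x
    omega
  · rintro ⟨hx, -, h⟩
    refine ⟨hx, ?_⟩
    have := sum_natAbs_sq x
    omega

theorem total_32 : total wSq clOne 32 histOne = 196560 := by decide +kernel

theorem total_48 : total wSq clOne 48 histOne = 16773120 := by decide +kernel

theorem total_64 : total wSq clOne 64 histOne = 398034000 := by decide +kernel

theorem ncard_min : {x : GolayPt → ℤ | x ∈ leechLattice ∧ sqNorm x = 32}.ncard = 196560 := by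
  have := ncard_norm 32 (by norm_num)
  rw [total_32] at this
  exact_mod_cast this

theorem ncard_three : {x : GolayPt → ℤ | x ∈ leechLattice ∧ sqNorm x = 48}.ncard = 16773120 := by
  have := ncard_norm 48 (by norm_num)
  rw [total_48] at this
  exact_mod_cast this

theorem ncard_four : {x : GolayPt → ℤ | x ∈ leechLattice ∧ sqNorm x = 64}.ncard = 398034000 := by
  have := ncard_norm 64 le_rfl
  rw [total_64] at this
  exact_mod_cast this

end Cfsg.Agent.Lib.Leech
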